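import Mathlib
import Cfsg.Prelude.Def_Classical

set_option autoImplicit false

namespace Cfsg.Agent.Lib.Helper44

open Matrix

section basic

variable {F : Type*} [Field F]

/-- Diagonal quadratic function. -/
def dQ {ι : Type} [Fintype ι] (c : ι → F) (v : ι → F) : F := ∑ i, c i * v i ^ 2

/-- Orthogonal sum of two quadratic functions. -/
def sumQ {ι₁ ι₂ : Type} (Q₁ : (ι₁ → F) → F) (Q₂ : (ι₂ → F) → F) (v : ι₁ ⊕ ι₂ → F) : F :=
  Q₁ (fun i => v (Sum.inl i)) + Q₂ (fun i => v (Sum.inr i))

/-- The binary form `z₁² + a z₁ z₂ + b z₂²`. -/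
def binQ (a b : F) (z : Fin 2 → F) : F := z 0 ^ 2 + a * z 0 * z 1 + b * z 1 ^ 2

/-- Linear isometry between quadratic functions. -/
def QIso {ι ι' : Type} (Q : (ι → F) → F) (Q' : (ι' → F) → F) : Prop :=
  ∃ e : (ι → F) ≃ₗ[F] (ι' → F), ∀ v, Q' (e v) = Q v

theorem QIso.refl {ι : Type} (Q : (ι → F) → F) : QIso Q Q :=
  ⟨LinearEquiv.refl F _, fun _ => rfl⟩

theorem QIso.symm {ι ι' : Type} {Q : (ι → F) → F} {Q' : (ι' → F) → F} (h : QIso Q Q') :
    QIso Q' Q := by
  obtain ⟨e, he⟩ := h
  exact ⟨e.symm, fun v => by rw [← he, LinearEquiv.apply_symm_apply]⟩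

theorem QIso.trans {ι ι' ι'' : Type} {Q : (ι → F) → F} {Q' : (ι' → F) → F}
    {Q'' : (ι'' → F) → F} (h : QIso Q Q') (h' : QIso Q' Q'') : QIso Q Q'' := by
  obtain ⟨e, he⟩ := h
  obtain ⟨e', he'⟩ := h'
  exact ⟨e.trans e', fun v => by rw [LinearEquiv.trans_apply, he', he]⟩

theorem QIso.of_eq {ι : Type} {Q Q' : (ι → F) → F} (h : Q = Q') : QIso Q Q' := h ▸ QIso.refl Q

theorem mem_isometryGroup_iff' {ι : Type} [Fintype ι] [DecidableEq ι] (Q : (ι → F) → F)
    (g : GL ι F) : g ∈ Cfsg.isometryGroup F Q ↔ ∀ u, Q ((g : Matrix ι ι F) *ᵥ u) = Q u := by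
  constructor
  · intro h u
    exact h u u
  · intro h u _
    exact h u

/-- Isometric quadratic functions have isomorphic isometry groups. -/
theorem QIso.isometryGroup_equiv {ι ι' : Type} [Fintype ι] [DecidableEq ι] [Fintype ι']
    [DecidableEq ι'] {Q : (ι → F) → F} {Q' : (ι' → F) → F} (h : QIso Q Q') :
    Nonempty (↥(Cfsg.isometryGroup F Q) ≃* ↥(Cfsg.isometryGroup F Q')) := by
  obtain ⟨e, he⟩ := h
  let ψ : Matrix ι ι F ≃ₐ[F] Matrix ι' ι' F :=
    (Matrix.toLinAlgEquiv' (R := F) (n := ι)).trans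
      ((e.conjAlgEquiv F).trans (Matrix.toLinAlgEquiv' (R := F) (n := ι')).symm)
  let φ : GL ι F ≃* GL ι' F := Units.mapEquiv ψ.toMulEquiv
  have h1 : ∀ (M : Matrix ι ι F) (v : ι → F), (ψ M) *ᵥ (e v) = e (M *ᵥ v) := by
    intro M v
    rw [← Matrix.toLinAlgEquiv'_apply (ψ M)]
    show Matrix.toLinAlgEquiv' (Matrix.toLinAlgEquiv'.symm
      (e.conjAlgEquiv F (Matrix.toLinAlgEquiv' M))) (e v) = _
    rw [AlgEquiv.apply_symm_apply, LinearEquiv.conjAlgEquiv_apply]
    simp
  have hmat : ∀ (g : GL ι F) (v : ι → F),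
      ((φ g : GL ι' F) : Matrix ι' ι' F) *ᵥ (e v) = e ((g : Matrix ι ι F) *ᵥ v) :=
    fun g v => h1 _ v
  have hmap : (Cfsg.isometryGroup F Q).map φ.toMonoidHom = Cfsg.isometryGroup F Q' := by
    ext g'
    rw [Subgroup.mem_map_equiv, mem_isometryGroup_iff', mem_isometryGroup_iff']
    constructor
    · intro hg w
      obtain ⟨v, rfl⟩ := e.surjective w
      have h2 := hmat (φ.symm g') v
      rw [MulEquiv.apply_symm_apply] at h2
      rw [h2, he, he]
      exact hg v
    · intro hg v
      have h2 := hmat (φ.symm g') v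
      rw [MulEquiv.apply_symm_apply] at h2
      rw [← he, ← h2, hg, he]
  exact ⟨(φ.subgroupMap _).trans (MulEquiv.subgroupCongr hmap)⟩

/-- Reindexing a diagonal form. -/
theorem QIso_reindex {ι ι' : Type} [Fintype ι] [Fintype ι'] (e : ι ≃ ι') (c' : ι' → F) :
    QIso (dQ (fun i => c' (e i))) (dQ c') := by
  refine ⟨LinearEquiv.funCongrLeft F F e.symm, fun v => ?_⟩
  show ∑ j, c' j * (v (e.symm j)) ^ 2 = ∑ i, c' (e i) * v i ^ 2
  rw [← Equiv.sum_comp e]
  simp

theorem QIso_reindex' {ι ι' : Type} [Fintype ι] [Fintype ι'] (e : ι ≃ ι') (c : ι → F) :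
    QIso (dQ c) (dQ (fun j => c (e.symm j))) := by
  have := QIso_reindex e (fun j => c (e.symm j))
  simpa using this

/-- Orthogonal sums of isometric forms are isometric. -/
theorem QIso_sum {ι₁ ι₂ ι₁' ι₂' : Type} {Q₁ : (ι₁ → F) → F} {Q₂ : (ι₂ → F) → F}
    {Q₁' : (ι₁' → F) → F} {Q₂' : (ι₂' → F) → F} (h₁ : QIso Q₁ Q₁') (h₂ : QIso Q₂ Q₂') :
    QIso (sumQ Q₁ Q₂) (sumQ Q₁' Q₂') := by
  obtain ⟨e₁, he₁⟩ := h₁
  obtain ⟨e₂, he₂⟩ := h₂
  refine ⟨(LinearEquiv.sumArrowLequivProdArrow ι₁ ι₂ F F).trans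
    ((e₁.prodCongr e₂).trans (LinearEquiv.sumArrowLequivProdArrow ι₁' ι₂' F F).symm), fun v => ?_⟩
  show Q₁' (e₁ (fun i => v (Sum.inl i))) + Q₂' (e₂ (fun i => v (Sum.inr i))) = _
  rw [he₁, he₂]
  rfl

theorem dQ_sum_elim {ι₁ ι₂ : Type} [Fintype ι₁] [Fintype ι₂] (c₁ : ι₁ → F) (c₂ : ι₂ → F) :
    dQ (Sum.elim c₁ c₂) = sumQ (dQ c₁) (dQ c₂) := by
  funext v
  simp [dQ, sumQ, Fintype.sum_sum_type]

/-- Splitting a diagonal form along a decomposition of the index set. -/
theorem QIso_split {ι ι₁ ι₂ : Type} [Fintype ι] [Fintype ι₁] [Fintype ι₂] (E : ι₁ ⊕ ι₂ ≃ ι)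
    (c : ι → F) :
    QIso (dQ c) (sumQ (dQ (fun i => c (E (Sum.inl i)))) (dQ (fun i => c (E (Sum.inr i))))) := by
  have h1 := QIso_reindex E c
  have h2 : (fun i => c (E i)) = Sum.elim (fun i => c (E (Sum.inl i))) (fun i => c (E (Sum.inr i))) := by
    funext i
    rcases i with i | i <;> rfl
  rw [h2, dQ_sum_elim] at h1
  exact h1.symm

/-- Rescaling the coordinates. -/
theorem QIso_scale {ι : Type} [Fintype ι] (c c' s : ι → F) (hs : ∀ i, s i ≠ 0)
    (h : ∀ i, c i = s i ^ 2 * c' i) : QIso (dQ c) (dQ c') := by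
  refine ⟨{ toFun := fun v i => s i * v i
            invFun := fun v i => (s i)⁻¹ * v i
            map_add' := fun v w => by funext i; simp [mul_add]
            map_smul' := fun a v => by funext i; simp [mul_left_comm]
            left_inv := fun v => by funext i; simp [hs i]
            right_inv := fun v => by funext i; simp [hs i] }, fun v => ?_⟩
  show ∑ i, c' i * (s i * v i) ^ 2 = ∑ i, c i * v i ^ 2
  refine Finset.sum_congr rfl fun i _ => ?_
  rw [h i]
  ring

/-- The binary step: `⟨a₀, a₁⟩ ≅ ⟨z, a₀ a₁ z⟩` when `z` is represented. -/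
theorem QIso_binary (a : Fin 2 → F) (x y z : F) (hz : a 0 * x ^ 2 + a 1 * y ^ 2 = z)
    (hz0 : z ≠ 0) : QIso (dQ a) (dQ ![z, a 0 * a 1 * z]) := by
  apply QIso.symm
  refine ⟨{ toFun := fun u => ![x * u 0 - a 1 * y * u 1, y * u 0 + a 0 * x * u 1]
            invFun := fun v => ![(a 0 * x * v 0 + a 1 * y * v 1) / z, (- y * v 0 + x * v 1) / z]
            map_add' := fun v w => by
              funext i; fin_cases i <;> simp <;> ring
            map_smul' := fun c v => by
              funext i; fin_cases i <;> simp <;> ring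
            left_inv := fun u => by
              funext i
              fin_cases i
              · show (a 0 * x * (x * u 0 - a 1 * y * u 1) + a 1 * y * (y * u 0 + a 0 * x * u 1)) / z
                  = u 0
                rw [div_eq_iff hz0, ← hz]; ring
              · show (- y * (x * u 0 - a 1 * y * u 1) + x * (y * u 0 + a 0 * x * u 1)) / z = u 1
                rw [div_eq_iff hz0, ← hz]; ring
            right_inv := fun v => by
              funext i
              fin_cases i
              · show x * ((a 0 * x * v 0 + a 1 * y * v 1) / z)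
                  - a 1 * y * ((- y * v 0 + x * v 1) / z) = v 0
                field_simp
                rw [← hz]; ring
              · show y * ((a 0 * x * v 0 + a 1 * y * v 1) / z)
                  + a 0 * x * ((- y * v 0 + x * v 1) / z) = v 1
                field_simp
                rw [← hz]; ring }, fun u => ?_⟩
  show dQ a ![x * u 0 - a 1 * y * u 1, y * u 0 + a 0 * x * u 1] = dQ ![z, a 0 * a 1 * z] u
  simp only [dQ, Fin.sum_univ_two, Matrix.cons_val_zero, Matrix.cons_val_one]
  rw [← hz]; ring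

end basic

section finite

set_option linter.unusedSectionVars false

variable {F : Type*} [Field F] [Fintype F]

/-- Binary diagonal forms over finite fields of odd order are universal. -/
theorem exists_binary_rep (hF : Odd (Fintype.card F)) (a b z : F) (ha : a ≠ 0) (hb : b ≠ 0) :
    ∃ x y : F, a * x ^ 2 + b * y ^ 2 = z := by
  classical
  open Polynomial in
  have hf : (C a * X ^ 2 : F[X]).degree = 2 := degree_C_mul_X_pow 2 ha
  open Polynomial in
  have hg : (C b * X ^ 2 - C z : F[X]).degree = 2 := by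
    have h1 : (C z : F[X]).degree < (C b * X ^ 2 : F[X]).degree := by
      rw [degree_C_mul_X_pow 2 hb]
      exact lt_of_le_of_lt degree_C_le (by norm_num)
    rw [degree_sub_eq_left_of_degree_lt h1]
    exact degree_C_mul_X_pow 2 hb
  obtain ⟨x, y, hxy⟩ := FiniteField.exists_root_sum_quadratic hf hg (Nat.odd_iff.mp hF)
  refine ⟨x, y, ?_⟩
  simp only [Polynomial.eval_mul, Polynomial.eval_C, Polynomial.eval_pow, Polynomial.eval_X,
    Polynomial.eval_sub] at hxy
  linear_combination hxy

/-- The normal form `⟨1, …, 1, d⟩`. -/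
def nf (n : ℕ) (d : F) : Fin (n + 1) → F := fun i => if i = Fin.last n then d else 1

/-- `Fin k ⊕ Fin n ≃ Fin (n + k)`, first summand first. -/
def finSplit (k n : ℕ) : Fin k ⊕ Fin n ≃ Fin (n + k) :=
  finSumFinEquiv.trans (finCongr (Nat.add_comm k n))

theorem finSplit_inl (k n : ℕ) (i : Fin k) : ((finSplit k n (Sum.inl i) : Fin (n + k)) : ℕ) = i := by
  simp [finSplit]

theorem finSplit_inr (k n : ℕ) (j : Fin n) :
    ((finSplit k n (Sum.inr j) : Fin (n + k)) : ℕ) = k + j := by
  simp [finSplit]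
  omega

theorem QIso_cons {n : ℕ} (c c' : Fin (n + 1) → F) (h0 : c 0 = c' 0)
    (h : QIso (dQ (Fin.tail c)) (dQ (Fin.tail c'))) : QIso (dQ c) (dQ c') := by
  have e0 : ∀ i : Fin 1, finSplit 1 n (Sum.inl i) = 0 := by
    intro i
    apply Fin.ext
    rw [finSplit_inl]
    simp
  have e1 : ∀ j : Fin n, finSplit 1 n (Sum.inr j) = j.succ := by
    intro j
    apply Fin.ext
    rw [finSplit_inr]
    simp [add_comm]
  have s1 := QIso_split (finSplit 1 n) c
  have s2 := QIso_split (finSplit 1 n) c'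
  simp only [e0, e1] at s1 s2
  refine s1.trans (QIso.trans ?_ s2.symm)
  apply QIso_sum
  · rw [h0]
    exact QIso.refl _
  · exact h

theorem nf_tail (n : ℕ) (d : F) : Fin.tail (nf (n + 1) d) = nf n d := by
  funext i
  simp only [Fin.tail, nf]
  have : (i.succ = Fin.last (n + 1)) ↔ (i = Fin.last n) := by
    rw [← Fin.succ_last, Fin.succ_inj]
  simp only [this]

theorem nf_zero (n : ℕ) (d : F) : nf (n + 1) d 0 = 1 := by
  simp only [nf]
  rw [if_neg]
  intro h
  have := congrArg Fin.val h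
  simp at this

/-- Every diagonal form is isometric to its normal form. -/
theorem dQ_normal (hF : Odd (Fintype.card F)) :
    ∀ (n : ℕ) (c : Fin (n + 1) → F), (∀ i, c i ≠ 0) → QIso (dQ c) (dQ (nf n (∏ i, c i))) := by
  intro n
  induction n with
  | zero =>
    intro c _
    apply QIso.of_eq
    congr 1
    funext i
    have hi : i = Fin.last 0 := by
      apply Fin.ext
      have := i.2
      simp only [Fin.val_last]
      omega
    simp [nf, hi]
  | succ n ih =>
    intro c hc
    obtain ⟨x, y, hxy⟩ := exists_binary_rep hF (c 0) (c 1) 1 (hc 0) (hc 1)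
    -- split off the first two coordinates
    have e0 : finSplit 2 n (Sum.inl 0) = 0 := by
      apply Fin.ext; rw [finSplit_inl]; rfl
    have e1 : finSplit 2 n (Sum.inl 1) = 1 := by
      apply Fin.ext; rw [finSplit_inl]; rfl
    have hcl : (fun i : Fin 2 => c (finSplit 2 n (Sum.inl i))) = ![c 0, c 1] := by
      funext i
      fin_cases i
      · show c (finSplit 2 n (Sum.inl 0)) = c 0
        rw [e0]
      · show c (finSplit 2 n (Sum.inl 1)) = c 1
        rw [e1]
    have s1 := QIso_split (finSplit 2 n) c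
    rw [hcl] at s1
    have hb := QIso_binary ![c 0, c 1] x y 1 (by simpa using hxy) one_ne_zero
    simp only [Matrix.cons_val_zero, Matrix.cons_val_one, mul_one] at hb
    -- the new coefficient function
    obtain ⟨c₁, hc₁⟩ : ∃ c₁ : Fin (n + 2) → F, c₁ = fun j =>
        Sum.elim ![1, c 0 * c 1] (fun i => c (finSplit 2 n (Sum.inr i))) ((finSplit 2 n).symm j) :=
      ⟨_, rfl⟩
    have s2 := QIso_split (finSplit 2 n) c₁
    have hl : (fun i : Fin 2 => c₁ (finSplit 2 n (Sum.inl i))) = ![1, c 0 * c 1] := by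
      funext i
      rw [hc₁]
      simp
    have hr : (fun i : Fin n => c₁ (finSplit 2 n (Sum.inr i)))
        = fun i => c (finSplit 2 n (Sum.inr i)) := by
      funext i
      rw [hc₁]
      simp
    rw [hl, hr] at s2
    have s3 : QIso (dQ c) (dQ c₁) := s1.trans ((QIso_sum hb (QIso.refl _)).trans s2.symm)
    -- properties of c₁
    have hc₁0 : c₁ 0 = 1 := by
      rw [hc₁]
      show Sum.elim ![1, c 0 * c 1] _ ((finSplit 2 n).symm 0) = 1
      rw [← e0, Equiv.symm_apply_apply]
      rfl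
    have hprod : ∏ i, c₁ i = ∏ i, c i := by
      have p1 : ∏ i, c₁ i = ∏ j : Fin 2 ⊕ Fin n, c₁ (finSplit 2 n j) :=
        (Equiv.prod_comp (finSplit 2 n) c₁).symm
      have p2 : ∏ i, c i = ∏ j : Fin 2 ⊕ Fin n, c (finSplit 2 n j) :=
        (Equiv.prod_comp (finSplit 2 n) c).symm
      rw [p1, p2, Fintype.prod_sum_type, Fintype.prod_sum_type, hl, hr, Fin.prod_univ_two,
        Fin.prod_univ_two, e0, e1]
      simp
    have hc₁ne : ∀ i, c₁ i ≠ 0 := by
      intro i
      rw [hc₁]
      show Sum.elim ![1, c 0 * c 1] _ ((finSplit 2 n).symm i) ≠ 0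
      rcases (finSplit 2 n).symm i with j | j
      · fin_cases j
        · simp
        · simpa using mul_ne_zero (hc 0) (hc 1)
      · exact hc _
    have hptail : ∏ i, Fin.tail c₁ i = ∏ i, c i := by
      rw [← hprod, Fin.prod_univ_succ c₁, hc₁0, one_mul]
      rfl
    have s4 := ih (Fin.tail c₁) (fun i => hc₁ne _)
    rw [hptail, ← nf_tail] at s4
    exact s3.trans (QIso_cons c₁ _ (by rw [hc₁0, nf_zero]) s4)

/-- Classification of diagonal forms over a finite field of odd order: same dimension and same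
discriminant class. -/
theorem dQ_classify (hF : Odd (Fintype.card F)) {ι ι' : Type} [Fintype ι] [Fintype ι']
    (c : ι → F) (c' : ι' → F) (hc : ∀ i, c i ≠ 0) (hc' : ∀ i, c' i ≠ 0)
    (hcard : Fintype.card ι = Fintype.card ι') (hpos : 0 < Fintype.card ι) (s : F) (hs : s ≠ 0)
    (hprod : ∏ i, c i = s ^ 2 * ∏ i, c' i) : QIso (dQ c) (dQ c') := by
  obtain ⟨n, hn⟩ : ∃ n, Fintype.card ι = n + 1 := ⟨Fintype.card ι - 1, by omega⟩
  let e : ι ≃ Fin (n + 1) := Fintype.equivFinOfCardEq hn
  let e' : ι' ≃ Fin (n + 1) := Fintype.equivFinOfCardEq (hcard ▸ hn)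
  have h1 := (QIso_reindex' e c).trans (dQ_normal hF n (fun j => c (e.symm j)) (fun j => hc _))
  have h2 := (QIso_reindex' e' c').trans (dQ_normal hF n (fun j => c' (e'.symm j)) (fun j => hc' _))
  rw [Equiv.prod_comp e.symm c] at h1
  rw [Equiv.prod_comp e'.symm c'] at h2
  refine h1.trans (QIso.trans ?_ h2.symm)
  apply QIso_scale _ _ (fun i => if i = Fin.last n then s else 1)
  · intro i
    split_ifs
    · exact hs
    · exact one_ne_zero
  · intro i
    simp only [nf]
    split_ifs
    · exact hprod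
    · simp

end finite

section standard

variable {F : Type*} [Field F]

/-- The plus form is `⟨1, …, 1, -1, …, -1⟩`. -/
theorem plus_iso (h2 : (2 : F) ≠ 0) (m : ℕ) :
    QIso (Cfsg.quadFormPlus m F)
      (dQ (Sum.elim (fun _ : Fin m => (1 : F)) (fun _ : Fin m => (-1 : F)))) := by
  refine ⟨{ toFun := fun v => Sum.elim (fun i => (v (Sum.inl i) + v (Sum.inr i)) / 2)
              (fun i => (v (Sum.inl i) - v (Sum.inr i)) / 2)
            invFun := fun w => Sum.elim (fun i => w (Sum.inl i) + w (Sum.inr i))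
              (fun i => w (Sum.inl i) - w (Sum.inr i))
            map_add' := fun v w => by
              funext i; rcases i with i | i <;> simp <;> ring
            map_smul' := fun c v => by
              funext i; rcases i with i | i <;> simp <;> ring
            left_inv := fun v => by
              funext i; rcases i with i | i <;> simp <;> field_simp <;> ring
            right_inv := fun v => by
              funext i; rcases i with i | i <;> simp <;> field_simp <;> ring }, fun v => ?_⟩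
  show dQ _ (Sum.elim (fun i => (v (Sum.inl i) + v (Sum.inr i)) / 2)
      (fun i => (v (Sum.inl i) - v (Sum.inr i)) / 2)) = Cfsg.quadFormPlus m F v
  simp only [dQ, Cfsg.quadFormPlus, Fintype.sum_sum_type, Sum.elim_inl, Sum.elim_inr]
  rw [← Finset.sum_add_distrib]
  refine Finset.sum_congr rfl fun i _ => ?_
  field_simp
  ring

theorem odd_eq_sumQ (m : ℕ) :
    Cfsg.quadFormOdd m F = sumQ (dQ (fun _ : Unit => (1 : F))) (Cfsg.quadFormPlus m F) := by
  funext v
  simp [Cfsg.quadFormOdd, sumQ, dQ, Cfsg.quadFormPlus]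

theorem minus_eq_sumQ (m : ℕ) (a b : F) :
    Cfsg.quadFormMinus m F a b = sumQ (Cfsg.quadFormPlus m F) (binQ a b) := by
  funext v
  simp [Cfsg.quadFormMinus, sumQ, binQ, Cfsg.quadFormPlus]

theorem binQ_iso (h2 : (2 : F) ≠ 0) (a b : F) :
    QIso (binQ a b) (dQ ![1, b - a ^ 2 / 4]) := by
  refine ⟨{ toFun := fun z => ![z 0 + a / 2 * z 1, z 1]
            invFun := fun w => ![w 0 - a / 2 * w 1, w 1]
            map_add' := fun v w => by
              funext i; fin_cases i <;> simp <;> ring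
            map_smul' := fun c v => by
              funext i; fin_cases i <;> simp <;> ring
            left_inv := fun v => by
              funext i; fin_cases i <;> simp
            right_inv := fun v => by
              funext i; fin_cases i <;> simp }, fun z => ?_⟩
  show dQ ![1, b - a ^ 2 / 4] ![z 0 + a / 2 * z 1, z 1] = binQ a b z
  simp only [dQ, binQ, Fin.sum_univ_two, Matrix.cons_val_zero, Matrix.cons_val_one]
  have h4 : (4 : F) ≠ 0 := by
    have : (4 : F) = 2 * 2 := by norm_num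
    rw [this]; exact mul_ne_zero h2 h2
  field_simp
  ring

theorem odd_iso (h2 : (2 : F) ≠ 0) (m : ℕ) :
    QIso (Cfsg.quadFormOdd m F)
      (dQ (Sum.elim (fun _ : Unit => (1 : F))
        (Sum.elim (fun _ : Fin m => (1 : F)) (fun _ : Fin m => (-1 : F))))) := by
  rw [odd_eq_sumQ, dQ_sum_elim]
  exact QIso_sum (QIso.refl _) (plus_iso h2 m)

theorem minus_iso (h2 : (2 : F) ≠ 0) (m : ℕ) (a b : F) :
    QIso (Cfsg.quadFormMinus m F a b)
      (dQ (Sum.elim (Sum.elim (fun _ : Fin m => (1 : F)) (fun _ : Fin m => (-1 : F)))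
        ![1, b - a ^ 2 / 4])) := by
  rw [minus_eq_sumQ, dQ_sum_elim]
  exact QIso_sum (plus_iso h2 m) (binQ_iso h2 a b)

end standard

end Cfsg.Agent.Lib.Helper44
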