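import Mathlib
import Cfsg.Prelude.Def_GeometricClasses
import Cfsg.Agent.S0793
import Cfsg.Agent.S0794
import Cfsg.Agent.Lib.Helper44.WittOmega
import Cfsg.Agent.Lib.Helper14.MaxTS2

set_option autoImplicit false

namespace Cfsg.Agent.Lib.Helper44

open Matrix Module Cfsg.Agent.Lib.Helper14

section bridge

variable {ι : Type} [Fintype ι] [DecidableEq ι] {F : Type*} [Field F]

omit [Fintype ι] [DecidableEq ι] in
/-- A non-degenerate quadratic form given as a function is a `QuadraticForm` with non-degenerate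
polar form. -/
theorem exists_quadraticForm_of_geo {Q : (ι → F) → F}
    (hQ : Cfsg.Geo.IsNondegenerateQuadraticForm Q) :
    ∃ Q' : QuadraticForm F (ι → F), ⇑Q' = Q ∧ (QuadraticMap.polarBilin Q').Nondegenerate := by
  refine ⟨QuadraticMap.ofPolar Q (fun a x => by rw [hQ.smul, smul_eq_mul, pow_two])
    (fun x x' y => hQ.polar_bilinear.add_left x x' y)
    (fun a x y => by rw [hQ.polar_bilinear.smul_left, smul_eq_mul]), rfl, ?_, ?_⟩
  · intro x hx
    by_contra hx0
    obtain ⟨y, hy⟩ := (hQ.nondegenerate x hx0).2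
    exact hy (hx y)
  · intro y hy
    by_contra hy0
    obtain ⟨x, hx⟩ := (hQ.nondegenerate y hy0).1
    exact hx (hy x)

theorem mem_subspaceStabilizer_of_isom {Qf : (ι → F) → F} (h : ↥(Cfsg.isometryGroup F Qf))
    (W : Submodule F (ι → F))
    (hh : ∀ x ∈ W, ((h : Matrix.GeneralLinearGroup ι F) : Matrix ι ι F) *ᵥ x ∈ W) :
    (h : Matrix.GeneralLinearGroup ι F) ∈ Cfsg.Geo.subspaceStabilizer W := by
  have hmap := map_eq_of_forall_mem Qf h W hh
  intro v
  constructor
  · intro hv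
    exact hh v hv
  · intro hv
    have hv' : ((h : Matrix.GeneralLinearGroup ι F) : Matrix ι ι F) *ᵥ v ∈
        W.map (Matrix.mulVecLin ((h : Matrix.GeneralLinearGroup ι F) : Matrix ι ι F)) := by
      rw [hmap]; exact hv
    obtain ⟨w, hw, hwv⟩ := hv'
    have hinj := isom_mulVecLin_injective h
    have : w = v := hinj hwv
    rw [← this]
    exact hw

theorem map_eq_of_mem_subspaceStabilizer (g : Matrix.GeneralLinearGroup ι F)
    (W : Submodule F (ι → F)) (hg : g ∈ Cfsg.Geo.subspaceStabilizer W) :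
    W.map (Matrix.mulVecLin (g : Matrix ι ι F)) = W := by
  apply le_antisymm
  · rintro _ ⟨x, hx, rfl⟩
    exact (hg x).mp hx
  · intro w hw
    refine ⟨((g⁻¹ : Matrix.GeneralLinearGroup ι F) : Matrix ι ι F) *ᵥ w, ?_, ?_⟩
    · apply (hg _).mpr
      change (g : Matrix ι ι F) *ᵥ (((g⁻¹ : Matrix.GeneralLinearGroup ι F) : Matrix ι ι F) *ᵥ w) ∈ W
      rw [Matrix.mulVec_mulVec, ← Units.val_mul, mul_inv_cancel, Units.val_one,
        Matrix.one_mulVec]
      exact hw
    · rw [Matrix.mulVecLin_apply, Matrix.mulVec_mulVec, ← Units.val_mul, mul_inv_cancel,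
        Units.val_one, Matrix.one_mulVec]

theorem coe_mem_omegaGL_iff {Qf : (ι → F) → F} (h : ↥(Cfsg.isometryGroup F Qf)) :
    (h : Matrix.GeneralLinearGroup ι F) ∈ Cfsg.Geo.omegaGL Qf ↔ h ∈ Cfsg.Omega F Qf := by
  constructor
  · rintro ⟨h', hh', heq⟩
    have : h' = h := Subtype.ext heq
    rw [← this]
    exact hh'
  · intro hh
    exact ⟨h, hh, rfl⟩

theorem exists_of_mem_omegaGL {Qf : (ι → F) → F} {g : Matrix.GeneralLinearGroup ι F}
    (hg : g ∈ Cfsg.Geo.omegaGL Qf) :
    ∃ h : ↥(Cfsg.isometryGroup F Qf), h ∈ Cfsg.Omega F Qf ∧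
      (h : Matrix.GeneralLinearGroup ι F) = g := by
  obtain ⟨h, hh, heq⟩ := hg
  exact ⟨h, hh, heq⟩

/-- Elements of `Ω` preserve the parity of the codimension of the intersection with a maximal
totally singular subspace. -/
theorem even_of_mem_omega_mts {Q : QuadraticForm F (ι → F)}
    (hQ : (QuadraticMap.polarBilin Q).Nondegenerate) {m : ℕ}
    (hdim : finrank F (ι → F) = 2 * m) {U : Submodule F (ι → F)} (hU : IsMTS Q m U)
    {g : ↥(Cfsg.isometryGroup F ⇑Q)} (hg : g ∈ Cfsg.Omega F ⇑Q) :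
    Even (m - finrank F ↥(U ⊓ U.map (Matrix.mulVecLin
        ((g : Matrix.GeneralLinearGroup ι F) : Matrix ι ι F)))) := by
  rw [← mtsChar_eq_one_iff hQ hdim hU g]
  exact Abelianization.commutator_subset_ker (mtsChar hQ hdim hU) hg

end bridge

section siegel

variable {n : ℕ} {F : Type*} [Field F] [Fintype F]

/-- Siegel elements lie in `Ω`, in every characteristic (dimension at least five). -/
theorem exists_siegel_mem_omega (Q : QuadraticForm F (Fin n → F))
    (hQ : (QuadraticMap.polarBilin Q).Nondegenerate) (hn : 5 ≤ n) (u v : Fin n → F)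
    (hu : Q u = 0) (hv : Q v = 0) (huv : QuadraticMap.polar ⇑Q u v = 0) (c : F) :
    ∃ g : ↥(Cfsg.isometryGroup F ⇑Q), g ∈ Cfsg.Omega F ⇑Q ∧
      ((g : Matrix.GeneralLinearGroup (Fin n) F) : Matrix (Fin n) (Fin n) F) =
        Cfsg.siegelMatrix ⇑Q u v c := by
  obtain ⟨hpres, -, -⟩ := Cfsg.Agent.S0793.result Q u v hu hv huv
  refine ⟨mkIsom Q hQ (Cfsg.siegelMatrix ⇑Q u v c) (hpres c), ?_, mkIsom_coe _ _ _ _⟩
  by_cases h2 : (2 : F) = 0
  · rw [mem_commutator_iff_even_rank h2 Q hQ (Or.inr (by rw [Fintype.card_fin]; omega)),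
      mkIsom_coe, rank_sub_one_eq]
    have hsub : moved (Cfsg.siegelMatrix ⇑Q u v c).mulVecLin ≤ (F ∙ u) ⊔ (F ∙ v) := by
      intro y hy
      obtain ⟨x, rfl⟩ := (mem_moved_iff _ y).mp hy
      rw [Matrix.mulVecLin_apply, siegelMatrix_mulVec]
      have e : x - (x + (c * QuadraticMap.polar ⇑Q u x) • v -
          (c * QuadraticMap.polar ⇑Q v x) • u) =
          (c * QuadraticMap.polar ⇑Q v x) • u + (-(c * QuadraticMap.polar ⇑Q u x)) • v := by
        module
      rw [e]
      exact Submodule.add_mem _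
        (Submodule.mem_sup_left (Submodule.smul_mem _ _ (Submodule.mem_span_singleton_self u)))
        (Submodule.mem_sup_right (Submodule.smul_mem _ _ (Submodule.mem_span_singleton_self v)))
    have hle : finrank F (moved (Cfsg.siegelMatrix ⇑Q u v c).mulVecLin) ≤ 2 := by
      have h1 := Submodule.finrank_mono hsub
      have h2' := Submodule.finrank_add_le_finrank_add_finrank (F ∙ u) (F ∙ v)
      have h3 := finrank_span_singleton_le_one (F := F) u
      have h4 := finrank_span_singleton_le_one (F := F) v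
      omega
    have hne : finrank F (moved (Cfsg.siegelMatrix ⇑Q u v c).mulVecLin) ≠ 1 := by
      apply finrank_moved_ne_one_of_singular Q hQ
        (fun x => by rw [Matrix.mulVecLin_apply]; exact hpres c x)
      intro y hy
      obtain ⟨a, ha, b, hb, rfl⟩ := Submodule.mem_sup.mp (hsub hy)
      obtain ⟨α, rfl⟩ := Submodule.mem_span_singleton.mp ha
      obtain ⟨β, rfl⟩ := Submodule.mem_span_singleton.mp hb
      rw [QuadraticMap.map_add Q, QuadraticMap.map_smul, QuadraticMap.map_smul, hu, hv,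
        QuadraticMap.polar_smul_left, QuadraticMap.polar_smul_right, huv]
      simp
    obtain ⟨r, hr⟩ : ∃ r, r = finrank F (moved (Cfsg.siegelMatrix ⇑Q u v c).mulVecLin) :=
      ⟨_, rfl⟩
    rw [← hr] at hle hne ⊢
    interval_cases r
    · exact ⟨0, rfl⟩
    · exact absurd rfl hne
    · exact ⟨1, rfl⟩
  · exact (Cfsg.Agent.S0794.result h2 hn Q hQ u v hu hv huv c _ (mkIsom_coe _ _ _ _)).2

/-- A Siegel element of `Ω` fixing the totally singular subspace `E` pointwise and moving the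
complementary totally singular subspace `E'`. -/
theorem exists_siegel_mover (Q : QuadraticForm F (Fin n → F))
    (hQ : (QuadraticMap.polarBilin Q).Nondegenerate) (hn : 5 ≤ n)
    (E E' : Submodule F (Fin n → F)) (hE : ∀ x ∈ E, Q x = 0)
    (hinf : E ⊓ E' = ⊥) (hsup : E ⊔ E' = ⊤) (h2 : 2 ≤ finrank F E) :
    ∃ g : ↥(Cfsg.isometryGroup F ⇑Q), g ∈ Cfsg.Omega F ⇑Q ∧
      (∀ x ∈ E, ((g : Matrix.GeneralLinearGroup (Fin n) F) : Matrix (Fin n) (Fin n) F) *ᵥ x = x) ∧
      ∃ x ∈ E', ((g : Matrix.GeneralLinearGroup (Fin n) F) : Matrix (Fin n) (Fin n) F) *ᵥ x ∉ E' := by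
  have hpolE : ∀ x ∈ E, ∀ y ∈ E, QuadraticMap.polar ⇑Q x y = 0 := by
    intro x hx y hy
    unfold QuadraticMap.polar
    rw [hE _ (E.add_mem hx hy), hE x hx, hE y hy]
    simp
  -- two independent vectors of `E`
  have hEne : E ≠ ⊥ := by
    intro h
    rw [h, finrank_bot] at h2
    omega
  obtain ⟨u, huE, hu0⟩ := Submodule.exists_mem_ne_zero_of_ne_bot hEne
  have hlt : (F ∙ u) < E := by
    apply lt_of_le_of_ne
    · rw [Submodule.span_singleton_le_iff_mem]; exact huE
    · intro h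
      have h1 := finrank_span_singleton_le_one (F := F) u
      rw [h] at h1
      omega
  obtain ⟨v, hvE, hvu⟩ := SetLike.exists_of_lt hlt
  -- a vector of `E'` not orthogonal to `u`
  obtain ⟨x, hxE', hux⟩ : ∃ x ∈ E', QuadraticMap.polar ⇑Q u x ≠ 0 := by
    by_contra hcon
    push Not at hcon
    apply hu0
    apply hQ.1 u
    intro y
    have hy : y ∈ E ⊔ E' := by rw [hsup]; exact Submodule.mem_top
    obtain ⟨y₀, hy₀, y₁, hy₁, rfl⟩ := Submodule.mem_sup.mp hy
    change QuadraticMap.polar ⇑Q u (y₀ + y₁) = 0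
    rw [QuadraticMap.polar_add_right, hpolE u huE y₀ hy₀, hcon y₁ hy₁, add_zero]
  obtain ⟨g, hgΩ, hg⟩ := exists_siegel_mem_omega Q hQ hn u v (hE u huE) (hE v hvE)
    (hpolE u huE v hvE) 1
  refine ⟨g, hgΩ, ?_, x, hxE', ?_⟩
  · intro y hy
    rw [hg, siegelMatrix_mulVec, hpolE u huE y hy, hpolE v hvE y hy]
    simp
  · rw [hg, siegelMatrix_mulVec, one_mul, one_mul]
    intro hmem
    have hd : QuadraticMap.polar ⇑Q u x • v - QuadraticMap.polar ⇑Q v x • u ∈ E ⊓ E' := by
      refine Submodule.mem_inf.mpr ⟨E.sub_mem (E.smul_mem _ hvE) (E.smul_mem _ huE), ?_⟩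
      have e : QuadraticMap.polar ⇑Q u x • v - QuadraticMap.polar ⇑Q v x • u =
          (x + QuadraticMap.polar ⇑Q u x • v - QuadraticMap.polar ⇑Q v x • u) - x := by abel
      rw [e]
      exact E'.sub_mem hmem hxE'
    rw [hinf, Submodule.mem_bot] at hd
    apply hvu
    have e2 : v = ((QuadraticMap.polar ⇑Q u x)⁻¹ * QuadraticMap.polar ⇑Q v x) • u := by
      have h3 : QuadraticMap.polar ⇑Q u x • v = QuadraticMap.polar ⇑Q v x • u :=
        sub_eq_zero.mp hd
      rw [mul_smul, ← h3, smul_smul, inv_mul_cancel₀ hux, one_smul]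
    rw [e2]
    exact Submodule.smul_mem _ _ (Submodule.mem_span_singleton_self u)

end siegel

end Cfsg.Agent.Lib.Helper44
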