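import Mathlib
import Cfsg.Prelude.Def_SporadicB
import Cfsg.Agent.Lib.Helper44.Char2Forms

set_option autoImplicit false

namespace Cfsg.Agent.Lib.Helper44

open Matrix Module Cfsg.Agent.Lib.Helper14

section rankone

variable {ι : Type} [Fintype ι] [DecidableEq ι] {F : Type*} [Field F]

/-- An isometry `g` with `rank (g - 1) = 1` is a reflection. -/
theorem eq_reflElt_of_rank_eq_one (Q : QuadraticForm F (ι → F))
    (hQ : (QuadraticMap.polarBilin Q).Nondegenerate) (g : ↥(Cfsg.isometryGroup F ⇑Q))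
    (h1 : (((g : Matrix.GeneralLinearGroup ι F) : Matrix ι ι F) - 1).rank = 1) :
    ∃ (v : ι → F) (hv : Q v ≠ 0), g = reflElt Q hQ v hv := by
  rw [rank_sub_one_eq] at h1
  obtain ⟨v, hv, hgv⟩ := eq_refl_of_finrank_moved_eq_one Q hQ
    (g := ((g : Matrix.GeneralLinearGroup ι F) : Matrix ι ι F).mulVecLin)
    (fun x => by rw [Matrix.mulVecLin_apply]; exact isom_preserves g x) h1
  refine ⟨v, hv, ?_⟩
  apply isom_ext
  rw [reflElt_coe, ext_iff_mulVec]
  intro x
  rw [← Matrix.mulVecLin_apply, hgv, ← reflectionMatrix_mulVecLin, Matrix.mulVecLin_apply]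

/-- A reflection `r` has `rank (r - 1) = 1`. -/
theorem rank_reflElt (Q : QuadraticForm F (ι → F))
    (hQ : (QuadraticMap.polarBilin Q).Nondegenerate) (v : ι → F) (hv : Q v ≠ 0) :
    ((((reflElt Q hQ v hv : ↥(Cfsg.isometryGroup F ⇑Q)) : Matrix.GeneralLinearGroup ι F) :
      Matrix ι ι F) - 1).rank = 1 := by
  rw [rank_sub_one_eq, reflElt_coe, reflectionMatrix_mulVecLin]
  exact finrank_moved_refl Q hQ hv

theorem reflElt_ne_one (Q : QuadraticForm F (ι → F))
    (hQ : (QuadraticMap.polarBilin Q).Nondegenerate) (v : ι → F) (hv : Q v ≠ 0) :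
    reflElt Q hQ v hv ≠ 1 := by
  intro h
  have h1 := rank_reflElt Q hQ v hv
  rw [h] at h1
  simp at h1

theorem orderOf_reflElt (Q : QuadraticForm F (ι → F))
    (hQ : (QuadraticMap.polarBilin Q).Nondegenerate) (v : ι → F) (hv : Q v ≠ 0) :
    orderOf (reflElt Q hQ v hv) = 2 := by
  apply orderOf_eq_prime
  · rw [pow_two, reflElt_mul_self]
  · exact reflElt_ne_one Q hQ v hv

theorem reflElt_congr (Q : QuadraticForm F (ι → F))
    (hQ : (QuadraticMap.polarBilin Q).Nondegenerate) {v w : ι → F} (hv : Q v ≠ 0) (hw : Q w ≠ 0)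
    (h : v = w) : reflElt Q hQ v hv = reflElt Q hQ w hw := by
  subst h; rfl

end rankone

section f2

variable {ι : Type} [Fintype ι] [DecidableEq ι]

theorem zmod2_cases (x : ZMod 2) : x = 0 ∨ x = 1 := by
  revert x; decide

/-- Over the field of two elements, in dimension other than four, the orthogonal transvections
(the isometries `g` with `rank (g - 1) = 1`) form a conjugacy class of 3-transpositions
generating the orthogonal group. -/
theorem isThreeTranspositionClass_refl (Qf : (ι → ZMod 2) → ZMod 2)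
    (Q : QuadraticForm (ZMod 2) (ι → ZMod 2)) (hQf : ⇑Q = Qf)
    (hQ : (QuadraticMap.polarBilin Q).Nondegenerate) (hcard : Fintype.card ι ≠ 4)
    (hne : Nonempty ι) :
    Cfsg.IsThreeTranspositionClass {g : ↥(Cfsg.isometryGroup (ZMod 2) Qf) |
      (((g : Matrix.GeneralLinearGroup ι (ZMod 2)) : Matrix ι ι (ZMod 2)) - 1).rank = 1} := by
  subst hQf
  have h2 : (2 : ZMod 2) = 0 := by decide
  have hcard' : Fintype.card (ZMod 2) ≠ 2 ∨ Fintype.card ι ≠ 4 := Or.inr hcard
  have hQ1 : ∀ v : ι → ZMod 2, Q v ≠ 0 → Q v = 1 := fun v hv =>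
    (zmod2_cases (Q v)).resolve_left hv
  refine ⟨⟨?_, ?_⟩, ?_, ?_⟩
  · -- order two
    intro d hd
    obtain ⟨v, hv, rfl⟩ := eq_reflElt_of_rank_eq_one Q hQ d hd
    exact orderOf_reflElt Q hQ v hv
  · -- products
    intro d hd e he
    obtain ⟨u, hu, rfl⟩ := eq_reflElt_of_rank_eq_one Q hQ d hd
    obtain ⟨v, hv, rfl⟩ := eq_reflElt_of_rank_eq_one Q hQ e he
    set a := reflElt Q hQ u hu with ha
    set b := reflElt Q hQ v hv with hb
    have haa : a * a = 1 := reflElt_mul_self Q hQ u hu
    have hbb : b * b = 1 := reflElt_mul_self Q hQ v hv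
    have hainv : a⁻¹ = a := inv_eq_of_mul_eq_one_left haa
    have hbinv : b⁻¹ = b := inv_eq_of_mul_eq_one_left hbb
    have hau : ((a : Matrix.GeneralLinearGroup ι (ZMod 2)) : Matrix ι ι (ZMod 2)) *ᵥ v =
        v - QuadraticMap.polar ⇑Q u v • u := by
      rw [ha, reflElt_coe, reflectionMatrix_mulVec, hQ1 u hu, inv_one, one_mul]
    have hbv : ((b : Matrix.GeneralLinearGroup ι (ZMod 2)) : Matrix ι ι (ZMod 2)) *ᵥ u =
        u - QuadraticMap.polar ⇑Q u v • v := by
      rw [hb, reflElt_coe, reflectionMatrix_mulVec, hQ1 v hv, inv_one, one_mul,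
        QuadraticMap.polar_comm]
    have c1 := conj_reflElt Q hQ a v hv
    have c2 := conj_reflElt Q hQ b u hu
    rw [← hb, hainv] at c1
    rw [← ha, hbinv] at c2
    rcases zmod2_cases (QuadraticMap.polar ⇑Q u v) with hp | hp
    · left
      have e1 : a * b * a = b := by
        rw [c1]
        apply reflElt_congr
        rw [hau, hp, zero_smul, sub_zero]
      rw [pow_two]
      calc a * b * (a * b) = (a * b * a) * b := by group
        _ = 1 := by rw [e1, hbb]
    · right
      have e1 : a * b * a = b * a * b := by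
        rw [c1, c2]
        apply reflElt_congr
        rw [hau, hbv, hp, one_smul, one_smul]
        have := neg_eq_self_char2 (F := ZMod 2) h2 (u - v)
        rw [← this]; abel
      rw [pow_succ, pow_two]
      calc a * b * (a * b) * (a * b) = (a * b * a) * (b * a * b) := by group
        _ = b * a * (b * b) * a * b := by rw [e1]; group
        _ = 1 := by rw [hbb, mul_one, mul_assoc b a a, haa, mul_one, hbb]
  · -- a single conjugacy class
    obtain ⟨v₀, hv₀⟩ : ∃ v₀, Q v₀ ≠ 0 := by
      have hx : (fun _ : ι => (1 : ZMod 2)) ≠ 0 := by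
        intro h0
        have := congrFun h0 hne.some
        simp at this
      exact exists_quad_ne_zero_of_ne_bot Q hQ hx
    refine ⟨reflElt Q hQ v₀ hv₀, rank_reflElt Q hQ v₀ hv₀, ?_⟩
    ext g
    change (((g : Matrix.GeneralLinearGroup ι (ZMod 2)) : Matrix ι ι (ZMod 2)) - 1).rank = 1 ↔
      IsConj (reflElt Q hQ v₀ hv₀) g
    rw [isConj_iff]
    constructor
    · intro hg
      obtain ⟨v, hv, rfl⟩ := eq_reflElt_of_rank_eq_one Q hQ g hg
      exact exists_conj_reflElt_char2 h2 Q hQ hcard' hv₀ hv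
    · rintro ⟨c, rfl⟩
      rw [conj_reflElt]
      exact rank_reflElt Q hQ _ _
  · -- generation
    rw [eq_top_iff]
    intro g _
    obtain ⟨l, hl, rfl⟩ := exists_eq_prodElt_char2 h2 Q hQ hcard' g
    refine Subgroup.closure_mono ?_ (prodElt_mem_closure Q hQ l hl)
    rintro g ⟨v, hv, hg⟩
    have : g = reflElt Q hQ v hv := isom_ext hg
    rw [this]
    exact rank_reflElt Q hQ v hv

end f2

end Cfsg.Agent.Lib.Helper44
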