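import Mathlib
import Cfsg.Agent.Lib.Helper44.SiegelOmega
import Cfsg.Agent.Lib.Helper44.ThreeTransp
import Cfsg.Agent.Lib.Helper99.Quad

set_option autoImplicit false
open scoped commutatorElement

namespace Cfsg.Agent.Lib.Helper44

open Matrix Module Cfsg.Agent.Lib.Helper14

section siegelgen

variable {ι : Type} [Fintype ι] [DecidableEq ι] {F : Type*} [Field F]

/-- Siegel matrices preserve the form (any index type). -/
theorem siegel_isom (Q : QuadraticForm F (ι → F)) {u v : ι → F} (hu : Q u = 0) (hv : Q v = 0)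
    (huv : QuadraticMap.polar ⇑Q u v = 0) (c : F) (x : ι → F) :
    Q (Cfsg.siegelMatrix ⇑Q u v c *ᵥ x) = Q x := by
  have hvu : QuadraticMap.polar ⇑Q v u = 0 := by rw [QuadraticMap.polar_comm]; exact huv
  rw [siegelMatrix_mulVec, quad_add_smul_sub_smul, hu, hv, hvu,
    QuadraticMap.polar_comm (⇑Q) x v, QuadraticMap.polar_comm (⇑Q) x u]
  ring

/-- Additivity of Siegel matrices in the parameter (any index type). -/
theorem siegel_add (Q : QuadraticForm F (ι → F)) {u v : ι → F} (hu : Q u = 0) (hv : Q v = 0)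
    (huv : QuadraticMap.polar ⇑Q u v = 0) (c d : F) :
    Cfsg.siegelMatrix ⇑Q u v c * Cfsg.siegelMatrix ⇑Q u v d = Cfsg.siegelMatrix ⇑Q u v (c + d) := by
  have hvu : QuadraticMap.polar ⇑Q v u = 0 := by rw [QuadraticMap.polar_comm]; exact huv
  have huu : QuadraticMap.polar ⇑Q u u = 0 := by
    rw [QuadraticMap.polar_self, hu, smul_zero]
  have hvv : QuadraticMap.polar ⇑Q v v = 0 := by
    rw [QuadraticMap.polar_self, hv, smul_zero]
  unfold Cfsg.siegelMatrix
  have hN : (vecMulVec v (Cfsg.polarVec (⇑Q) u) - vecMulVec u (Cfsg.polarVec (⇑Q) v)) *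
      (vecMulVec v (Cfsg.polarVec (⇑Q) u) - vecMulVec u (Cfsg.polarVec (⇑Q) v)) = 0 := by
    simp only [Matrix.mul_sub, Matrix.sub_mul, vecMulVec_mul_vecMulVec, polarVec_dotProduct,
      huu, hvv, huv, hvu, zero_smul, vecMulVec_zero, sub_zero]
  rw [Matrix.mul_add, Matrix.add_mul, Matrix.add_mul, Matrix.one_mul, Matrix.mul_one,
    Matrix.one_mul, Matrix.smul_mul, Matrix.mul_smul, hN, smul_zero, smul_zero, add_zero,
    add_smul]
  abel

/-- The Siegel transformation `T_{u,v}(c)` as an element of the isometry group. -/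
noncomputable def siegelElt (Q : QuadraticForm F (ι → F))
    (hQ : (QuadraticMap.polarBilin Q).Nondegenerate) (u v : ι → F) (hu : Q u = 0) (hv : Q v = 0)
    (huv : QuadraticMap.polar ⇑Q u v = 0) (c : F) : ↥(Cfsg.isometryGroup F ⇑Q) :=
  mkIsom Q hQ (Cfsg.siegelMatrix ⇑Q u v c) (siegel_isom Q hu hv huv c)

theorem siegelElt_coe (Q : QuadraticForm F (ι → F))
    (hQ : (QuadraticMap.polarBilin Q).Nondegenerate) (u v : ι → F) (hu : Q u = 0) (hv : Q v = 0)
    (huv : QuadraticMap.polar ⇑Q u v = 0) (c : F) :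
    (((siegelElt Q hQ u v hu hv huv c : ↥(Cfsg.isometryGroup F ⇑Q)) :
      Matrix.GeneralLinearGroup ι F) : Matrix ι ι F) = Cfsg.siegelMatrix ⇑Q u v c :=
  mkIsom_coe _ _ _ _

/-- Odd characteristic: a Siegel element is a commutator (any index type; the argument of
helper14's S0794). -/
theorem siegelElt_mem_commutatorSet (h2 : (2 : F) ≠ 0) (Q : QuadraticForm F (ι → F))
    (hQ : (QuadraticMap.polarBilin Q).Nondegenerate) (u v : ι → F) (hu : Q u = 0) (hv : Q v = 0)
    (huv : QuadraticMap.polar ⇑Q u v = 0) (c : F) :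
    siegelElt Q hQ u v hu hv huv c ∈ commutatorSet ↥(Cfsg.isometryGroup F ⇑Q) := by
  obtain ⟨g, hgdef⟩ : ∃ g, g = siegelElt Q hQ u v hu hv huv c := ⟨_, rfl⟩
  have hg : ((g : Matrix.GeneralLinearGroup ι F) : Matrix ι ι F) =
      Cfsg.siegelMatrix ⇑Q u v c := by rw [hgdef]; exact siegelElt_coe _ _ _ _ _ _ _ _
  rw [← hgdef]
  have hadd := siegel_add Q hu hv huv
  by_cases hdep : u ∈ Submodule.span F {v}
  · obtain ⟨a, rfl⟩ := Submodule.mem_span_singleton.mp hdep
    have h1 : Cfsg.siegelMatrix ⇑Q (a • v) v c = 1 := by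
      rw [ext_iff_mulVec]
      intro x
      rw [siegelMatrix_mulVec, QuadraticMap.polar_smul_left, one_mulVec, smul_smul, smul_eq_mul]
      have e : c * QuadraticMap.polar (⇑Q) v x * a = c * (a * QuadraticMap.polar (⇑Q) v x) := by
        ring
      rw [e, add_sub_cancel_right]
    have hg1 : g = 1 := by
      apply isom_ext
      rw [hg, h1]; rfl
    rw [hg1]
    exact ⟨1, 1, by simp⟩
  · obtain ⟨φ, hφu, hφv⟩ := Submodule.exists_dual_map_eq_bot_of_notMem hdep inferInstance
    have hφv' : φ v = 0 := by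
      have : φ v ∈ (Submodule.span F {v}).map φ :=
        Submodule.mem_map_of_mem (Submodule.mem_span_singleton_self v)
      rw [hφv] at this
      simpa using this
    set B := QuadraticMap.polarBilin Q with hB
    set w : ι → F := (LinearMap.BilinForm.toDual B hQ).symm ((φ u)⁻¹ • φ) with hw
    have hwx : ∀ x, QuadraticMap.polar ⇑Q w x = (φ u)⁻¹ * φ x := by
      intro x
      have := LinearMap.BilinForm.apply_toDual_symm_apply (B := B) (hB := hQ) ((φ u)⁻¹ • φ) x
      rw [LinearMap.smul_apply, smul_eq_mul] at this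
      exact this
    have hwu : QuadraticMap.polar ⇑Q w u = 1 := by rw [hwx, inv_mul_cancel₀ hφu]
    have hwv : QuadraticMap.polar ⇑Q w v = 0 := by rw [hwx, hφv', mul_zero]
    set u' : ι → F := w - Q w • u with hu'
    have hQu' : Q u' = 0 := by
      rw [hu', quad_sub_smul, hu, hwu]; ring
    have huu : QuadraticMap.polar ⇑Q u u = 0 := by
      rw [QuadraticMap.polar_self, hu, smul_zero]
    have hu'u : QuadraticMap.polar ⇑Q u' u = 1 := by
      rw [hu', QuadraticMap.polar_sub_left, QuadraticMap.polar_smul_left, huu, hwu]; simp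
    have hu'v : QuadraticMap.polar ⇑Q u' v = 0 := by
      rw [hu', QuadraticMap.polar_sub_left, QuadraticMap.polar_smul_left, huv, hwv]; simp
    have huu' : QuadraticMap.polar ⇑Q u u' = 1 := by rw [QuadraticMap.polar_comm]; exact hu'u
    set H : Matrix ι ι F :=
      1 + vecMulVec u (Cfsg.polarVec ⇑Q u') - (2 : F)⁻¹ • vecMulVec u' (Cfsg.polarVec ⇑Q u)
      with hH
    have hHx : ∀ x, H *ᵥ x = x + QuadraticMap.polar ⇑Q u' x • u
        - ((2 : F)⁻¹ * QuadraticMap.polar ⇑Q u x) • u' := by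
      intro x
      rw [hH, sub_mulVec, add_mulVec, one_mulVec, smul_mulVec, vecMulVec_mulVec, vecMulVec_mulVec,
        polarVec_dotProduct, polarVec_dotProduct]
      simp only [op_smul_eq_smul, smul_smul]
    have h22 : (2 : F)⁻¹ + (2 : F)⁻¹ = 1 := by
      rw [← two_mul, mul_inv_cancel₀ h2]
    have hHiso : ∀ x, Q (H *ᵥ x) = Q x := by
      intro x
      rw [hHx, quad_add_smul_sub_smul, hu, hQu', huu',
        QuadraticMap.polar_comm (⇑Q) x u, QuadraticMap.polar_comm (⇑Q) x u']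
      linear_combination (-(QuadraticMap.polar (⇑Q) u' x * QuadraticMap.polar (⇑Q) u x)) * h22
    have hHu : H *ᵥ u = (2 : F) • u := by
      rw [hHx, hu'u, huu, two_smul]; simp
    have hHv : H *ᵥ v = v := by
      rw [hHx, hu'v, huv]; simp
    set h : ↥(Cfsg.isometryGroup F ⇑Q) := mkIsom Q hQ H hHiso with hh
    have key : g * g * h = h * g := by
      apply isom_ext
      simp only [Subgroup.coe_mul, Units.val_mul, hg, hh, mkIsom_coe]
      rw [siegel_conj Q H hHiso, hHu, hHv, siegel_smul_left, hadd, two_mul]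
    refine ⟨h, g, ?_⟩
    rw [commutatorElement_def, ← key]
    group

variable [Fintype F]

/-- Siegel elements lie in `Ω` in every characteristic (any index type of size at least five). -/
theorem siegelElt_mem_omega (Q : QuadraticForm F (ι → F))
    (hQ : (QuadraticMap.polarBilin Q).Nondegenerate) (h5 : 5 ≤ Fintype.card ι) (u v : ι → F)
    (hu : Q u = 0) (hv : Q v = 0) (huv : QuadraticMap.polar ⇑Q u v = 0) (c : F) :
    siegelElt Q hQ u v hu hv huv c ∈ Cfsg.Omega F ⇑Q := by
  by_cases h2 : (2 : F) = 0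
  · rw [mem_commutator_iff_even_rank h2 Q hQ (Or.inr (by omega)), siegelElt_coe, rank_sub_one_eq]
    have hsub : moved (Cfsg.siegelMatrix ⇑Q u v c).mulVecLin ≤ (F ∙ u) ⊔ (F ∙ v) := by
      intro y hy
      obtain ⟨x, rfl⟩ := (mem_moved_iff _ y).mp hy
      rw [Matrix.mulVecLin_apply, siegelMatrix_mulVec]
      have e : x - (x + (c * QuadraticMap.polar ⇑Q u x) • v -
          (c * QuadraticMap.polar ⇑Q v x) • u) =
          (c * QuadraticMap.polar ⇑Q v x) • u + (-(c * QuadraticMap.polar ⇑Q u x)) • v := by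
        module
      rw [e]
      exact Submodule.add_mem _
        (Submodule.mem_sup_left (Submodule.smul_mem _ _ (Submodule.mem_span_singleton_self u)))
        (Submodule.mem_sup_right (Submodule.smul_mem _ _ (Submodule.mem_span_singleton_self v)))
    have hle : finrank F (moved (Cfsg.siegelMatrix ⇑Q u v c).mulVecLin) ≤ 2 := by
      have h1 := Submodule.finrank_mono hsub
      have h2' := Submodule.finrank_add_le_finrank_add_finrank (F ∙ u) (F ∙ v)
      have h3 := finrank_span_singleton_le_one (F := F) u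
      have h4 := finrank_span_singleton_le_one (F := F) v
      omega
    have hne : finrank F (moved (Cfsg.siegelMatrix ⇑Q u v c).mulVecLin) ≠ 1 := by
      apply finrank_moved_ne_one_of_singular Q hQ
        (fun x => by rw [Matrix.mulVecLin_apply]; exact siegel_isom Q hu hv huv c x)
      intro y hy
      obtain ⟨a, ha, b, hb, rfl⟩ := Submodule.mem_sup.mp (hsub hy)
      obtain ⟨α, rfl⟩ := Submodule.mem_span_singleton.mp ha
      obtain ⟨β, rfl⟩ := Submodule.mem_span_singleton.mp hb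
      rw [QuadraticMap.map_add Q, QuadraticMap.map_smul, QuadraticMap.map_smul, hu, hv,
        QuadraticMap.polar_smul_left, QuadraticMap.polar_smul_right, huv]
      simp
    obtain ⟨r, hr⟩ : ∃ r, r = finrank F (moved (Cfsg.siegelMatrix ⇑Q u v c).mulVecLin) :=
      ⟨_, rfl⟩
    rw [← hr] at hle hne ⊢
    interval_cases r
    · exact ⟨0, rfl⟩
    · exact absurd rfl hne
    · exact ⟨1, rfl⟩
  · obtain ⟨a, b, hab⟩ := siegelElt_mem_commutatorSet h2 Q hQ u v hu hv huv c
    rw [← hab]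
    exact Subgroup.commutator_mem_commutator (Subgroup.mem_top _) (Subgroup.mem_top _)

/-- The set of Siegel elements `T_{u,v}(c)`, `u, v` singular and orthogonal. -/
def siegelSet (Q : QuadraticForm F (ι → F)) : Set ↥(Cfsg.isometryGroup F ⇑Q) :=
  {g | ∃ (u v : ι → F) (c : F), Q u = 0 ∧ Q v = 0 ∧ QuadraticMap.polar ⇑Q u v = 0 ∧
    ((g : Matrix.GeneralLinearGroup ι F) : Matrix ι ι F) = Cfsg.siegelMatrix ⇑Q u v c}

omit [Fintype F] in
theorem siegelElt_mem_siegelSet (Q : QuadraticForm F (ι → F))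
    (hQ : (QuadraticMap.polarBilin Q).Nondegenerate) (u v : ι → F) (hu : Q u = 0) (hv : Q v = 0)
    (huv : QuadraticMap.polar ⇑Q u v = 0) (c : F) :
    siegelElt Q hQ u v hu hv huv c ∈ siegelSet Q :=
  ⟨u, v, c, hu, hv, huv, siegelElt_coe _ _ _ _ _ _ _ _⟩

omit [Fintype F] in
/-- The subgroup generated by the Siegel elements is normal in the isometry group. -/
theorem siegelClosure_normal (Q : QuadraticForm F (ι → F)) :
    (Subgroup.closure (siegelSet Q)).Normal := by
  have h : Subgroup.closure (siegelSet Q) = Subgroup.normalClosure (siegelSet Q) := by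
    apply le_antisymm
    · exact Subgroup.closure_le_normalClosure
    · unfold Subgroup.normalClosure
      apply Subgroup.closure_mono
      intro g hg
      obtain ⟨g₀, hg₀, hconj⟩ := Group.mem_conjugatesOfSet_iff.mp hg
      obtain ⟨k, rfl⟩ := isConj_iff.mp hconj
      obtain ⟨u, v, c, hu, hv, huv, hmat⟩ := hg₀
      refine ⟨((k : Matrix.GeneralLinearGroup ι F) : Matrix ι ι F) *ᵥ u,
        ((k : Matrix.GeneralLinearGroup ι F) : Matrix ι ι F) *ᵥ v, c, ?_, ?_, ?_, ?_⟩
      · rw [isom_preserves k u]; exact hu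
      · rw [isom_preserves k v]; exact hv
      · rw [polar_mulVec Q _ (isom_preserves k)]; exact huv
      · have hk : ((k : Matrix.GeneralLinearGroup ι F) : Matrix ι ι F) *
            (((k⁻¹ : ↥(Cfsg.isometryGroup F ⇑Q)) : Matrix.GeneralLinearGroup ι F) :
              Matrix ι ι F) = 1 := by
          rw [← Units.val_mul, ← Subgroup.coe_mul, mul_inv_cancel]; rfl
        rw [Subgroup.coe_mul, Subgroup.coe_mul, Units.val_mul, Units.val_mul, hmat,
          siegel_conj Q _ (isom_preserves k), Matrix.mul_assoc, hk, Matrix.mul_one]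
  rw [h]
  exact Subgroup.normalClosure_normal

omit [Fintype ι] [DecidableEq ι] [Fintype F] in
/-- A vector outside `W` is not orthogonal to all of `W^⊥`. -/
theorem exists_mem_orth_polar_ne (Q : QuadraticForm F (ι → F))
    (hQ : (QuadraticMap.polarBilin Q).Nondegenerate) [FiniteDimensional F (ι → F)]
    (W : Submodule F (ι → F)) {b : ι → F}
    (hb : b ∉ W) : ∃ x ∈ orth Q W, QuadraticMap.polar ⇑Q x b ≠ 0 := by
  by_contra hcon
  push Not at hcon
  apply hb
  rw [← orth_orth Q hQ W]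
  exact (mem_orth_iff Q (orth Q W) b).mpr hcon

omit [DecidableEq ι] in
/-- A hyperbolic pair inside `W^⊥`, when `W^⊥` has dimension at least three and `W ∩ W^⊥`
contains no non-zero singular vector. -/
theorem exists_hyp_pair_orth (Q : QuadraticForm F (ι → F))
    (hQ : (QuadraticMap.polarBilin Q).Nondegenerate) (W : Submodule F (ι → F))
    (h3 : 3 ≤ finrank F (orth Q W))
    (hW : ∀ x ∈ W, x ∈ orth Q W → Q x = 0 → x = 0) :
    ∃ s t, s ∈ orth Q W ∧ t ∈ orth Q W ∧ Q s = 0 ∧ Q t = 0 ∧ QuadraticMap.polar ⇑Q s t = 1 := by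
  obtain ⟨s, hs, hs0, hQs⟩ := Cfsg.Agent.Lib.Helper99.exists_isotropic Q (orth Q W) h3
  have hsW : s ∉ W := fun h => hs0 (hW s h hs hQs)
  obtain ⟨t₀, ht₀, hne⟩ := exists_mem_orth_polar_ne Q hQ W hsW
  obtain ⟨t₁, ht₁def⟩ : ∃ t₁, t₁ = (QuadraticMap.polar ⇑Q t₀ s)⁻¹ • t₀ := ⟨_, rfl⟩
  have ht₁ : t₁ ∈ orth Q W := by rw [ht₁def]; exact Submodule.smul_mem _ _ ht₀
  have h1 : QuadraticMap.polar ⇑Q t₁ s = 1 := by
    rw [ht₁def, QuadraticMap.polar_smul_left, smul_eq_mul, inv_mul_cancel₀ hne]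
  have hss : QuadraticMap.polar ⇑Q s s = 0 := by
    rw [QuadraticMap.polar_self, hQs, smul_zero]
  refine ⟨s, t₁ - Q t₁ • s, hs, Submodule.sub_mem _ ht₁ (Submodule.smul_mem _ _ hs), hQs, ?_, ?_⟩
  · rw [quad_sub_smul, hQs, h1]; ring
  · rw [QuadraticMap.polar_sub_right, QuadraticMap.polar_smul_right, hss,
      QuadraticMap.polar_comm (⇑Q) s t₁, h1]; simp

omit [Fintype ι] [DecidableEq ι] [Fintype F] in
/-- Given a hyperbolic pair in `W^⊥` and a vector `b` outside `W`, there is a singular vector of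
`W^⊥` not orthogonal to `b`. -/
theorem exists_singular_orth_polar_ne (Q : QuadraticForm F (ι → F))
    (hQ : (QuadraticMap.polarBilin Q).Nondegenerate) [FiniteDimensional F (ι → F)]
    (W : Submodule F (ι → F)) {s t : ι → F}
    (hs : s ∈ orth Q W) (ht : t ∈ orth Q W) (hQs : Q s = 0) (hQt : Q t = 0)
    (hst : QuadraticMap.polar ⇑Q s t = 1) {b : ι → F} (hb : b ∉ W) :
    ∃ u ∈ orth Q W, Q u = 0 ∧ QuadraticMap.polar ⇑Q u b ≠ 0 := by
  by_cases h1 : QuadraticMap.polar ⇑Q s b = 0
  swap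
  · exact ⟨s, hs, hQs, h1⟩
  by_cases h2 : QuadraticMap.polar ⇑Q t b = 0
  swap
  · exact ⟨t, ht, hQt, h2⟩
  obtain ⟨z, hz, hzb⟩ := exists_mem_orth_polar_ne Q hQ W hb
  have hss : QuadraticMap.polar ⇑Q s s = 0 := by
    rw [QuadraticMap.polar_self, hQs, smul_zero]
  have htt : QuadraticMap.polar ⇑Q t t = 0 := by
    rw [QuadraticMap.polar_self, hQt, smul_zero]
  have hts : QuadraticMap.polar ⇑Q t s = 1 := by rw [QuadraticMap.polar_comm]; exact hst
  obtain ⟨z', hz'def⟩ : ∃ z', z' = z - QuadraticMap.polar ⇑Q z t • s -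
      QuadraticMap.polar ⇑Q z s • t := ⟨_, rfl⟩
  have hz' : z' ∈ orth Q W := by
    rw [hz'def]
    exact Submodule.sub_mem _ (Submodule.sub_mem _ hz (Submodule.smul_mem _ _ hs))
      (Submodule.smul_mem _ _ ht)
  have hz's : QuadraticMap.polar ⇑Q z' s = 0 := by
    rw [hz'def, QuadraticMap.polar_sub_left, QuadraticMap.polar_sub_left,
      QuadraticMap.polar_smul_left, QuadraticMap.polar_smul_left, hss, hts]
    simp
  have hz't : QuadraticMap.polar ⇑Q z' t = 0 := by
    rw [hz'def, QuadraticMap.polar_sub_left, QuadraticMap.polar_sub_left,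
      QuadraticMap.polar_smul_left, QuadraticMap.polar_smul_left, hst, htt]
    simp
  have hz'b : QuadraticMap.polar ⇑Q z' b = QuadraticMap.polar ⇑Q z b := by
    rw [hz'def, QuadraticMap.polar_sub_left, QuadraticMap.polar_sub_left,
      QuadraticMap.polar_smul_left, QuadraticMap.polar_smul_left, h1, h2]
    simp
  refine ⟨z' + (1 : F) • s - Q z' • t, ?_, ?_, ?_⟩
  · exact Submodule.sub_mem _ (Submodule.add_mem _ hz' (Submodule.smul_mem _ _ hs))
      (Submodule.smul_mem _ _ ht)
  · rw [quad_add_smul_sub_smul, hQs, hQt, hz's, hz't, hst]; ring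
  · rw [QuadraticMap.polar_sub_left, QuadraticMap.polar_add_left, QuadraticMap.polar_smul_left,
      QuadraticMap.polar_smul_left, h1, h2, hz'b]
    simpa using hzb

omit [DecidableEq ι] [Fintype F] in
theorem finrank_orth_ge (Q : QuadraticForm F (ι → F))
    (hQ : (QuadraticMap.polarBilin Q).Nondegenerate) (W : Submodule F (ι → F)) {k : ℕ}
    (hk : finrank F W ≤ k) : Fintype.card ι - k ≤ finrank F (orth Q W) := by
  rw [finrank_orth Q hQ W, Module.finrank_fintype_fun_eq_card]
  omega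

/-- Moving a non-singular vector `a` to `a + v`, `v` singular and orthogonal to `a`, by a Siegel
element. -/
theorem exists_siegel_map_add (Q : QuadraticForm F (ι → F))
    (hQ : (QuadraticMap.polarBilin Q).Nondegenerate) (h5 : 5 ≤ Fintype.card ι) {a v : ι → F}
    (ha : Q a ≠ 0) (hv : Q v = 0) (hva : QuadraticMap.polar ⇑Q v a = 0) :
    ∃ g ∈ Subgroup.closure (siegelSet Q),
      ((g : Matrix.GeneralLinearGroup ι F) : Matrix ι ι F) *ᵥ a = a + v := by
  by_cases hv0 : v = 0
  · refine ⟨1, Subgroup.one_mem _, ?_⟩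
    rw [hv0, add_zero]
    simp
  have hnd : Cfsg.Agent.Lib.Helper99.QNondegOn Q ⊤ := fun u _ h => hQ.1 u (fun y => h y trivial)
  obtain ⟨v', -, hQv', hvv'⟩ :=
    Cfsg.Agent.Lib.Helper99.exists_hyp_partner Q ⊤ hnd (Submodule.mem_top (x := v)) hv0 hv
  have hv'v : QuadraticMap.polar ⇑Q v' v = 1 := by rw [QuadraticMap.polar_comm]; exact hvv'
  have hvv : QuadraticMap.polar ⇑Q v v = 0 := by
    rw [QuadraticMap.polar_self, hv, smul_zero]
  have hv'v' : QuadraticMap.polar ⇑Q v' v' = 0 := by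
    rw [QuadraticMap.polar_self, hQv', smul_zero]
  obtain ⟨W, hWdef⟩ : ∃ W : Submodule F (ι → F), W = (F ∙ v) ⊔ (F ∙ v') := ⟨_, rfl⟩
  have hvW : v ∈ W := by
    rw [hWdef]; exact Submodule.mem_sup_left (Submodule.mem_span_singleton_self v)
  have hv'W : v' ∈ W := by
    rw [hWdef]; exact Submodule.mem_sup_right (Submodule.mem_span_singleton_self v')
  have hWrank : finrank F W ≤ 2 := by
    rw [hWdef]
    have h2' := Submodule.finrank_add_le_finrank_add_finrank (F ∙ v) (F ∙ v')
    have h3 := finrank_span_singleton_le_one (F := F) v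
    have h4 := finrank_span_singleton_le_one (F := F) v'
    omega
  have h3 : 3 ≤ finrank F (orth Q W) := by
    have := finrank_orth_ge Q hQ W hWrank
    omega
  -- elements of `W` orthogonal to `v` are multiples of `v`
  have hWv : ∀ x ∈ W, QuadraticMap.polar ⇑Q v x = 0 → ∃ α : F, x = α • v := by
    intro x hx hvx
    rw [hWdef] at hx
    obtain ⟨y, hy, z, hz, rfl⟩ := Submodule.mem_sup.mp hx
    obtain ⟨α, rfl⟩ := Submodule.mem_span_singleton.mp hy
    obtain ⟨β, rfl⟩ := Submodule.mem_span_singleton.mp hz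
    rw [QuadraticMap.polar_add_right, QuadraticMap.polar_smul_right,
      QuadraticMap.polar_smul_right, hvv, hvv'] at hvx
    simp only [smul_eq_mul, mul_zero, mul_one, zero_add] at hvx
    exact ⟨α, by rw [hvx, zero_smul, add_zero]⟩
  have hW : ∀ x ∈ W, x ∈ orth Q W → Q x = 0 → x = 0 := by
    intro x hx hxo _
    obtain ⟨α, rfl⟩ := hWv x hx ((mem_orth_iff Q W x).mp hxo v hvW)
    have h := (mem_orth_iff Q W _).mp hxo v' hv'W
    rw [QuadraticMap.polar_smul_right, hv'v] at h
    simp only [smul_eq_mul, mul_one] at h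
    rw [h, zero_smul]
  obtain ⟨s, t, hs, ht, hQs, hQt, hst⟩ := exists_hyp_pair_orth Q hQ W h3 hW
  have haW : a ∉ W := by
    intro haW
    obtain ⟨α, rfl⟩ := hWv a haW hva
    apply ha
    rw [QuadraticMap.map_smul, hv, smul_zero]
  obtain ⟨u, hu, hQu, hua⟩ := exists_singular_orth_polar_ne Q hQ W hs ht hQs hQt hst haW
  have huv : QuadraticMap.polar ⇑Q u v = 0 := by
    rw [QuadraticMap.polar_comm]; exact (mem_orth_iff Q W u).mp hu v hvW
  refine ⟨siegelElt Q hQ u v hQu hv huv (QuadraticMap.polar ⇑Q u a)⁻¹,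
    Subgroup.subset_closure (siegelElt_mem_siegelSet _ _ _ _ _ _ _ _), ?_⟩
  rw [siegelElt_coe, siegelMatrix_mulVec, hva, inv_mul_cancel₀ hua]
  simp

/-- Transitivity of the Siegel group on vectors of a given non-zero norm: the generic case. -/
theorem siegel_transitive_aux (Q : QuadraticForm F (ι → F))
    (hQ : (QuadraticMap.polarBilin Q).Nondegenerate) (h5 : 5 ≤ Fintype.card ι) {a b : ι → F}
    (ha : Q a ≠ 0) (hab : Q b = Q a) (hb : b ∉ F ∙ a) :
    ∃ g ∈ Subgroup.closure (siegelSet Q),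
      ((g : Matrix.GeneralLinearGroup ι F) : Matrix ι ι F) *ᵥ a = b := by
  have h3 : 3 ≤ finrank F (orth Q (F ∙ a)) := by
    have := finrank_orth_ge Q hQ (F ∙ a) (finrank_span_singleton_le_one (F := F) a)
    omega
  have hW : ∀ x ∈ F ∙ a, x ∈ orth Q (F ∙ a) → Q x = 0 → x = 0 := by
    intro x hx _ hQx
    obtain ⟨α, rfl⟩ := Submodule.mem_span_singleton.mp hx
    rw [QuadraticMap.map_smul, smul_eq_mul] at hQx
    rcases mul_eq_zero.mp hQx with h | h
    · have : α = 0 := by simpa using h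
      rw [this, zero_smul]
    · exact absurd h ha
  obtain ⟨s, t, hs, ht, hQs, hQt, hst⟩ := exists_hyp_pair_orth Q hQ (F ∙ a) h3 hW
  obtain ⟨u, hu, hQu, hub⟩ := exists_singular_orth_polar_ne Q hQ (F ∙ a) hs ht hQs hQt hst hb
  have hau : QuadraticMap.polar ⇑Q a u = 0 :=
    (mem_orth_iff Q (F ∙ a) u).mp hu a (Submodule.mem_span_singleton_self a)
  obtain ⟨γ, hγ⟩ : ∃ γ : F, γ = 2 * Q a - QuadraticMap.polar ⇑Q a b := ⟨_, rfl⟩
  obtain ⟨v₁, hv₁def⟩ : ∃ v₁, v₁ = (γ * (QuadraticMap.polar ⇑Q u b)⁻¹) • u := ⟨_, rfl⟩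
  have hQv₁ : Q v₁ = 0 := by rw [hv₁def, QuadraticMap.map_smul, hQu, smul_zero]
  have hv₁a : QuadraticMap.polar ⇑Q v₁ a = 0 := by
    rw [hv₁def, QuadraticMap.polar_smul_left, QuadraticMap.polar_comm (⇑Q) u a, hau, smul_zero]
  have hv₁b : QuadraticMap.polar ⇑Q v₁ b = γ := by
    rw [hv₁def, QuadraticMap.polar_smul_left, smul_eq_mul, mul_assoc, inv_mul_cancel₀ hub,
      mul_one]
  obtain ⟨g₁, hg₁, hg₁a⟩ := exists_siegel_map_add Q hQ h5 ha hQv₁ hv₁a
  obtain ⟨e, hedef⟩ : ∃ e, e = a + v₁ := ⟨_, rfl⟩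
  have hQe : Q e = Q a := by
    rw [hedef, QuadraticMap.map_add Q a v₁, hQv₁, QuadraticMap.polar_comm (⇑Q) a v₁, hv₁a]
    ring
  have hbe : QuadraticMap.polar ⇑Q b e = 2 * Q a := by
    rw [hedef, QuadraticMap.polar_add_right, QuadraticMap.polar_comm (⇑Q) b a,
      QuadraticMap.polar_comm (⇑Q) b v₁, hv₁b, hγ]
    ring
  have hQw : Q (b - e) = 0 := by
    have h := quad_sub_smul Q b e 1
    rw [one_smul] at h
    rw [h, hbe, hab, hQe]; ring
  have hwe : QuadraticMap.polar ⇑Q (b - e) e = 0 := by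
    rw [QuadraticMap.polar_sub_left, hbe, QuadraticMap.polar_self, hQe]
    simp [two_mul]
  obtain ⟨g₂, hg₂, hg₂e⟩ := exists_siegel_map_add Q hQ h5 (by rw [hQe]; exact ha) hQw hwe
  refine ⟨g₂ * g₁, Subgroup.mul_mem _ hg₂ hg₁, ?_⟩
  rw [Subgroup.coe_mul, Units.val_mul, ← mulVec_mulVec, hg₁a, ← hedef, hg₂e]
  abel

/-- Transitivity of the Siegel group on vectors of a given non-zero norm. -/
theorem siegel_transitive (Q : QuadraticForm F (ι → F))
    (hQ : (QuadraticMap.polarBilin Q).Nondegenerate) (h5 : 5 ≤ Fintype.card ι) {a b : ι → F}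
    (ha : Q a ≠ 0) (hab : Q b = Q a) :
    ∃ g ∈ Subgroup.closure (siegelSet Q),
      ((g : Matrix.GeneralLinearGroup ι F) : Matrix ι ι F) *ᵥ a = b := by
  by_cases hb : b ∈ F ∙ a
  swap
  · exact siegel_transitive_aux Q hQ h5 ha hab hb
  have h3 : 3 ≤ finrank F (orth Q (F ∙ a)) := by
    have := finrank_orth_ge Q hQ (F ∙ a) (finrank_span_singleton_le_one (F := F) a)
    omega
  have hW : ∀ x ∈ F ∙ a, x ∈ orth Q (F ∙ a) → Q x = 0 → x = 0 := by
    intro x hx _ hQx
    obtain ⟨α, rfl⟩ := Submodule.mem_span_singleton.mp hx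
    rw [QuadraticMap.map_smul, smul_eq_mul] at hQx
    rcases mul_eq_zero.mp hQx with h | h
    · have : α = 0 := by simpa using h
      rw [this, zero_smul]
    · exact absurd h ha
  obtain ⟨s, t, hs, ht, hQs, hQt, hst⟩ := exists_hyp_pair_orth Q hQ (F ∙ a) h3 hW
  have hs0 : s ≠ 0 := by
    rintro rfl
    rw [QuadraticMap.polar_zero_left] at hst
    exact zero_ne_one hst
  have has : QuadraticMap.polar ⇑Q a s = 0 :=
    (mem_orth_iff Q (F ∙ a) s).mp hs a (Submodule.mem_span_singleton_self a)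
  have hsa : QuadraticMap.polar ⇑Q s a = 0 := by rw [QuadraticMap.polar_comm]; exact has
  obtain ⟨g₁, hg₁, hg₁a⟩ := exists_siegel_map_add Q hQ h5 ha hQs hsa
  have hQe : Q (a + s) = Q a := by
    rw [QuadraticMap.map_add Q a s, hQs, has]; ring
  have hbe : b ∉ F ∙ (a + s) := by
    intro hbe
    obtain ⟨μ, hμ⟩ := Submodule.mem_span_singleton.mp hbe
    obtain ⟨lam, hlam⟩ := Submodule.mem_span_singleton.mp hb
    have h1 : μ • s = (lam - μ) • a := by
      have : μ • (a + s) = lam • a := by rw [hμ, hlam]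
      rw [smul_add] at this
      rw [sub_smul, ← this]; abel
    have h2 : (lam - μ) * (lam - μ) * Q a = 0 := by
      have := congrArg Q h1
      rw [QuadraticMap.map_smul, QuadraticMap.map_smul, hQs, smul_zero] at this
      rw [smul_eq_mul] at this
      exact this.symm
    have h3 : lam - μ = 0 := by
      rcases mul_eq_zero.mp h2 with h | h
      · exact mul_self_eq_zero.mp h
      · exact absurd h ha
    rw [h3, zero_smul] at h1
    have hμ0 : μ = 0 := by
      rcases smul_eq_zero.mp h1 with h | h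
      · exact h
      · exact absurd h hs0
    apply ha
    rw [← hab, ← hμ, hμ0, zero_smul, QuadraticMap.map_zero]
  obtain ⟨g₂, hg₂, hg₂e⟩ := siegel_transitive_aux Q hQ h5 (a := a + s) (b := b)
    (by rw [hQe]; exact ha) (by rw [hQe]; exact hab) hbe
  refine ⟨g₂ * g₁, Subgroup.mul_mem _ hg₂ hg₁, ?_⟩
  rw [Subgroup.coe_mul, Units.val_mul, ← mulVec_mulVec, hg₁a, hg₂e]

/-- The product of two reflections along vectors of the same norm lies in the Siegel group. -/
theorem reflElt_mul_reflElt_mem_siegel (Q : QuadraticForm F (ι → F))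
    (hQ : (QuadraticMap.polarBilin Q).Nondegenerate) (h5 : 5 ≤ Fintype.card ι) (a b : ι → F)
    (ha : Q a ≠ 0) (hb : Q b ≠ 0) (hab : Q b = Q a) :
    reflElt Q hQ a ha * reflElt Q hQ b hb ∈ Subgroup.closure (siegelSet Q) := by
  obtain ⟨g, hg, hga⟩ := siegel_transitive Q hQ h5 ha hab
  have hnorm := siegelClosure_normal Q
  have h1 : reflElt Q hQ b hb = g * reflElt Q hQ a ha * g⁻¹ := by
    rw [conj_reflElt]
    exact reflElt_congr Q hQ _ _ hga.symm
  have h2 : (reflElt Q hQ a ha)⁻¹ = reflElt Q hQ a ha :=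
    inv_eq_of_mul_eq_one_left (reflElt_mul_self Q hQ a ha)
  have h3 : reflElt Q hQ a ha * reflElt Q hQ b hb =
      (reflElt Q hQ a ha * g * (reflElt Q hQ a ha)⁻¹) * g⁻¹ := by
    rw [h1, h2]; group
  rw [h3]
  exact Subgroup.mul_mem _ (hnorm.conj_mem g hg _) (Subgroup.inv_mem _ hg)

/-- A normal subgroup of the isometry group containing all products of two reflections along
vectors of the same norm contains `Ω`. -/
theorem omega_le_of_refl_pairs (Q : QuadraticForm F (ι → F))
    (hQ : (QuadraticMap.polarBilin Q).Nondegenerate)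
    (hcard : (2 : F) = 0 → (Fintype.card F ≠ 2 ∨ Fintype.card ι ≠ 4))
    (N : Subgroup ↥(Cfsg.isometryGroup F ⇑Q)) (hN : N.Normal)
    (hpair : ∀ (a b : ι → F) (ha : Q a ≠ 0) (hb : Q b ≠ 0), Q b = Q a →
      reflElt Q hQ a ha * reflElt Q hQ b hb ∈ N) :
    Cfsg.Omega F ⇑Q ≤ N := by
  have hinv : ∀ (a : ι → F) (ha : Q a ≠ 0), (reflElt Q hQ a ha)⁻¹ = reflElt Q hQ a ha :=
    fun a ha => inv_eq_of_mul_eq_one_left (reflElt_mul_self Q hQ a ha)
  have h1 : ∀ (a b : ι → F) (ha : Q a ≠ 0) (hb : Q b ≠ 0),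
      ⁅reflElt Q hQ a ha, reflElt Q hQ b hb⁆ ∈ N := by
    intro a b ha hb
    have e : ⁅reflElt Q hQ a ha, reflElt Q hQ b hb⁆ =
        (reflElt Q hQ a ha * reflElt Q hQ b hb * (reflElt Q hQ a ha)⁻¹) *
          reflElt Q hQ b hb := by
      rw [commutatorElement_def, hinv b hb]
    rw [e, conj_reflElt]
    exact hpair _ _ _ hb (isom_preserves (reflElt Q hQ a ha) b).symm
  have h2 : ∀ (a : ι → F) (ha : Q a ≠ 0) (l : List (ι → F)) (hl : ∀ u ∈ l, Q u ≠ 0),
      ⁅reflElt Q hQ a ha, prodElt Q hQ l hl⁆ ∈ N := by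
    intro a ha l
    induction l with
    | nil =>
      intro hl
      rw [prodElt_nil, commutatorElement_one_right]
      exact Subgroup.one_mem _
    | cons b l ih =>
      intro hl
      rw [prodElt_cons]
      have e : ∀ x y z : ↥(Cfsg.isometryGroup F ⇑Q), ⁅x, y * z⁆ = ⁅x, y⁆ * (y * ⁅x, z⁆ * y⁻¹) := by
        intro x y z
        simp only [commutatorElement_def]
        group
      rw [e]
      exact Subgroup.mul_mem _ (h1 a b ha _) (hN.conj_mem _ (ih _) _)
  have h3 : ∀ (l : List (ι → F)) (hl : ∀ u ∈ l, Q u ≠ 0) (h : ↥(Cfsg.isometryGroup F ⇑Q)),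
      ⁅prodElt Q hQ l hl, h⁆ ∈ N := by
    intro l
    induction l with
    | nil =>
      intro hl h
      rw [prodElt_nil, commutatorElement_one_left]
      exact Subgroup.one_mem _
    | cons a l ih =>
      intro hl h
      rw [prodElt_cons]
      have e : ∀ x y z : ↥(Cfsg.isometryGroup F ⇑Q), ⁅x * y, z⁆ = (x * ⁅y, z⁆ * x⁻¹) * ⁅x, z⁆ := by
        intro x y z
        simp only [commutatorElement_def]
        group
      rw [e]
      refine Subgroup.mul_mem _ (hN.conj_mem _ (ih _ h) _) ?_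
      obtain ⟨l', hl', rfl⟩ := exists_eq_prodElt_all' Q hQ hcard h
      exact h2 a _ l' hl'
  unfold Cfsg.Omega
  rw [commutator_def, Subgroup.commutator_le]
  intro g _ h _
  obtain ⟨l, hl, rfl⟩ := exists_eq_prodElt_all' Q hQ hcard g
  exact h3 l hl h

/-- `Ω` is contained in the subgroup generated by the Siegel elements (all characteristics,
dimension at least five). -/
theorem omega_le_siegelClosure (Q : QuadraticForm F (ι → F))
    (hQ : (QuadraticMap.polarBilin Q).Nondegenerate) (h5 : 5 ≤ Fintype.card ι) :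
    Cfsg.Omega F ⇑Q ≤ Subgroup.closure (siegelSet Q) :=
  omega_le_of_refl_pairs Q hQ (fun _ => Or.inr (by omega)) _ (siegelClosure_normal Q)
    (fun a b ha hb hab => reflElt_mul_reflElt_mem_siegel Q hQ h5 a b ha hb hab)

/-- `Ω` is generated by the Siegel elements `T_{u,v}(c)` (all characteristics, dimension at
least five). -/
theorem omega_eq_siegelClosure (Q : QuadraticForm F (ι → F))
    (hQ : (QuadraticMap.polarBilin Q).Nondegenerate) (h5 : 5 ≤ Fintype.card ι) :
    Cfsg.Omega F ⇑Q = Subgroup.closure (siegelSet Q) := by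
  apply le_antisymm (omega_le_siegelClosure Q hQ h5)
  rw [Subgroup.closure_le]
  intro g hg
  obtain ⟨u, v, c, hu, hv, huv, hmat⟩ := hg
  have : g = siegelElt Q hQ u v hu hv huv c := by
    apply isom_ext
    rw [hmat, siegelElt_coe]
  rw [this]
  exact siegelElt_mem_omega Q hQ h5 u v hu hv huv c

end siegelgen

end Cfsg.Agent.Lib.Helper44
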