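import Mathlib
import Cfsg.Prelude.Def_LieTypeDatum
import Cfsg.Agent.Lib.Helper14.Centre
import Cfsg.Agent.Lib.Helper14.SOIndex
import Cfsg.Agent.Lib.Helper14.OmegaPerfect
import Cfsg.Agent.Lib.Helper21.LB6

/-!
The image of the (special) orthogonal group in `Aut(PΩ(Q))`: the conjugation action
`isomAut : O(Q) →* Aut(PΩ(Q))`, its kernel `{±1}`, `psoAut = isomAut(SO)`, `Inn = isomAut(Ω)`, and the
index of `Inn(PΩ)` in `psoAut` (even dimension, odd characteristic): `2` if `-1 ∈ Ω`, else `1`.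
-/

set_option autoImplicit false

namespace Cfsg.Agent.Lib.Helper44

open Matrix Module Subgroup
open Cfsg.Agent.Lib.Helper14

section psoAut

variable {ι : Type} [Fintype ι] [DecidableEq ι] {F : Type*} [Field F]

/-- The action of the isometry group on `PΩ(Q)` by conjugation. -/
noncomputable def isomAut (Qf : (ι → F) → F) :
    ↥(Cfsg.isometryGroup F Qf) →* MulAut (Cfsg.POmega F Qf) :=
  (Cfsg.Agent.Lib.Helper21.autQuotCenter ↥(Cfsg.Omega F Qf)).comp MulAut.conjNormal

theorem isomAut_mk (Qf : (ι → F) → F) (g : ↥(Cfsg.isometryGroup F Qf))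
    (s : ↥(Cfsg.Omega F Qf)) :
    isomAut Qf g (QuotientGroup.mk s) = QuotientGroup.mk (MulAut.conjNormal g s) := rfl

theorem conjNormal_coe (Qf : (ι → F) → F) (g : ↥(Cfsg.isometryGroup F Qf))
    (s : ↥(Cfsg.Omega F Qf)) :
    ((((MulAut.conjNormal g s : ↥(Cfsg.Omega F Qf)) : ↥(Cfsg.isometryGroup F Qf)) :
      GL ι F) : Matrix ι ι F) =
      ((g : GL ι F) : Matrix ι ι F) * (((s : ↥(Cfsg.isometryGroup F Qf)) : GL ι F) : Matrix ι ι F) *
        (((g : GL ι F)⁻¹ : GL ι F) : Matrix ι ι F) := by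
  rw [MulAut.conjNormal_apply]
  rfl

omit [Fintype ι] [DecidableEq ι] in
theorem map_refl_eq (M : Matrix ι ι F) : M.map ⇑(RingEquiv.refl F) = M := by
  ext i j
  rfl

/-- The image of the special orthogonal group in `Aut(PΩ)` is the image of `SO` under `isomAut`. -/
theorem psoAut_eq_map (Qf : (ι → F) → F) :
    Cfsg.psoAut F Qf = (Cfsg.specialIsometryGroup F Qf).map (isomAut Qf) := by
  have hset : {β : MulAut (Cfsg.POmega F Qf) | Cfsg.IsSpecialIsometryInducedAutPOmega Qf β} =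
      (((Cfsg.specialIsometryGroup F Qf).map (isomAut Qf) : Subgroup (MulAut (Cfsg.POmega F Qf))) :
        Set (MulAut (Cfsg.POmega F Qf))) := by
    ext β
    constructor
    · rintro ⟨g, hg, hind⟩
      have hg1 : g ∈ Cfsg.isometryGroup F Qf := hg.1
      have hg2 : g ∈ Cfsg.Geo.specialLinear ι F := hg.2
      refine ⟨⟨g, hg1⟩, ?_, ?_⟩
      · rw [SetLike.mem_coe, mem_specialIsometryGroup_iff]
        have h := congrArg Units.val (MonoidHom.mem_ker.mp hg2)
        rwa [Matrix.GeneralLinearGroup.val_det_apply, Units.val_one] at h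
      · apply MulEquiv.ext
        intro q
        obtain ⟨s, rfl⟩ := QuotientGroup.mk_surjective q
        rw [isomAut_mk]
        symm
        apply hind
        rw [conjNormal_coe, map_refl_eq]
    · rintro ⟨g, hg, rfl⟩
      rw [SetLike.mem_coe, mem_specialIsometryGroup_iff] at hg
      refine ⟨(g : GL ι F), ⟨g.2, ?_⟩, ?_⟩
      · show (g : GL ι F) ∈ (Matrix.GeneralLinearGroup.det : GL ι F →* Fˣ).ker
        rw [MonoidHom.mem_ker]
        apply Units.ext
        rw [Matrix.GeneralLinearGroup.val_det_apply, Units.val_one]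
        exact hg
      · intro s s' hs'
        rw [isomAut_mk]
        congr 1
        apply Subtype.ext
        apply isom_ext
        rw [hs', conjNormal_coe, map_refl_eq]
  unfold Cfsg.psoAut Cfsg.autSubgroupOf
  rw [hset, Subgroup.closure_eq]

/-- The inner automorphisms of `PΩ` are the image of `Ω` under `isomAut`. -/
theorem inn_eq_map (Qf : (ι → F) → F) :
    Cfsg.Inn (Cfsg.POmega F Qf) = (Cfsg.Omega F Qf).map (isomAut Qf) := by
  have key : ∀ (g : ↥(Cfsg.isometryGroup F Qf)) (hg : g ∈ Cfsg.Omega F Qf),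
      isomAut Qf g = MulAut.conj (QuotientGroup.mk (⟨g, hg⟩ : ↥(Cfsg.Omega F Qf)) :
        Cfsg.POmega F Qf) := by
    intro g hg
    apply MulEquiv.ext
    intro q
    obtain ⟨s, rfl⟩ := QuotientGroup.mk_surjective q
    rw [isomAut_mk, MulAut.conj_apply, ← QuotientGroup.mk_mul, ← QuotientGroup.mk_inv,
      ← QuotientGroup.mk_mul]
    congr 1
  ext β
  constructor
  · rintro ⟨q, rfl⟩
    obtain ⟨s, rfl⟩ := QuotientGroup.mk_surjective q
    exact ⟨(s : ↥(Cfsg.isometryGroup F Qf)), s.2, key s.1 s.2⟩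
  · rintro ⟨g, hg, rfl⟩
    exact ⟨_, (key g hg).symm⟩

/-- Elements with matrix `±1` act trivially on `PΩ`. -/
theorem isomAut_eq_one_of_scalar (Qf : (ι → F) → F) (g : ↥(Cfsg.isometryGroup F Qf))
    (hg : ((g : GL ι F) : Matrix ι ι F) = 1 ∨ ((g : GL ι F) : Matrix ι ι F) = -1) :
    isomAut Qf g = 1 := by
  apply MulEquiv.ext
  intro q
  obtain ⟨s, rfl⟩ := QuotientGroup.mk_surjective q
  rw [isomAut_mk, MulAut.one_apply]
  congr 1
  apply Subtype.ext
  apply isom_ext
  rw [conjNormal_coe]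
  have hinv : ((g : GL ι F) : Matrix ι ι F) * (((g : GL ι F)⁻¹ : GL ι F) : Matrix ι ι F) = 1 := by
    rw [← Units.val_mul, mul_inv_cancel, Units.val_one]
  rcases hg with h | h
  · rw [h] at hinv ⊢
    rw [one_mul] at hinv ⊢
    rw [hinv, mul_one]
  · rw [h] at hinv ⊢
    rw [neg_one_mul] at hinv ⊢
    rw [neg_mul, ← mul_neg, hinv, mul_one]

/-- The kernel of the action on `PΩ` consists of the elements with matrix `±1`. -/
theorem scalar_of_isomAut_eq_one [Fintype F] (Q : QuadraticForm F (ι → F))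
    (hQ : (QuadraticMap.polarBilin Q).Nondegenerate)
    (E : Submodule F (ι → F)) (hE : 3 ≤ finrank F E) (hE0 : ∀ x ∈ E, Q x = 0)
    (g : ↥(Cfsg.isometryGroup F ⇑Q)) (hg : isomAut ⇑Q g = 1) :
    ((g : GL ι F) : Matrix ι ι F) = 1 ∨ ((g : GL ι F) : Matrix ι ι F) = -1 := by
  have hn : 5 ≤ Fintype.card ι := by
    have h1 := two_mul_finrank_le_of_ts hQ hE0
    rw [Module.finrank_fintype_fun_eq_card] at h1
    omega
  have hperf := omega_perfect_sub Q hQ hn
  have hHN : (⊤ : Subgroup ↥(Cfsg.isometryGroup F ⇑Q)) ≤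
      normalizer ((commutator ↥(Cfsg.isometryGroup F ⇑Q) : Subgroup ↥(Cfsg.isometryGroup F ⇑Q)) :
        Set ↥(Cfsg.isometryGroup F ⇑Q)) := by
    rw [Subgroup.normalizer_eq_top]
  have h1 : Cfsg.Agent.Lib.Helper21.autHom (commutator ↥(Cfsg.isometryGroup F ⇑Q)) ⊤ hHN
      ⟨g, Subgroup.mem_top g⟩ = 1 := by
    apply MulEquiv.ext
    intro q
    have h2 := congrArg (fun β : MulAut (Cfsg.POmega F ⇑Q) => β q) hg
    exact h2
  have h3 := Cfsg.Agent.Lib.Helper21.mem_centralizer_of_autHom_eq_one hHN hperf h1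
  apply centralizer_omega Q hQ E hE hE0 g
  intro h hh
  exact (mem_centralizer_iff.mp h3 h hh).symm

/-- `Ω` has index two in `SO` (odd characteristic). -/
theorem relIndex_omega_SO [Fintype F] (h2 : (2 : F) ≠ 0) (Q : QuadraticForm F (ι → F))
    (hQ : (QuadraticMap.polarBilin Q).Nondegenerate) (hn : 2 ≤ Fintype.card ι) :
    (commutator ↥(Cfsg.isometryGroup F ⇑Q)).relIndex (Cfsg.specialIsometryGroup F ⇑Q) = 2 := by
  have hne : (-1 : F) ≠ 1 := by
    intro h
    apply h2
    linear_combination -h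
  obtain ⟨b, hb⟩ := exists_not_isSquare h2
  have hb0 : b ≠ 0 := fun h => hb ⟨0, by simp [h]⟩
  obtain ⟨v, hv1⟩ := exists_vec_quad_eq h2 Q hQ hn 1
  obtain ⟨w, hwb⟩ := exists_vec_quad_eq h2 Q hQ hn b
  have hv : Q v ≠ 0 := by rw [hv1]; exact one_ne_zero
  have hw : Q w ≠ 0 := by rw [hwb]; exact hb0
  have h4 := index_commutator_eq_four h2 Q hQ hn
  have hle := commutator_le_specialIsometryGroup (F := F) (⇑Q)
  have hmul := Subgroup.relIndex_mul_index hle
  rw [h4] at hmul
  have hso : (Cfsg.specialIsometryGroup F ⇑Q).index ≠ 1 := by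
    rw [Ne, Subgroup.index_eq_one]
    intro htop
    have hmem : reflElt Q hQ v hv ∈ Cfsg.specialIsometryGroup F ⇑Q := by rw [htop]; trivial
    rw [mem_specialIsometryGroup_iff] at hmem
    simp only [reflElt, mkIsom_coe, det_reflectionMatrix Q hv] at hmem
    exact hne hmem
  have hrel : (commutator ↥(Cfsg.isometryGroup F ⇑Q)).relIndex
      (Cfsg.specialIsometryGroup F ⇑Q) ≠ 1 := by
    rw [Ne, Subgroup.relIndex_eq_one]
    intro hle'
    have hl : ∀ u ∈ [v, w], Q u ≠ 0 := by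
      intro u hu
      simp only [List.mem_cons, List.not_mem_nil, or_false] at hu
      rcases hu with rfl | rfl
      · exact hv
      · exact hw
    have hmem : prodElt Q hQ [v, w] hl ∈ Cfsg.specialIsometryGroup F ⇑Q := by
      rw [mem_specialIsometryGroup_iff]
      simp only [prodElt, mkIsom_coe]
      rw [det_prod_reflectionMatrix Q _ hl]
      simp
    have := (prodElt_mem_commutator_iff h2 Q hQ [v, w] hl).mp (hle' hmem)
    have h5 := this.2
    simp only [List.map_cons, List.map_nil, List.prod_cons, List.prod_nil, mul_one] at h5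
    rw [hv1, hwb, one_mul] at h5
    exact hb h5
  generalize (commutator ↥(Cfsg.isometryGroup F ⇑Q)).relIndex
    (Cfsg.specialIsometryGroup F ⇑Q) = x at hmul hrel ⊢
  generalize (Cfsg.specialIsometryGroup F ⇑Q).index = y at hmul hso
  have hx : x ∣ 4 := Dvd.intro _ hmul
  have hx4 : x ≤ 4 := Nat.le_of_dvd (by norm_num) hx
  interval_cases x <;> omega

/-- The index of `Inn(PΩ)` in the image of `SO` in `Aut(PΩ)`, in even dimension and odd
characteristic: two if `-1 ∈ Ω`, one otherwise. -/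
theorem relIndex_inn_psoAut [Fintype F] (h2 : (2 : F) ≠ 0) (Q : QuadraticForm F (ι → F))
    (hQ : (QuadraticMap.polarBilin Q).Nondegenerate)
    (E : Submodule F (ι → F)) (hE : 3 ≤ finrank F E) (hE0 : ∀ x ∈ E, Q x = 0)
    (hev : Even (Fintype.card ι)) :
    ((∃ g : ↥(Cfsg.isometryGroup F ⇑Q), g ∈ Cfsg.Omega F ⇑Q ∧
        ((g : GL ι F) : Matrix ι ι F) = -1) →
      (Cfsg.Inn (Cfsg.POmega F ⇑Q)).relIndex (Cfsg.psoAut F ⇑Q) = 2) ∧
    ((¬ ∃ g : ↥(Cfsg.isometryGroup F ⇑Q), g ∈ Cfsg.Omega F ⇑Q ∧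
        ((g : GL ι F) : Matrix ι ι F) = -1) →
      (Cfsg.Inn (Cfsg.POmega F ⇑Q)).relIndex (Cfsg.psoAut F ⇑Q) = 1) := by
  have hn : 6 ≤ Fintype.card ι := by
    have h1 := two_mul_finrank_le_of_ts hQ hE0
    rw [Module.finrank_fintype_fun_eq_card] at h1
    omega
  have hrel := relIndex_omega_SO h2 Q hQ (by omega)
  have hle := commutator_le_specialIsometryGroup (F := F) (⇑Q)
  have hker : ∀ g : ↥(Cfsg.isometryGroup F ⇑Q), g ∈ (isomAut ⇑Q).ker ↔
      (((g : GL ι F) : Matrix ι ι F) = 1 ∨ ((g : GL ι F) : Matrix ι ι F) = -1) := by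
    intro g
    rw [MonoidHom.mem_ker]
    exact ⟨scalar_of_isomAut_eq_one Q hQ E hE hE0 g, isomAut_eq_one_of_scalar ⇑Q g⟩
  have hkerSO : (isomAut ⇑Q).ker ≤ Cfsg.specialIsometryGroup F ⇑Q := by
    intro g hg
    rw [mem_specialIsometryGroup_iff]
    rcases (hker g).mp hg with h | h
    · rw [h, det_one]
    · rw [h, det_neg, det_one, mul_one, Even.neg_one_pow hev]
  have hsup : Cfsg.specialIsometryGroup F ⇑Q ⊔ (isomAut ⇑Q).ker = Cfsg.specialIsometryGroup F ⇑Q :=
    sup_eq_left.mpr hkerSO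
  rw [inn_eq_map, psoAut_eq_map, Subgroup.relIndex_map_map, hsup]
  constructor
  · rintro ⟨g₀, hg₀, hmat⟩
    have hkerO : (isomAut ⇑Q).ker ≤ Cfsg.Omega F ⇑Q := by
      intro g hg
      rcases (hker g).mp hg with h | h
      · have : g = 1 := isom_ext (by rw [h]; rfl)
        rw [this]
        exact Subgroup.one_mem _
      · have : g = g₀ := isom_ext (by rw [h, hmat])
        rw [this]
        exact hg₀
    rw [sup_eq_left.mpr hkerO]
    exact hrel
  · intro hno
    rw [Subgroup.relIndex_eq_one]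
    have hz : ∀ x, Q ((-1 : Matrix ι ι F) *ᵥ x) = Q x := by
      intro x
      rw [neg_mulVec, one_mulVec, QuadraticMap.map_neg]
    obtain ⟨z, hzdef⟩ : ∃ z : ↥(Cfsg.isometryGroup F ⇑Q), z = mkIsom Q hQ (-1) hz := ⟨_, rfl⟩
    have hzmat : ((z : GL ι F) : Matrix ι ι F) = -1 := by rw [hzdef, mkIsom_coe]
    have hzker : z ∈ (isomAut ⇑Q).ker := (hker z).mpr (Or.inr hzmat)
    have hzO : z ∉ Cfsg.Omega F ⇑Q := fun h => hno ⟨z, h, hzmat⟩
    have hzSO : z ∈ Cfsg.specialIsometryGroup F ⇑Q := hkerSO hzker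
    intro g hg
    by_cases hgO : g ∈ Cfsg.Omega F ⇑Q
    · exact Subgroup.mem_sup_left hgO
    · have hidx : ((commutator ↥(Cfsg.isometryGroup F ⇑Q)).subgroupOf
          (Cfsg.specialIsometryGroup F ⇑Q)).index = 2 := hrel
      have h3 := Subgroup.mul_mem_iff_of_index_two hidx
        (a := (⟨g, hg⟩ : ↥(Cfsg.specialIsometryGroup F ⇑Q))) (b := ⟨z, hzSO⟩)
      have h4 : g * z ∈ Cfsg.Omega F ⇑Q := by
        have := h3.mpr ⟨fun h => (hgO (Subgroup.mem_subgroupOf.mp h)).elim,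
          fun h => (hzO (Subgroup.mem_subgroupOf.mp h)).elim⟩
        exact Subgroup.mem_subgroupOf.mp this
      have h5 : g = (g * z) * z⁻¹ := by group
      rw [h5]
      exact Subgroup.mul_mem_sup h4 (Subgroup.inv_mem _ hzker)

end psoAut

section nt

theorem nine_pow_mod_four (k : ℕ) : 9 ^ k % 4 = 1 := by
  rw [Nat.pow_mod]
  norm_num

theorem pow_mod_four_eq_three_iff {q m : ℕ} (hq : Odd q) :
    q ^ m % 4 = 3 ↔ (Odd m ∧ q % 4 = 3) := by
  have hq4 : q % 4 = 1 ∨ q % 4 = 3 := by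
    rw [Nat.odd_iff] at hq
    omega
  rcases hq4 with h | h
  · rw [Nat.pow_mod, h, one_pow]
    constructor
    · intro h'; norm_num at h'
    · rintro ⟨_, h'⟩; omega
  · rw [Nat.pow_mod, h]
    rcases Nat.even_or_odd' m with ⟨k, rfl | rfl⟩
    · rw [pow_mul, show 3 ^ 2 = 9 by norm_num, nine_pow_mod_four]
      constructor
      · intro h'; norm_num at h'
      · rintro ⟨h', _⟩
        rw [Nat.odd_iff] at h'
        omega
    · rw [pow_succ, pow_mul, show 3 ^ 2 = 9 by norm_num, Nat.mul_mod, nine_pow_mod_four]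
      constructor
      · intro _
        exact ⟨⟨k, rfl⟩, rfl⟩
      · intro _
        norm_num

theorem pow_mod_four_eq_one_iff {q m : ℕ} (hq : Odd q) :
    q ^ m % 4 = 1 ↔ ¬ (Odd m ∧ q % 4 = 3) := by
  rw [← pow_mod_four_eq_three_iff hq]
  have h1 : Odd (q ^ m) := hq.pow
  rw [Nat.odd_iff] at h1
  omega

end nt

end Cfsg.Agent.Lib.Helper44
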