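import Mathlib
import Cfsg.Prelude.Def_LieTypeDatum
import Cfsg.Agent.Lib.Helper44.PsoAut

/-!
The image of the conformal orthogonal group `GO(Q)` in `Aut(PΩ(Q))`: the conjugation action
`simAut : GO(Q) →* Aut(PΩ(Q))`, its kernel (the scalars), the multiplier, and the structure of
`pgoAut / psoAut` (elementary abelian of order four in even dimension and odd characteristic).
-/

set_option autoImplicit false

namespace Cfsg.Agent.Lib.Helper44

open Matrix Module Subgroup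
open Cfsg.Agent.Lib.Helper14

section general

/-- Automorphisms of a group act on its commutator subgroup. -/
noncomputable def autCommutator (G : Type*) [Group G] : MulAut G →* MulAut ↥(commutator G) where
  toFun α :=
    { toFun := fun s => ⟨α s, by
        have h := (Subgroup.characteristic_iff_map_eq.mp
          (inferInstance : (commutator G).Characteristic)) α
        have h' : α (s : G) ∈ (commutator G).map (MulEquiv.toMonoidHom α) := ⟨s, s.2, rfl⟩
        rwa [h] at h'⟩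
      invFun := fun s => ⟨α.symm s, by
        have h := (Subgroup.characteristic_iff_map_eq.mp
          (inferInstance : (commutator G).Characteristic)) α.symm
        have h' : α.symm (s : G) ∈ (commutator G).map (MulEquiv.toMonoidHom α.symm) :=
          ⟨s, s.2, rfl⟩
        rwa [h] at h'⟩
      left_inv := fun s => by
        apply Subtype.ext
        simp
      right_inv := fun s => by
        apply Subtype.ext
        simp
      map_mul' := fun s t => by
        apply Subtype.ext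
        simp }
  map_one' := by
    ext s
    rfl
  map_mul' := by
    intro α β
    ext s
    rfl

theorem autCommutator_coe (G : Type*) [Group G] (α : MulAut G) (s : ↥(commutator G)) :
    ((autCommutator G α s : ↥(commutator G)) : G) = α s := rfl

/-- For an automorphism `α` acting trivially modulo the centre, the map `s ↦ s⁻¹ α(s)` into the
centre. -/
noncomputable def centralDefect {K : Type*} [Group K] (α : MulAut K)
    (hc : ∀ s : K, s⁻¹ * α s ∈ center K) : K →* ↥(center K) where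
  toFun s := ⟨s⁻¹ * α s, hc s⟩
  map_one' := by
    apply Subtype.ext
    simp
  map_mul' := by
    intro s t
    apply Subtype.ext
    show (s * t)⁻¹ * α (s * t) = (s⁻¹ * α s) * (t⁻¹ * α t)
    have hz := (mem_center_iff.mp (hc s)) t⁻¹
    rw [map_mul, _root_.mul_inv_rev]
    calc t⁻¹ * s⁻¹ * (α s * α t) = (t⁻¹ * (s⁻¹ * α s)) * α t := by group
      _ = ((s⁻¹ * α s) * t⁻¹) * α t := by rw [hz]
      _ = (s⁻¹ * α s) * (t⁻¹ * α t) := by group

/-- An automorphism of a perfect group acting trivially modulo the centre is trivial. -/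
theorem aut_eq_one_of_autQuotCenter {K : Type*} [Group K] (hperf : commutator K = ⊤)
    (α : MulAut K) (h : Cfsg.Agent.Lib.Helper21.autQuotCenter K α = 1) : α = 1 := by
  have hc : ∀ s : K, s⁻¹ * α s ∈ center K := by
    intro s
    have h1 := congrArg (fun β : MulAut (K ⧸ center K) => β (QuotientGroup.mk s)) h
    have h2 : (QuotientGroup.mk (α s) : K ⧸ center K) = QuotientGroup.mk s := h1
    exact QuotientGroup.eq.mp h2.symm
  have hker : (centralDefect α hc).ker = ⊤ := by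
    have h5 : commutator K ≤ (centralDefect α hc).ker := by
      rw [commutator_eq_closure, Subgroup.closure_le]
      rintro _ ⟨a, b, rfl⟩
      rw [SetLike.mem_coe, MonoidHom.mem_ker, map_commutatorElement,
        commutatorElement_eq_one_iff_mul_comm]
      apply Subtype.ext
      exact mem_center_iff.mp ((centralDefect α hc) b).2 _
    rw [hperf] at h5
    exact top_le_iff.mp h5
  apply MulEquiv.ext
  intro s
  have hs : s ∈ (centralDefect α hc).ker := by rw [hker]; trivial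
  have h3 := congrArg Subtype.val (MonoidHom.mem_ker.mp hs)
  have h4 : s⁻¹ * α s = 1 := h3
  rw [MulAut.one_apply]
  exact (inv_mul_eq_one.mp h4).symm

end general

section sim

variable {ι : Type} [Fintype ι] [DecidableEq ι] {F : Type*} [Field F]

theorem isometryGroup_le_sim (Qf : (ι → F) → F) :
    Cfsg.isometryGroup F Qf ≤ Cfsg.Geo.quadSimilarityGroup (F := F) Qf := by
  intro g hg
  rw [mem_isometryGroup_iff] at hg
  exact ⟨1, fun v => by rw [hg v, Units.val_one, one_mul]⟩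

/-- A similarity conjugates isometries to isometries. -/
theorem sim_conj_mem (Qf : (ι → F) → F) {g h : GL ι F}
    (hg : g ∈ Cfsg.Geo.quadSimilarityGroup (F := F) Qf) (hh : h ∈ Cfsg.isometryGroup F Qf) :
    g * h * g⁻¹ ∈ Cfsg.isometryGroup F Qf := by
  obtain ⟨c, hc⟩ := hg
  rw [mem_isometryGroup_iff] at hh ⊢
  intro x
  have e1 : ((g * h * g⁻¹ : GL ι F) : Matrix ι ι F) *ᵥ x =
      (g : Matrix ι ι F) *ᵥ ((h : Matrix ι ι F) *ᵥ (((g⁻¹ : GL ι F) : Matrix ι ι F) *ᵥ x)) := by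
    rw [Units.val_mul, Units.val_mul, ← mulVec_mulVec, ← mulVec_mulVec]
  have e2 : x = (g : Matrix ι ι F) *ᵥ (((g⁻¹ : GL ι F) : Matrix ι ι F) *ᵥ x) := by
    rw [mulVec_mulVec, ← Units.val_mul, mul_inv_cancel, Units.val_one, one_mulVec]
  rw [e1, hc, hh]
  conv_rhs => rw [e2, hc]

/-- Conjugation by a similarity, as an automorphism of the isometry group. -/
noncomputable def simConjO (Qf : (ι → F) → F)
    (g : ↥(Cfsg.Geo.quadSimilarityGroup (F := F) Qf)) :
    ↥(Cfsg.isometryGroup F Qf) ≃* ↥(Cfsg.isometryGroup F Qf) where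
  toFun h := ⟨(g : GL ι F) * h * (g : GL ι F)⁻¹, sim_conj_mem Qf g.2 h.2⟩
  invFun h := ⟨(g : GL ι F)⁻¹ * h * (g : GL ι F), by
    have := sim_conj_mem Qf (Subgroup.inv_mem _ g.2) h.2
    rwa [inv_inv] at this⟩
  left_inv h := by
    apply Subtype.ext
    show (g : GL ι F)⁻¹ * ((g : GL ι F) * h * (g : GL ι F)⁻¹) * (g : GL ι F) = h
    group
  right_inv h := by
    apply Subtype.ext
    show (g : GL ι F) * ((g : GL ι F)⁻¹ * h * (g : GL ι F)) * (g : GL ι F)⁻¹ = h
    group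
  map_mul' h k := by
    apply Subtype.ext
    show (g : GL ι F) * ((h : GL ι F) * k) * (g : GL ι F)⁻¹ =
      ((g : GL ι F) * h * (g : GL ι F)⁻¹) * ((g : GL ι F) * k * (g : GL ι F)⁻¹)
    group

/-- The conjugation action of the similarity group on the isometry group. -/
noncomputable def simConjHom (Qf : (ι → F) → F) :
    ↥(Cfsg.Geo.quadSimilarityGroup (F := F) Qf) →* MulAut ↥(Cfsg.isometryGroup F Qf) where
  toFun := simConjO Qf
  map_one' := by
    apply MulEquiv.ext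
    intro h
    apply Subtype.ext
    show ((1 : ↥(Cfsg.Geo.quadSimilarityGroup (F := F) Qf)) : GL ι F) * h *
      ((1 : ↥(Cfsg.Geo.quadSimilarityGroup (F := F) Qf)) : GL ι F)⁻¹ = h
    rw [Subgroup.coe_one]
    group
  map_mul' := by
    intro g g'
    apply MulEquiv.ext
    intro h
    apply Subtype.ext
    show ((g * g' : ↥(Cfsg.Geo.quadSimilarityGroup (F := F) Qf)) : GL ι F) * h *
      ((g * g' : ↥(Cfsg.Geo.quadSimilarityGroup (F := F) Qf)) : GL ι F)⁻¹ =
      (g : GL ι F) * ((g' : GL ι F) * h * (g' : GL ι F)⁻¹) * (g : GL ι F)⁻¹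
    rw [Subgroup.coe_mul]
    group

/-- The action of the similarity group on `PΩ(Q)` by conjugation. -/
noncomputable def simAut (Qf : (ι → F) → F) :
    ↥(Cfsg.Geo.quadSimilarityGroup (F := F) Qf) →* MulAut (Cfsg.POmega F Qf) :=
  (Cfsg.Agent.Lib.Helper21.autQuotCenter ↥(Cfsg.Omega F Qf)).comp
    ((autCommutator ↥(Cfsg.isometryGroup F Qf)).comp (simConjHom Qf))

theorem simAut_mk (Qf : (ι → F) → F) (g : ↥(Cfsg.Geo.quadSimilarityGroup (F := F) Qf))
    (s : ↥(Cfsg.Omega F Qf)) :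
    simAut Qf g (QuotientGroup.mk s) =
      QuotientGroup.mk (autCommutator ↥(Cfsg.isometryGroup F Qf) (simConjHom Qf g) s) := rfl

theorem simConj_coe (Qf : (ι → F) → F) (g : ↥(Cfsg.Geo.quadSimilarityGroup (F := F) Qf))
    (s : ↥(Cfsg.Omega F Qf)) :
    ((((autCommutator ↥(Cfsg.isometryGroup F Qf) (simConjHom Qf g) s : ↥(Cfsg.Omega F Qf)) :
      ↥(Cfsg.isometryGroup F Qf)) : GL ι F) : Matrix ι ι F) =
      ((g : GL ι F) : Matrix ι ι F) * (((s : ↥(Cfsg.isometryGroup F Qf)) : GL ι F) : Matrix ι ι F) *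
        (((g : GL ι F)⁻¹ : GL ι F) : Matrix ι ι F) := rfl

/-- The subgroup of `Aut(PΩ)` generated by the automorphisms induced by the elements of a subgroup
`H` of the similarity group is the image of `H`. -/
theorem closure_induced_eq_map (Qf : (ι → F) → F) (H : Subgroup (GL ι F))
    (hH : H ≤ Cfsg.Geo.quadSimilarityGroup (F := F) Qf) :
    Subgroup.closure {β : MulAut (Cfsg.POmega F Qf) | ∃ g : GL ι F, g ∈ H ∧
        Cfsg.IsInducedBySemilinearPOmega Qf g (RingEquiv.refl F) β} =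
      (H.subgroupOf (Cfsg.Geo.quadSimilarityGroup (F := F) Qf)).map (simAut Qf) := by
  have hset : {β : MulAut (Cfsg.POmega F Qf) | ∃ g : GL ι F, g ∈ H ∧
        Cfsg.IsInducedBySemilinearPOmega Qf g (RingEquiv.refl F) β} =
      (((H.subgroupOf (Cfsg.Geo.quadSimilarityGroup (F := F) Qf)).map (simAut Qf) :
        Subgroup (MulAut (Cfsg.POmega F Qf))) : Set (MulAut (Cfsg.POmega F Qf))) := by
    ext β
    constructor
    · rintro ⟨g, hg, hind⟩
      refine ⟨⟨g, hH hg⟩, ?_, ?_⟩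
      · exact Subgroup.mem_subgroupOf.mpr hg
      · apply MulEquiv.ext
        intro q
        obtain ⟨s, rfl⟩ := QuotientGroup.mk_surjective q
        rw [simAut_mk]
        symm
        apply hind
        rw [simConj_coe, map_refl_eq]
    · rintro ⟨g, hg, rfl⟩
      refine ⟨(g : GL ι F), Subgroup.mem_subgroupOf.mp hg, ?_⟩
      intro s s' hs'
      rw [simAut_mk]
      congr 1
      apply Subtype.ext
      apply isom_ext
      rw [hs', simConj_coe, map_refl_eq]
  rw [hset, Subgroup.closure_eq]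

theorem pgoAut_eq_range (Qf : (ι → F) → F) :
    Cfsg.pgoAut F Qf = (simAut Qf).range := by
  have h := closure_induced_eq_map Qf (Cfsg.Geo.quadSimilarityGroup (F := F) Qf) le_rfl
  rw [Subgroup.subgroupOf_self, ← MonoidHom.range_eq_map] at h
  exact h

theorem psoAut_eq_map_sim (Qf : (ι → F) → F) :
    Cfsg.psoAut F Qf = ((Cfsg.specialIsometryGL F Qf).subgroupOf
      (Cfsg.Geo.quadSimilarityGroup (F := F) Qf)).map (simAut Qf) :=
  closure_induced_eq_map Qf (Cfsg.specialIsometryGL F Qf)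
    (fun _ hg => isometryGroup_le_sim Qf hg.1)

/-- A matrix commuting with `Ω` has every non-singular vector as an eigenvector, provided there
is a totally singular subspace of dimension at least three. -/
theorem eigen_of_centralizes_mat [Fintype F] (Q : QuadraticForm F (ι → F))
    (hQ : (QuadraticMap.polarBilin Q).Nondegenerate)
    (hcard : (2 : F) = 0 → (Fintype.card F ≠ 2 ∨ Fintype.card ι ≠ 4))
    (E : Submodule F (ι → F)) (hE : 3 ≤ finrank F E) (hE0 : ∀ x ∈ E, Q x = 0)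
    (G : Matrix ι ι F)
    (hg : ∀ h ∈ commutator ↥(Cfsg.isometryGroup F ⇑Q),
      G * ((h : GL ι F) : Matrix ι ι F) = ((h : GL ι F) : Matrix ι ι F) * G)
    (u : ι → F) (hu : Q u ≠ 0) :
    ∃ lam : F, G *ᵥ u = lam • u := by
  have key : ∀ t ∈ E, QuadraticMap.polar ⇑Q u t = 0 → t ≠ 0 →
      ∃ a b : F, G *ᵥ u = a • u + b • t := by
    intro t htE hut ht0
    have hQt : Q t = 0 := hE0 t htE
    have hQv : Q (u + t) = Q u := by
      have e := QuadraticMap.map_add (⇑Q) u t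
      rw [e, hQt, hut, add_zero, add_zero]
    have hv : Q (u + t) ≠ 0 := by rw [hQv]; exact hu
    have hind : ∀ a : F, a • (u + t) ≠ u := by
      intro a ha
      have e1 : a • t = (1 - a) • u := by
        have ha' : a • u + a • t = u := by rw [← smul_add]; exact ha
        rw [sub_smul, one_smul]
        exact eq_sub_of_add_eq' ha'
      have e2 : Q (a • t) = Q ((1 - a) • u) := by rw [e1]
      rw [QuadraticMap.map_smul, QuadraticMap.map_smul, hQt, smul_zero] at e2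
      have e3 : (1 - a) * (1 - a) = 0 := by
        rcases mul_eq_zero.mp e2.symm with h | h
        · exact h
        · exact absurd h hu
      have e4 : 1 - a = 0 := by
        rcases mul_eq_zero.mp e3 with h | h <;> exact h
      have e5 : a = 1 := (sub_eq_zero.mp e4).symm
      rw [e5, one_smul] at ha
      apply ht0
      have : u + t = u + 0 := by rw [ha, add_zero]
      exact add_left_cancel this
    have hmem := reflElt_mul_reflElt_mem Q hQ hcard hu hv hQv.symm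
    have hG : G * (Cfsg.reflectionMatrix ⇑Q u * Cfsg.reflectionMatrix ⇑Q (u + t)) =
        (Cfsg.reflectionMatrix ⇑Q u * Cfsg.reflectionMatrix ⇑Q (u + t)) * G := by
      have := hg _ hmem
      simp only [Subgroup.coe_mul, Units.val_mul] at this
      exact this
    obtain ⟨α, β, hαβ⟩ := commute_refl_refl_mulVec Q hQ hu hind G hG
    refine ⟨α + β, β, ?_⟩
    rw [hαβ, smul_add, add_smul]
    abel
  obtain ⟨T, hT⟩ : ∃ T : Submodule F (ι → F),
      T = E ⊓ LinearMap.ker (QuadraticMap.polarBilin Q u) := ⟨_, rfl⟩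
  have hTrank : 2 ≤ finrank F T := by
    have := finrank_le_inf_ker_add_one (QuadraticMap.polarBilin Q u) E
    rw [hT]
    omega
  have hTmem : ∀ t ∈ T, t ∈ E ∧ QuadraticMap.polar ⇑Q u t = 0 := by
    intro t ht
    rw [hT] at ht
    exact ⟨ht.1, LinearMap.mem_ker.mp ht.2⟩
  have hTne : T ≠ ⊥ := by
    intro h
    rw [h, finrank_bot] at hTrank
    omega
  obtain ⟨t₁, ht₁, ht₁0⟩ := Submodule.exists_mem_ne_zero_of_ne_bot hTne
  obtain ⟨a₁, b₁, h₁⟩ := key t₁ (hTmem t₁ ht₁).1 (hTmem t₁ ht₁).2 ht₁0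
  by_cases hb₁ : b₁ = 0
  · exact ⟨a₁, by rw [h₁, hb₁, zero_smul, add_zero]⟩
  have hnle : ¬ T ≤ Submodule.span F {t₁} := by
    intro h
    have h1 := Submodule.finrank_mono h
    rw [finrank_span_singleton ht₁0] at h1
    omega
  obtain ⟨t₂, ht₂, ht₂n⟩ := Set.not_subset.mp hnle
  have ht₂0 : t₂ ≠ 0 := by
    rintro rfl
    exact ht₂n (Submodule.zero_mem _)
  obtain ⟨a₂, b₂, h₂⟩ := key t₂ (hTmem t₂ ht₂).1 (hTmem t₂ ht₂).2 ht₂0
  by_cases hb₂ : b₂ = 0
  · exact ⟨a₂, by rw [h₂, hb₂, zero_smul, add_zero]⟩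
  exfalso
  have e1 : (a₁ - a₂) • u = b₂ • t₂ - b₁ • t₁ := by
    have : a₁ • u + b₁ • t₁ = a₂ • u + b₂ • t₂ := by rw [← h₁, ← h₂]
    rw [sub_smul]
    have e : a₁ • u - a₂ • u - (b₂ • t₂ - b₁ • t₁) = (a₁ • u + b₁ • t₁) - (a₂ • u + b₂ • t₂) := by
      abel
    rw [this, sub_self] at e
    exact sub_eq_zero.mp e
  have e2 : Q ((a₁ - a₂) • u) = 0 := by
    rw [e1]
    exact hE0 _ (E.sub_mem (E.smul_mem _ (hTmem t₂ ht₂).1) (E.smul_mem _ (hTmem t₁ ht₁).1))
  rw [QuadraticMap.map_smul] at e2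
  have e3 : a₁ - a₂ = 0 := by
    rcases mul_eq_zero.mp e2 with h | h
    · rcases mul_eq_zero.mp h with h | h <;> exact h
    · exact absurd h hu
  rw [e3, zero_smul] at e1
  have e4 : b₂ • t₂ = b₁ • t₁ := (sub_eq_zero.mp e1.symm)
  apply ht₂n
  exact Submodule.mem_span_singleton.mpr ⟨b₂⁻¹ * b₁, by
    rw [← smul_smul, ← e4, smul_smul, inv_mul_cancel₀ hb₂, one_smul]⟩

/-- A similarity commuting with `Ω` is a scalar matrix. -/
theorem scalar_of_sim_centralizes [Fintype F] (Q : QuadraticForm F (ι → F))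
    (hQ : (QuadraticMap.polarBilin Q).Nondegenerate)
    (E : Submodule F (ι → F)) (hE : 3 ≤ finrank F E) (hE0 : ∀ x ∈ E, Q x = 0)
    (G : Matrix ι ι F) (c : F) (hc0 : c ≠ 0) (hc : ∀ x, Q (G *ᵥ x) = c * Q x)
    (hg : ∀ h ∈ commutator ↥(Cfsg.isometryGroup F ⇑Q),
      G * ((h : GL ι F) : Matrix ι ι F) = ((h : GL ι F) : Matrix ι ι F) * G) :
    ∃ lam : F, lam ≠ 0 ∧ G = lam • (1 : Matrix ι ι F) := by
  have hdim : 6 ≤ finrank F (ι → F) := by
    have := two_mul_finrank_le_of_ts hQ hE0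
    omega
  have hcard : (2 : F) = 0 → (Fintype.card F ≠ 2 ∨ Fintype.card ι ≠ 4) := by
    intro _
    right
    rw [Module.finrank_fintype_fun_eq_card] at hdim
    omega
  obtain ⟨u₀, hu₀⟩ := exists_quad_ne_zero Q hQ (by omega)
  obtain ⟨lam, hlam⟩ := eigen_of_centralizes_mat Q hQ hcard E hE hE0 G hg u₀ hu₀
  have hcl : c = lam * lam := by
    have e := hc u₀
    rw [hlam, QuadraticMap.map_smul, smul_eq_mul] at e
    exact (mul_right_cancel₀ hu₀ e).symm
  have hlam0 : lam ≠ 0 := by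
    rintro rfl
    rw [mul_zero] at hcl
    exact hc0 hcl
  have hG' : ∀ x, Q ((lam⁻¹ • G) *ᵥ x) = Q x := by
    intro x
    rw [smul_mulVec, QuadraticMap.map_smul, hc, hcl, smul_eq_mul]
    field_simp
  have hcomm : ∀ h ∈ commutator ↥(Cfsg.isometryGroup F ⇑Q),
      mkIsom Q hQ (lam⁻¹ • G) hG' * h = h * mkIsom Q hQ (lam⁻¹ • G) hG' := by
    intro h hh
    apply isom_ext
    simp only [Subgroup.coe_mul, Units.val_mul, mkIsom_coe]
    rw [smul_mul_assoc, mul_smul_comm, hg h hh]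
  have hG : G = lam • (lam⁻¹ • G) := by
    rw [smul_smul, mul_inv_cancel₀ hlam0, one_smul]
  rcases centralizer_omega Q hQ E hE hE0 (mkIsom Q hQ (lam⁻¹ • G) hG') hcomm with h | h
  · rw [mkIsom_coe] at h
    exact ⟨lam, hlam0, by rw [hG, h]⟩
  · rw [mkIsom_coe] at h
    refine ⟨-lam, neg_ne_zero.mpr hlam0, ?_⟩
    rw [hG, h, smul_neg, neg_smul]

/-- Scalar similarities act trivially on `PΩ`. -/
theorem simAut_eq_one_of_scalar (Qf : (ι → F) → F)
    (g : ↥(Cfsg.Geo.quadSimilarityGroup (F := F) Qf)) (lam : F)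
    (hg : ((g : GL ι F) : Matrix ι ι F) = lam • (1 : Matrix ι ι F)) :
    simAut Qf g = 1 := by
  apply MulEquiv.ext
  intro q
  obtain ⟨s, rfl⟩ := QuotientGroup.mk_surjective q
  rw [simAut_mk, MulAut.one_apply]
  congr 1
  apply Subtype.ext
  apply isom_ext
  rw [simConj_coe]
  have hcomm : ((g : GL ι F) : Matrix ι ι F) *
      (((s : ↥(Cfsg.isometryGroup F Qf)) : GL ι F) : Matrix ι ι F) =
      (((s : ↥(Cfsg.isometryGroup F Qf)) : GL ι F) : Matrix ι ι F) *
        ((g : GL ι F) : Matrix ι ι F) := by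
    rw [hg, smul_mul_assoc, one_mul, mul_smul_comm, mul_one]
  have hinv : ((g : GL ι F) : Matrix ι ι F) * (((g : GL ι F)⁻¹ : GL ι F) : Matrix ι ι F) = 1 := by
    rw [← Units.val_mul, mul_inv_cancel, Units.val_one]
  rw [hcomm, mul_assoc, hinv, mul_one]

/-- The kernel of the action of the similarity group on `PΩ` consists of scalar matrices. -/
theorem scalar_of_simAut_eq_one [Fintype F] (Q : QuadraticForm F (ι → F))
    (hQ : (QuadraticMap.polarBilin Q).Nondegenerate)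
    (E : Submodule F (ι → F)) (hE : 3 ≤ finrank F E) (hE0 : ∀ x ∈ E, Q x = 0)
    (g : ↥(Cfsg.Geo.quadSimilarityGroup (F := F) ⇑Q)) (hg : simAut ⇑Q g = 1) :
    ∃ lam : F, lam ≠ 0 ∧ ((g : GL ι F) : Matrix ι ι F) = lam • (1 : Matrix ι ι F) := by
  have hn : 5 ≤ Fintype.card ι := by
    have h1 := two_mul_finrank_le_of_ts hQ hE0
    rw [Module.finrank_fintype_fun_eq_card] at h1
    omega
  have hperf := omega_perfect Q hQ hn
  have h1 : autCommutator ↥(Cfsg.isometryGroup F ⇑Q) (simConjHom ⇑Q g) = 1 :=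
    aut_eq_one_of_autQuotCenter hperf _ hg
  obtain ⟨c, hc⟩ := g.2
  apply scalar_of_sim_centralizes Q hQ E hE hE0 _ (c : F) c.ne_zero hc
  intro h hh
  have h2 := congrArg (fun β : MulAut ↥(Cfsg.Omega F ⇑Q) =>
    ((((β ⟨h, hh⟩ : ↥(Cfsg.Omega F ⇑Q)) : ↥(Cfsg.isometryGroup F ⇑Q)) : GL ι F) :
      Matrix ι ι F)) h1
  have h3 : ((g : GL ι F) : Matrix ι ι F) * ((h : GL ι F) : Matrix ι ι F) *
      (((g : GL ι F)⁻¹ : GL ι F) : Matrix ι ι F) = ((h : GL ι F) : Matrix ι ι F) := h2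
  have hinv : (((g : GL ι F)⁻¹ : GL ι F) : Matrix ι ι F) * ((g : GL ι F) : Matrix ι ι F) = 1 := by
    rw [← Units.val_mul, inv_mul_cancel, Units.val_one]
  calc ((g : GL ι F) : Matrix ι ι F) * ((h : GL ι F) : Matrix ι ι F)
      = ((g : GL ι F) : Matrix ι ι F) * ((h : GL ι F) : Matrix ι ι F) *
        ((((g : GL ι F)⁻¹ : GL ι F) : Matrix ι ι F) * ((g : GL ι F) : Matrix ι ι F)) := by
        rw [hinv, mul_one]
    _ = ((h : GL ι F) : Matrix ι ι F) * ((g : GL ι F) : Matrix ι ι F) := by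
        rw [← mul_assoc, h3]

end sim

section homs

/-- The homomorphism to `Z/2` attached to a predicate cutting out a subgroup of index at most
two. -/
noncomputable def boolHom {Γ : Type*} [Group Γ] (P : Γ → Prop)
    (h1 : ∀ a b, P a → (P (a * b) ↔ P b)) (h2 : ∀ a b, ¬ P a → (P (a * b) ↔ ¬ P b)) :
    Γ →* Multiplicative (ZMod 2) :=
  MonoidHom.mk' (fun a => by classical exact if P a then 1 else Multiplicative.ofAdd 1) (by
    intro a b
    by_cases ha : P a
    · by_cases hb : P b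
      · have hab : P (a * b) := (h1 a b ha).mpr hb
        simp only [ha, hb, hab, if_true, mul_one]
      · have hab : ¬ P (a * b) := fun h => hb ((h1 a b ha).mp h)
        simp only [ha, hb, hab, if_true, if_false, one_mul]
    · by_cases hb : P b
      · have hab : ¬ P (a * b) := fun h => (h2 a b ha).mp h hb
        simp only [ha, hb, hab, if_true, if_false, mul_one]
      · have hab : P (a * b) := (h2 a b ha).mpr hb
        simp only [ha, hb, hab, if_true, if_false]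
        rfl)

theorem boolHom_eq_one_iff {Γ : Type*} [Group Γ] (P : Γ → Prop)
    (h1 : ∀ a b, P a → (P (a * b) ↔ P b)) (h2 : ∀ a b, ¬ P a → (P (a * b) ↔ ¬ P b)) (a : Γ) :
    boolHom P h1 h2 a = 1 ↔ P a := by
  classical
  show (if P a then (1 : Multiplicative (ZMod 2)) else Multiplicative.ofAdd 1) = 1 ↔ P a
  by_cases ha : P a
  · simp only [ha, if_true]
  · simp only [ha, if_false, iff_false]
    decide

/-- Two homomorphisms to `Z/2` combined into one to `(Z/2)²`. -/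
noncomputable def pairHom {Γ : Type*} [Group Γ] (a b : Γ →* Multiplicative (ZMod 2)) :
    Γ →* Multiplicative (ZMod 2 × ZMod 2) where
  toFun g := Multiplicative.ofAdd (Multiplicative.toAdd (a g), Multiplicative.toAdd (b g))
  map_one' := by
    rw [map_one a, map_one b]
    rfl
  map_mul' g h := by
    rw [map_mul a, map_mul b]
    rfl

theorem pairHom_eq_one_iff {Γ : Type*} [Group Γ] (a b : Γ →* Multiplicative (ZMod 2)) (g : Γ) :
    pairHom a b g = 1 ↔ a g = 1 ∧ b g = 1 := by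
  constructor
  · intro h
    have h1 : (Multiplicative.toAdd (a g), Multiplicative.toAdd (b g)) = ((0, 0) : ZMod 2 × ZMod 2) :=
      h
    exact ⟨(Prod.mk.inj h1).1, (Prod.mk.inj h1).2⟩
  · rintro ⟨h1, h2⟩
    show Multiplicative.ofAdd (Multiplicative.toAdd (a g), Multiplicative.toAdd (b g)) = 1
    rw [h1, h2]
    rfl

theorem pairHom_surjective {Γ : Type*} [Group Γ] (a b : Γ →* Multiplicative (ZMod 2))
    (g₁ g₂ : Γ) (h1 : a g₁ = 1) (h1' : b g₁ ≠ 1) (h2 : a g₂ ≠ 1) :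
    Function.Surjective (pairHom a b) := by
  have key : ∀ x : Multiplicative (ZMod 2), x ≠ 1 → x = Multiplicative.ofAdd 1 := by decide
  have hb1 := key _ h1'
  have ha2 := key _ h2
  have hfin : ∀ (t : Multiplicative (ZMod 2)) (y : Multiplicative (ZMod 2 × ZMod 2)),
      y = 1 ∨ y = Multiplicative.ofAdd ((0 : ZMod 2), (1 : ZMod 2)) ∨
        y = Multiplicative.ofAdd ((1 : ZMod 2), Multiplicative.toAdd t) ∨
        y = Multiplicative.ofAdd ((1 : ZMod 2), Multiplicative.toAdd t + 1) := by decide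
  intro y
  rcases hfin (b g₂) y with h | h | h | h
  · exact ⟨1, by rw [map_one, h]⟩
  · refine ⟨g₁, ?_⟩
    show Multiplicative.ofAdd (Multiplicative.toAdd (a g₁), Multiplicative.toAdd (b g₁)) = y
    rw [h1, hb1, h]
    rfl
  · refine ⟨g₂, ?_⟩
    show Multiplicative.ofAdd (Multiplicative.toAdd (a g₂), Multiplicative.toAdd (b g₂)) = y
    rw [ha2, h]
    rfl
  · refine ⟨g₂ * g₁, ?_⟩
    show Multiplicative.ofAdd (Multiplicative.toAdd (a (g₂ * g₁)),
      Multiplicative.toAdd (b (g₂ * g₁))) = y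
    rw [map_mul a, map_mul b, h1, hb1, ha2, h]
    rfl

end homs

section mult

variable {ι : Type} [Fintype ι] [DecidableEq ι] {F : Type*} [Field F]

/-- The multiplier of a similarity. -/
noncomputable def simMult (Qf : (ι → F) → F)
    (g : ↥(Cfsg.Geo.quadSimilarityGroup (F := F) Qf)) : Fˣ := Classical.choose g.2

theorem simMult_spec (Qf : (ι → F) → F) (g : ↥(Cfsg.Geo.quadSimilarityGroup (F := F) Qf))
    (v : ι → F) :
    Qf (((g : GL ι F) : Matrix ι ι F) *ᵥ v) = (simMult Qf g : F) * Qf v :=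
  Classical.choose_spec g.2 v

theorem simMult_unique (Qf : (ι → F) → F) (hne : ∃ v, Qf v ≠ 0)
    (g : ↥(Cfsg.Geo.quadSimilarityGroup (F := F) Qf)) (c : F)
    (hc : ∀ v, Qf (((g : GL ι F) : Matrix ι ι F) *ᵥ v) = c * Qf v) :
    (simMult Qf g : F) = c := by
  obtain ⟨v, hv⟩ := hne
  have e := simMult_spec Qf g v
  rw [hc v] at e
  exact (mul_right_cancel₀ hv e).symm

theorem simMult_one (Qf : (ι → F) → F) (hne : ∃ v, Qf v ≠ 0) :
    simMult Qf 1 = 1 := by
  apply Units.ext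
  rw [Units.val_one]
  apply simMult_unique Qf hne
  intro v
  rw [Subgroup.coe_one, Units.val_one, one_mulVec, one_mul]

theorem simMult_mul (Qf : (ι → F) → F) (hne : ∃ v, Qf v ≠ 0)
    (g g' : ↥(Cfsg.Geo.quadSimilarityGroup (F := F) Qf)) :
    simMult Qf (g * g') = simMult Qf g * simMult Qf g' := by
  apply Units.ext
  rw [Units.val_mul]
  apply simMult_unique Qf hne
  intro v
  rw [Subgroup.coe_mul, Units.val_mul, ← mulVec_mulVec, simMult_spec Qf g, simMult_spec Qf g',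
    mul_assoc]

/-- The multiplier of a similarity and its determinant: `det² = μⁿ`. -/
theorem sim_det_sq (Q : QuadraticForm F (ι → F))
    (hQ : (QuadraticMap.polarBilin Q).Nondegenerate)
    (A : Matrix ι ι F) (c : F) (hA : ∀ x, Q (A *ᵥ x) = c * Q x) :
    A.det ^ 2 = c ^ Fintype.card ι := by
  have hpol : ∀ x y, QuadraticMap.polar ⇑Q (A *ᵥ x) (A *ᵥ y) = c * QuadraticMap.polar ⇑Q x y := by
    intro x y
    unfold QuadraticMap.polar
    rw [← mulVec_add, hA, hA, hA]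
    ring
  have hcomp : LinearMap.BilinForm.comp (QuadraticMap.polarBilin Q) (Matrix.toLin' A)
      (Matrix.toLin' A) = c • QuadraticMap.polarBilin Q := by
    refine LinearMap.ext fun x => LinearMap.ext fun y => ?_
    rw [LinearMap.BilinForm.comp_apply, Matrix.toLin'_apply, Matrix.toLin'_apply,
      LinearMap.smul_apply, LinearMap.smul_apply,
      QuadraticMap.polarBilin_apply_apply, QuadraticMap.polarBilin_apply_apply, smul_eq_mul]
    exact hpol x y
  have hM := LinearMap.BilinForm.toMatrix'_comp (QuadraticMap.polarBilin Q) (Matrix.toLin' A)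
    (Matrix.toLin' A)
  rw [hcomp, LinearMap.toMatrix'_toLin', map_smul] at hM
  have hdet := congrArg Matrix.det hM
  rw [det_mul, det_mul, det_transpose, det_smul] at hdet
  have hne : (LinearMap.BilinForm.toMatrix' (QuadraticMap.polarBilin Q)).det ≠ 0 :=
    Matrix.nondegenerate_iff_det_ne_zero.mp
      (LinearMap.BilinForm.nondegenerate_toMatrix'_iff.mpr hQ)
  have h3 : (A.det ^ 2 - c ^ Fintype.card ι) *
      (LinearMap.BilinForm.toMatrix' (QuadraticMap.polarBilin Q)).det = 0 := by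
    linear_combination -hdet
  rcases mul_eq_zero.mp h3 with h4 | h4
  · exact sub_eq_zero.mp h4
  · exact absurd h4 hne

end mult

section chars

variable {ι : Type} [Fintype ι] [DecidableEq ι] {F : Type*} [Field F] [Fintype F]

/-- The character of the similarity group recording whether the multiplier is a square. -/
noncomputable def sqChar (Qf : (ι → F) → F) (hne : ∃ v, Qf v ≠ 0) :
    ↥(Cfsg.Geo.quadSimilarityGroup (F := F) Qf) →* Multiplicative (ZMod 2) :=
  boolHom (fun g => IsSquare (simMult Qf g : F))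
    (by
      intro a b ha
      rw [simMult_mul Qf hne, Units.val_mul]
      constructor
      · intro hab
        by_contra hb
        exact not_isSquare_mul_of_isSquare ha (simMult Qf a).ne_zero hb hab
      · intro hb
        exact ha.mul hb)
    (by
      intro a b ha
      rw [simMult_mul Qf hne, Units.val_mul]
      constructor
      · intro hab hb
        have := not_isSquare_mul_of_isSquare hb (simMult Qf b).ne_zero ha
        rw [mul_comm] at this
        exact this hab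
      · intro hb
        exact isSquare_mul_of_not_isSquare ha hb)

theorem sqChar_eq_one_iff (Qf : (ι → F) → F) (hne : ∃ v, Qf v ≠ 0)
    (g : ↥(Cfsg.Geo.quadSimilarityGroup (F := F) Qf)) :
    sqChar Qf hne g = 1 ↔ IsSquare (simMult Qf g : F) :=
  boolHom_eq_one_iff _ _ _ g

omit [Fintype F] in
theorem sim_det_cases (Q : QuadraticForm F (ι → F))
    (hQ : (QuadraticMap.polarBilin Q).Nondegenerate) (k : ℕ) (hk : Fintype.card ι = 2 * k)
    (g : ↥(Cfsg.Geo.quadSimilarityGroup (F := F) ⇑Q)) :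
    ((g : GL ι F) : Matrix ι ι F).det = (simMult ⇑Q g : F) ^ k ∨
      ((g : GL ι F) : Matrix ι ι F).det = -(simMult ⇑Q g : F) ^ k := by
  have h := sim_det_sq Q hQ _ _ (simMult_spec ⇑Q g)
  rw [hk] at h
  have h' : (((g : GL ι F) : Matrix ι ι F).det - (simMult ⇑Q g : F) ^ k) *
      (((g : GL ι F) : Matrix ι ι F).det + (simMult ⇑Q g : F) ^ k) = 0 := by
    linear_combination h
  rcases mul_eq_zero.mp h' with h1 | h1
  · left
    exact sub_eq_zero.mp h1
  · right
    exact eq_neg_of_add_eq_zero_left h1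

/-- The character of the similarity group recording whether `det = μ^k` (dimension `2k`). -/
noncomputable def detChar (h2 : (2 : F) ≠ 0) (Q : QuadraticForm F (ι → F))
    (hQ : (QuadraticMap.polarBilin Q).Nondegenerate) (hne : ∃ v, Q v ≠ 0) (k : ℕ)
    (hk : Fintype.card ι = 2 * k) :
    ↥(Cfsg.Geo.quadSimilarityGroup (F := F) ⇑Q) →* Multiplicative (ZMod 2) :=
  boolHom (fun g => ((g : GL ι F) : Matrix ι ι F).det = (simMult ⇑Q g : F) ^ k)
    (by
      intro a b ha
      have ha0 : (simMult ⇑Q a : F) ^ k ≠ 0 := pow_ne_zero _ (simMult ⇑Q a).ne_zero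
      rw [simMult_mul ⇑Q hne, Units.val_mul, Subgroup.coe_mul, Units.val_mul, det_mul, mul_pow, ha]
      exact mul_right_inj' ha0)
    (by
      intro a b ha
      have ha0 : (simMult ⇑Q a : F) ^ k ≠ 0 := pow_ne_zero _ (simMult ⇑Q a).ne_zero
      have hb0 : (simMult ⇑Q b : F) ^ k ≠ 0 := pow_ne_zero _ (simMult ⇑Q b).ne_zero
      have ha' : ((a : GL ι F) : Matrix ι ι F).det = -(simMult ⇑Q a : F) ^ k := by
        rcases sim_det_cases Q hQ k hk a with h | h
        · exact absurd h ha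
        · exact h
      rw [simMult_mul ⇑Q hne, Units.val_mul, Subgroup.coe_mul, Units.val_mul, det_mul, mul_pow, ha']
      constructor
      · intro hab hb
        rw [hb] at hab
        have h3 : (2 : F) * ((simMult ⇑Q a : F) ^ k * (simMult ⇑Q b : F) ^ k) = 0 := by
          linear_combination -hab
        rcases mul_eq_zero.mp h3 with h | h
        · exact h2 h
        · exact mul_ne_zero ha0 hb0 h
      · intro hb
        have hb' : ((b : GL ι F) : Matrix ι ι F).det = -(simMult ⇑Q b : F) ^ k := by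
          rcases sim_det_cases Q hQ k hk b with h | h
          · exact absurd h hb
          · exact h
        rw [hb']
        ring)

omit [Fintype F] in
theorem detChar_eq_one_iff (h2 : (2 : F) ≠ 0) (Q : QuadraticForm F (ι → F))
    (hQ : (QuadraticMap.polarBilin Q).Nondegenerate) (hne : ∃ v, Q v ≠ 0) (k : ℕ)
    (hk : Fintype.card ι = 2 * k) (g : ↥(Cfsg.Geo.quadSimilarityGroup (F := F) ⇑Q)) :
    detChar h2 Q hQ hne k hk g = 1 ↔
      ((g : GL ι F) : Matrix ι ι F).det = (simMult ⇑Q g : F) ^ k :=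
  boolHom_eq_one_iff _ _ _ g

/-- The character `GO → (Z/2)²` with kernel `SO · F^×`. -/
noncomputable def simChar (h2 : (2 : F) ≠ 0) (Q : QuadraticForm F (ι → F))
    (hQ : (QuadraticMap.polarBilin Q).Nondegenerate) (hne : ∃ v, Q v ≠ 0) (k : ℕ)
    (hk : Fintype.card ι = 2 * k) :
    ↥(Cfsg.Geo.quadSimilarityGroup (F := F) ⇑Q) →* Multiplicative (ZMod 2 × ZMod 2) :=
  pairHom (sqChar ⇑Q hne) (detChar h2 Q hQ hne k hk)

theorem simChar_eq_one_iff (h2 : (2 : F) ≠ 0) (Q : QuadraticForm F (ι → F))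
    (hQ : (QuadraticMap.polarBilin Q).Nondegenerate) (hne : ∃ v, Q v ≠ 0) (k : ℕ)
    (hk : Fintype.card ι = 2 * k) (g : ↥(Cfsg.Geo.quadSimilarityGroup (F := F) ⇑Q)) :
    simChar h2 Q hQ hne k hk g = 1 ↔ (IsSquare (simMult ⇑Q g : F) ∧
      ((g : GL ι F) : Matrix ι ι F).det = (simMult ⇑Q g : F) ^ k) := by
  unfold simChar
  rw [pairHom_eq_one_iff, sqChar_eq_one_iff, detChar_eq_one_iff]

theorem simChar_eq_one_of_scalar (h2 : (2 : F) ≠ 0) (Q : QuadraticForm F (ι → F))
    (hQ : (QuadraticMap.polarBilin Q).Nondegenerate) (hne : ∃ v, Q v ≠ 0) (k : ℕ)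
    (hk : Fintype.card ι = 2 * k) (g : ↥(Cfsg.Geo.quadSimilarityGroup (F := F) ⇑Q)) (lam : F)
    (hg : ((g : GL ι F) : Matrix ι ι F) = lam • (1 : Matrix ι ι F)) :
    simChar h2 Q hQ hne k hk g = 1 := by
  have hmu : (simMult ⇑Q g : F) = lam * lam := by
    apply simMult_unique ⇑Q hne
    intro v
    rw [hg, smul_mulVec, one_mulVec, QuadraticMap.map_smul, smul_eq_mul]
  rw [simChar_eq_one_iff, hmu, hg]
  refine ⟨⟨lam, rfl⟩, ?_⟩
  rw [det_smul, det_one, mul_one, hk, pow_mul, pow_two]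

theorem simChar_eq_one_of_SO (h2 : (2 : F) ≠ 0) (Q : QuadraticForm F (ι → F))
    (hQ : (QuadraticMap.polarBilin Q).Nondegenerate) (hne : ∃ v, Q v ≠ 0) (k : ℕ)
    (hk : Fintype.card ι = 2 * k) (g : ↥(Cfsg.Geo.quadSimilarityGroup (F := F) ⇑Q))
    (hg : (g : GL ι F) ∈ Cfsg.specialIsometryGL F ⇑Q) :
    simChar h2 Q hQ hne k hk g = 1 := by
  have hg1 : (g : GL ι F) ∈ Cfsg.isometryGroup F ⇑Q := hg.1
  have hg2 : (g : GL ι F) ∈ Cfsg.Geo.specialLinear ι F := hg.2
  rw [mem_isometryGroup_iff] at hg1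
  have hmu : (simMult ⇑Q g : F) = 1 := by
    apply simMult_unique ⇑Q hne
    intro v
    rw [hg1 v, one_mul]
  have hdet : ((g : GL ι F) : Matrix ι ι F).det = 1 := by
    have h := congrArg Units.val (MonoidHom.mem_ker.mp hg2)
    rwa [Matrix.GeneralLinearGroup.val_det_apply, Units.val_one] at h
  rw [simChar_eq_one_iff, hmu, hdet, one_pow]
  exact ⟨⟨1, by rw [mul_one]⟩, rfl⟩

theorem exists_SO_of_simChar_eq_one (h2 : (2 : F) ≠ 0) (Q : QuadraticForm F (ι → F))
    (hQ : (QuadraticMap.polarBilin Q).Nondegenerate) (hne : ∃ v, Q v ≠ 0) (k : ℕ)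
    (hk : Fintype.card ι = 2 * k) (g : ↥(Cfsg.Geo.quadSimilarityGroup (F := F) ⇑Q))
    (hg : simChar h2 Q hQ hne k hk g = 1) :
    ∃ s : ↥(Cfsg.Geo.quadSimilarityGroup (F := F) ⇑Q),
      (s : GL ι F) ∈ Cfsg.specialIsometryGL F ⇑Q ∧ simAut ⇑Q s = simAut ⇑Q g := by
  rw [simChar_eq_one_iff] at hg
  obtain ⟨⟨lam, hlam⟩, hdet⟩ := hg
  have hlam0 : lam ≠ 0 := by
    rintro rfl
    rw [mul_zero] at hlam
    exact (simMult ⇑Q g).ne_zero hlam
  have hG' : ∀ x, Q ((lam⁻¹ • ((g : GL ι F) : Matrix ι ι F)) *ᵥ x) = Q x := by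
    intro x
    rw [smul_mulVec, QuadraticMap.map_smul, simMult_spec ⇑Q g, hlam, smul_eq_mul]
    field_simp
  obtain ⟨s₀, hs₀⟩ : ∃ s₀ : ↥(Cfsg.isometryGroup F ⇑Q),
      s₀ = mkIsom Q hQ (lam⁻¹ • ((g : GL ι F) : Matrix ι ι F)) hG' := ⟨_, rfl⟩
  have hs₀mat : ((s₀ : GL ι F) : Matrix ι ι F) = lam⁻¹ • ((g : GL ι F) : Matrix ι ι F) := by
    rw [hs₀, mkIsom_coe]
  refine ⟨⟨(s₀ : GL ι F), isometryGroup_le_sim _ s₀.2⟩, ⟨s₀.2, ?_⟩, ?_⟩
  · show (s₀ : GL ι F) ∈ (Matrix.GeneralLinearGroup.det : GL ι F →* Fˣ).ker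
    rw [MonoidHom.mem_ker]
    apply Units.ext
    rw [Matrix.GeneralLinearGroup.val_det_apply, Units.val_one, hs₀mat, det_smul, hdet, hlam, hk,
      pow_mul, ← mul_pow, pow_two]
    have : lam⁻¹ * lam⁻¹ * (lam * lam) = 1 := by field_simp
    rw [this, one_pow]
  · obtain ⟨s, hs⟩ : ∃ s : ↥(Cfsg.Geo.quadSimilarityGroup (F := F) ⇑Q),
        s = ⟨(s₀ : GL ι F), isometryGroup_le_sim _ s₀.2⟩ := ⟨_, rfl⟩
    rw [← hs]
    have h1 : simAut ⇑Q (g * s⁻¹) = 1 := by
      apply simAut_eq_one_of_scalar ⇑Q _ lam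
      have hsmat : ((s : GL ι F) : Matrix ι ι F) = lam⁻¹ • ((g : GL ι F) : Matrix ι ι F) := by
        rw [hs]
        exact hs₀mat
      have hgm : ((g : GL ι F) : Matrix ι ι F) = lam • ((s : GL ι F) : Matrix ι ι F) := by
        rw [hsmat, smul_smul, mul_inv_cancel₀ hlam0, one_smul]
      rw [Subgroup.coe_mul, Subgroup.coe_inv, Units.val_mul, hgm, smul_mul_assoc,
        ← Units.val_mul, mul_inv_cancel, Units.val_one]
    have h2' : simAut ⇑Q g = simAut ⇑Q (g * s⁻¹) * simAut ⇑Q s := by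
      rw [← map_mul, inv_mul_cancel_right]
    rw [h2', h1, one_mul]

/-- The kernel of the character `simChar` is the preimage of the image of `SO` in `Aut(PΩ)`. -/
theorem simChar_eq_one_iff_mem_psoAut (h2 : (2 : F) ≠ 0) (Q : QuadraticForm F (ι → F))
    (hQ : (QuadraticMap.polarBilin Q).Nondegenerate) (hne : ∃ v, Q v ≠ 0)
    (E : Submodule F (ι → F)) (hE : 3 ≤ finrank F E) (hE0 : ∀ x ∈ E, Q x = 0) (k : ℕ)
    (hk : Fintype.card ι = 2 * k) (g : ↥(Cfsg.Geo.quadSimilarityGroup (F := F) ⇑Q)) :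
    simChar h2 Q hQ hne k hk g = 1 ↔ simAut ⇑Q g ∈ Cfsg.psoAut F ⇑Q := by
  rw [psoAut_eq_map_sim]
  constructor
  · intro hg
    obtain ⟨s, hs, hsg⟩ := exists_SO_of_simChar_eq_one h2 Q hQ hne k hk g hg
    exact ⟨s, Subgroup.mem_subgroupOf.mpr hs, hsg⟩
  · rintro ⟨s, hs, hsg⟩
    have hs' : (s : GL ι F) ∈ Cfsg.specialIsometryGL F ⇑Q := Subgroup.mem_subgroupOf.mp hs
    have h1 : simAut ⇑Q (g * s⁻¹) = 1 := by
      rw [map_mul, map_inv, hsg, mul_inv_cancel]
    obtain ⟨lam, -, hlam⟩ := scalar_of_simAut_eq_one Q hQ E hE hE0 _ h1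
    have h3 := simChar_eq_one_of_scalar h2 Q hQ hne k hk _ lam hlam
    rw [map_mul, map_inv, simChar_eq_one_of_SO h2 Q hQ hne k hk s hs', inv_one, mul_one] at h3
    exact h3

theorem simChar_surjective (h2 : (2 : F) ≠ 0) (Q : QuadraticForm F (ι → F))
    (hQ : (QuadraticMap.polarBilin Q).Nondegenerate) (hne : ∃ v, Q v ≠ 0) (k : ℕ)
    (hk : Fintype.card ι = 2 * k)
    (hsim : ∃ g : GL ι F, ∃ c : F, ¬ IsSquare c ∧
      ∀ v, Q ((g : Matrix ι ι F) *ᵥ v) = c * Q v) :
    Function.Surjective (simChar h2 Q hQ hne k hk) := by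
  obtain ⟨u₀, hu₀⟩ := hne
  obtain ⟨g, c, hc, hgc⟩ := hsim
  have hc0 : c ≠ 0 := fun h => hc ⟨0, by simp [h]⟩
  obtain ⟨g₁, hg₁⟩ : ∃ g₁ : ↥(Cfsg.Geo.quadSimilarityGroup (F := F) ⇑Q),
      g₁ = ⟨(reflElt Q hQ u₀ hu₀ : GL ι F), isometryGroup_le_sim _ (reflElt Q hQ u₀ hu₀).2⟩ :=
    ⟨_, rfl⟩
  obtain ⟨g₂, hg₂⟩ : ∃ g₂ : ↥(Cfsg.Geo.quadSimilarityGroup (F := F) ⇑Q),
      g₂ = ⟨g, ⟨Units.mk0 c hc0, hgc⟩⟩ := ⟨_, rfl⟩
  have hmu1 : (simMult ⇑Q g₁ : F) = 1 := by
    apply simMult_unique ⇑Q ⟨u₀, hu₀⟩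
    intro v
    rw [hg₁, one_mul]
    exact isom_preserves (reflElt Q hQ u₀ hu₀) v
  have hdet1 : ((g₁ : GL ι F) : Matrix ι ι F).det = -1 := by
    rw [hg₁]
    exact det_reflectionMatrix Q hu₀
  have hmu2 : (simMult ⇑Q g₂ : F) = c := by
    apply simMult_unique ⇑Q ⟨u₀, hu₀⟩
    intro v
    rw [hg₂]
    exact hgc v
  apply pairHom_surjective _ _ g₁ g₂
  · rw [sqChar_eq_one_iff, hmu1]
    exact ⟨1, by rw [mul_one]⟩
  · rw [Ne, detChar_eq_one_iff, hmu1, hdet1, one_pow]
    intro h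
    apply h2
    linear_combination -h
  · rw [Ne, sqChar_eq_one_iff, hmu2]
    exact hc

/-- `pgoAut / psoAut` is elementary abelian of order four (even dimension, odd characteristic),
given a similarity with non-square multiplier. -/
theorem exists_hom_pgoAut_psoAut (h2 : (2 : F) ≠ 0) (Q : QuadraticForm F (ι → F))
    (hQ : (QuadraticMap.polarBilin Q).Nondegenerate)
    (E : Submodule F (ι → F)) (hE : 3 ≤ finrank F E) (hE0 : ∀ x ∈ E, Q x = 0) (k : ℕ)
    (hk : Fintype.card ι = 2 * k)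
    (hsim : ∃ g : GL ι F, ∃ c : F, ¬ IsSquare c ∧
      ∀ v, Q ((g : Matrix ι ι F) *ᵥ v) = c * Q v) :
    ∃ φ : ↥(Cfsg.pgoAut F ⇑Q) →* Multiplicative (ZMod 2 × ZMod 2), Function.Surjective φ ∧
      φ.ker = (Cfsg.psoAut F ⇑Q).subgroupOf (Cfsg.pgoAut F ⇑Q) := by
  have hdim : 6 ≤ finrank F (ι → F) := by
    have := two_mul_finrank_le_of_ts hQ hE0
    omega
  have hne : ∃ v, Q v ≠ 0 := exists_quad_ne_zero Q hQ (by omega)
  obtain ⟨χ, hχ⟩ : ∃ χ : ↥(Cfsg.Geo.quadSimilarityGroup (F := F) ⇑Q) →*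
      Multiplicative (ZMod 2 × ZMod 2), χ = simChar h2 Q hQ hne k hk := ⟨_, rfl⟩
  have hχsurj : Function.Surjective χ := by
    rw [hχ]
    exact simChar_surjective h2 Q hQ hne k hk hsim
  have hχiff : ∀ g, χ g = 1 ↔ simAut ⇑Q g ∈ Cfsg.psoAut F ⇑Q := by
    intro g
    rw [hχ]
    exact simChar_eq_one_iff_mem_psoAut h2 Q hQ hne E hE hE0 k hk g
  have hmem : ∀ g, simAut ⇑Q g ∈ Cfsg.pgoAut F ⇑Q := by
    intro g
    rw [pgoAut_eq_range]
    exact ⟨g, rfl⟩
  obtain ⟨Ψ, hΨ⟩ : ∃ Ψ : ↥(Cfsg.Geo.quadSimilarityGroup (F := F) ⇑Q) →* ↥(Cfsg.pgoAut F ⇑Q),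
      Ψ = (simAut ⇑Q).codRestrict (Cfsg.pgoAut F ⇑Q) hmem := ⟨_, rfl⟩
  have hΨcoe : ∀ g, ((Ψ g : ↥(Cfsg.pgoAut F ⇑Q)) : MulAut (Cfsg.POmega F ⇑Q)) = simAut ⇑Q g := by
    intro g
    rw [hΨ]
    rfl
  have hΨsurj : Function.Surjective Ψ := by
    rintro ⟨β, hβ⟩
    have hβ' := hβ
    rw [pgoAut_eq_range] at hβ'
    obtain ⟨g, rfl⟩ := hβ'
    exact ⟨g, Subtype.ext (hΨcoe g)⟩
  have hker : Ψ.ker ≤ χ.ker := by
    intro g hg
    rw [MonoidHom.mem_ker] at hg ⊢
    rw [hχiff]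
    have h1 : simAut ⇑Q g = 1 := by
      rw [← hΨcoe g, hg]
      rfl
    rw [h1]
    exact Subgroup.one_mem _
  obtain ⟨φ, hφ⟩ : ∃ φ : ↥(Cfsg.pgoAut F ⇑Q) →* Multiplicative (ZMod 2 × ZMod 2),
      ∀ g, φ (Ψ g) = χ g :=
    ⟨Ψ.liftOfSurjective hΨsurj ⟨χ, hker⟩,
      fun g => MonoidHom.liftOfRightInverse_comp_apply Ψ _ _ ⟨χ, hker⟩ g⟩
  refine ⟨φ, ?_, ?_⟩
  · intro y
    obtain ⟨g, hg⟩ := hχsurj y
    exact ⟨Ψ g, by rw [hφ, hg]⟩
  · ext β
    obtain ⟨g, rfl⟩ := hΨsurj β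
    rw [MonoidHom.mem_ker, hφ, hχiff, Subgroup.mem_subgroupOf, hΨcoe]

omit [Fintype F] in
/-- A linear similarity with non-zero multiplier gives an element of `GL`. -/
theorem exists_gl_of_sim_lin (Q : QuadraticForm F (ι → F))
    (hQ : (QuadraticMap.polarBilin Q).Nondegenerate)
    (f : (ι → F) →ₗ[F] (ι → F)) (c : F) (hc0 : c ≠ 0) (hf : ∀ v, Q (f v) = c * Q v) :
    ∃ g : GL ι F, ∀ v, Q ((g : Matrix ι ι F) *ᵥ v) = c * Q v := by
  have hA : ∀ v, Q ((LinearMap.toMatrix' f) *ᵥ v) = c * Q v := by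
    intro v
    rw [← Matrix.toLin'_apply, Matrix.toLin'_toMatrix']
    exact hf v
  have hdet : (LinearMap.toMatrix' f).det ≠ 0 := by
    intro h0
    have h := sim_det_sq Q hQ _ c hA
    rw [h0] at h
    exact pow_ne_zero _ hc0 (by rw [← h]; ring)
  have hu : IsUnit (LinearMap.toMatrix' f) :=
    (Matrix.isUnit_iff_isUnit_det _).mpr (IsUnit.mk0 _ hdet)
  exact ⟨hu.unit, fun v => by rw [IsUnit.unit_spec]; exact hA v⟩

/-- `pgoAut / psoAut` is elementary abelian of order four, given a linear similarity with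
non-square multiplier. -/
theorem exists_hom_pgoAut_psoAut_lin (h2 : (2 : F) ≠ 0) (Q : QuadraticForm F (ι → F))
    (hQ : (QuadraticMap.polarBilin Q).Nondegenerate)
    (E : Submodule F (ι → F)) (hE : 3 ≤ finrank F E) (hE0 : ∀ x ∈ E, Q x = 0) (k : ℕ)
    (hk : Fintype.card ι = 2 * k)
    (f : (ι → F) →ₗ[F] (ι → F)) (c : F) (hc : ¬ IsSquare c) (hf : ∀ v, Q (f v) = c * Q v) :
    ∃ φ : ↥(Cfsg.pgoAut F ⇑Q) →* Multiplicative (ZMod 2 × ZMod 2), Function.Surjective φ ∧
      φ.ker = (Cfsg.psoAut F ⇑Q).subgroupOf (Cfsg.pgoAut F ⇑Q) := by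
  have hc0 : c ≠ 0 := fun h => hc ⟨0, by simp [h]⟩
  obtain ⟨g, hg⟩ := exists_gl_of_sim_lin Q hQ f c hc0 hf
  exact exists_hom_pgoAut_psoAut h2 Q hQ E hE hE0 k hk ⟨g, c, hc, hg⟩

/-- Version of `exists_hom_pgoAut_psoAut_lin` for a form given as a function. -/
theorem exists_hom_pgoAut_psoAut_fun (h2 : (2 : F) ≠ 0) (Q : QuadraticForm F (ι → F))
    (hQ : (QuadraticMap.polarBilin Q).Nondegenerate) (Qf : (ι → F) → F) (hQf : ⇑Q = Qf)
    (E : Submodule F (ι → F)) (hE : 3 ≤ finrank F E) (hE0 : ∀ x ∈ E, Q x = 0) (k : ℕ)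
    (hk : Fintype.card ι = 2 * k)
    (f : (ι → F) →ₗ[F] (ι → F)) (c : F) (hc : ¬ IsSquare c) (hf : ∀ v, Qf (f v) = c * Qf v) :
    ∃ φ : ↥(Cfsg.pgoAut F Qf) →* Multiplicative (ZMod 2 × ZMod 2), Function.Surjective φ ∧
      φ.ker = (Cfsg.psoAut F Qf).subgroupOf (Cfsg.pgoAut F Qf) := by
  subst hQf
  exact exists_hom_pgoAut_psoAut_lin h2 Q hQ E hE hE0 k hk f c hc hf

end chars

end Cfsg.Agent.Lib.Helper44
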