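import Mathlib
import Cfsg.Prelude.Def_Classical

set_option autoImplicit false

namespace Cfsg.Agent.Lib.Helper44

/-- In a field, multiplying by a nonzero square does not change squareness. -/
theorem isSquare_mul_mul_iff {F : Type*} [Field F] {d x : F} (hd : d ≠ 0) :
    IsSquare (d * x * d) ↔ IsSquare x := by
  constructor
  · rintro ⟨y, hy⟩
    refine ⟨y / d, ?_⟩
    field_simp
    rw [sq y, ← hy]; ring
  · rintro ⟨y, rfl⟩
    exact ⟨d * y, by ring⟩

/-- Squareness of the Gram determinant of a bilinear form does not depend on the basis. -/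
theorem isSquare_gram_det_iff {F : Type*} [Field F] {κ : Type*} [Fintype κ] [DecidableEq κ]
    {ι : Type*} [Fintype ι] [DecidableEq ι]
    (B : LinearMap.BilinForm F (κ → F)) (b : Module.Basis ι F (κ → F)) :
    IsSquare (Matrix.of (fun i j : ι => B (b i) (b j))).det ↔
      IsSquare (LinearMap.BilinForm.toMatrix' B).det := by
  classical
  let e : ι ≃ κ := b.indexEquiv (Pi.basisFun F κ)
  let b' : Module.Basis κ F (κ → F) := b.reindex e
  have h1 : (Matrix.of (fun i j : ι => B (b i) (b j))).det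
      = (LinearMap.BilinForm.toMatrix b' B).det := by
    have : Matrix.of (fun i j : ι => B (b i) (b j))
        = (LinearMap.BilinForm.toMatrix b' B).submatrix e e := by
      ext i j
      simp [LinearMap.BilinForm.toMatrix_apply, b']
    rw [this, Matrix.det_submatrix_equiv_self]
  have h2 := LinearMap.BilinForm.toMatrix_mul_basis_toMatrix (b := Pi.basisFun F κ) b' B
  rw [LinearMap.BilinForm.toMatrix_basisFun] at h2
  have h3 : ((Pi.basisFun F κ).toMatrix b').det ≠ 0 := by
    have h4 := Module.Basis.toMatrix_mul_toMatrix_flip (Pi.basisFun F κ) b'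
    intro h0
    have h5 := congrArg Matrix.det h4
    rw [Matrix.det_mul, h0, zero_mul, Matrix.det_one] at h5
    exact zero_ne_one h5
  rw [h1, ← h2, Matrix.det_mul, Matrix.det_mul, Matrix.det_transpose]
  exact isSquare_mul_mul_iff h3

/-- The block matrix `[[0, 1], [1, 0]]`. -/
def swapBlocks (m : ℕ) (F : Type*) [Field F] : Matrix (Fin m ⊕ Fin m) (Fin m ⊕ Fin m) F :=
  Matrix.fromBlocks (0 : Matrix (Fin m) (Fin m) F) (1 : Matrix (Fin m) (Fin m) F)
    (1 : Matrix (Fin m) (Fin m) F) (0 : Matrix (Fin m) (Fin m) F)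

/-- The polar form of `quadFormPlus` as a bilinear form. -/
noncomputable def plusPolar (m : ℕ) (F : Type*) [Field F] :
    LinearMap.BilinForm F (Fin m ⊕ Fin m → F) :=
  Matrix.toBilin' (swapBlocks m F)

theorem polar_quadFormPlus (m : ℕ) (F : Type*) [Field F] (u v : Fin m ⊕ Fin m → F) :
    QuadraticMap.polar (Cfsg.quadFormPlus m F) u v = plusPolar m F u v := by
  simp only [QuadraticMap.polar, Cfsg.quadFormPlus, plusPolar, swapBlocks, Matrix.toBilin'_apply,
    Fintype.sum_sum_type, Matrix.fromBlocks_apply₁₁, Matrix.fromBlocks_apply₁₂,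
    Matrix.fromBlocks_apply₂₁, Matrix.fromBlocks_apply₂₂, Matrix.zero_apply, Matrix.one_apply,
    Pi.add_apply, mul_zero, zero_mul, Finset.sum_const_zero, zero_add, add_zero, mul_ite, mul_one,
    ite_mul, Finset.sum_ite_eq, Finset.mem_univ, if_true]
  rw [← Finset.sum_sub_distrib, ← Finset.sum_sub_distrib, ← Finset.sum_add_distrib]
  refine Finset.sum_congr rfl (fun i _ => ?_)
  ring

theorem det_swapBlocks (m : ℕ) (F : Type*) [Field F] (h2 : (2 : F) ≠ 0) :
    (swapBlocks m F).det = (-1) ^ m := by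
  have hT : swapBlocks m F
      * Matrix.fromBlocks (1 : Matrix (Fin m) (Fin m) F) (1 : Matrix (Fin m) (Fin m) F)
          (1 : Matrix (Fin m) (Fin m) F) (-1 : Matrix (Fin m) (Fin m) F)
      = Matrix.fromBlocks (1 : Matrix (Fin m) (Fin m) F) (1 : Matrix (Fin m) (Fin m) F)
          (1 : Matrix (Fin m) (Fin m) F) (-1 : Matrix (Fin m) (Fin m) F)
        * Matrix.fromBlocks (1 : Matrix (Fin m) (Fin m) F) (0 : Matrix (Fin m) (Fin m) F)
          (0 : Matrix (Fin m) (Fin m) F) (-1 : Matrix (Fin m) (Fin m) F) := by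
    simp [swapBlocks, Matrix.fromBlocks_multiply]
  have hdT : (Matrix.fromBlocks (1 : Matrix (Fin m) (Fin m) F) (1 : Matrix (Fin m) (Fin m) F)
          (1 : Matrix (Fin m) (Fin m) F) (-1 : Matrix (Fin m) (Fin m) F)).det = (-2) ^ m := by
    rw [Matrix.det_fromBlocks_one₁₁]
    have : (-1 : Matrix (Fin m) (Fin m) F) - 1 * 1 = (-2 : F) • (1 : Matrix (Fin m) (Fin m) F) := by
      rw [mul_one, neg_smul, two_smul]; abel
    rw [this, Matrix.det_smul, Matrix.det_one, Fintype.card_fin, mul_one]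
  have hdD : (Matrix.fromBlocks (1 : Matrix (Fin m) (Fin m) F) (0 : Matrix (Fin m) (Fin m) F)
          (0 : Matrix (Fin m) (Fin m) F) (-1 : Matrix (Fin m) (Fin m) F)).det = (-1) ^ m := by
    rw [Matrix.det_fromBlocks_zero₂₁, Matrix.det_one, one_mul, Matrix.det_neg, Matrix.det_one,
      Fintype.card_fin, mul_one]
  have h := congrArg Matrix.det hT
  rw [Matrix.det_mul, Matrix.det_mul, hdT, hdD] at h
  have hne : ((-2 : F)) ^ m ≠ 0 := pow_ne_zero _ (neg_ne_zero.mpr h2)
  exact mul_right_cancel₀ hne (h.trans (mul_comm _ _))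

theorem toMatrix'_plusPolar (m : ℕ) (F : Type*) [Field F] :
    LinearMap.BilinForm.toMatrix' (plusPolar m F) = swapBlocks m F := by
  simp [plusPolar]

/-- Gram matrix of the polar form of `quadFormMinus`. -/
def minusGram (k : ℕ) (F : Type*) [Field F] (a c : F) :
    Matrix ((Fin k ⊕ Fin k) ⊕ Fin 2) ((Fin k ⊕ Fin k) ⊕ Fin 2) F :=
  Matrix.fromBlocks (swapBlocks k F) (0 : Matrix (Fin k ⊕ Fin k) (Fin 2) F)
    (0 : Matrix (Fin 2) (Fin k ⊕ Fin k) F) !![2, a; a, 2 * c]

/-- The polar form of `quadFormMinus` as a bilinear form. -/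
noncomputable def minusPolar (k : ℕ) (F : Type*) [Field F] (a c : F) :
    LinearMap.BilinForm F ((Fin k ⊕ Fin k) ⊕ Fin 2 → F) :=
  Matrix.toBilin' (minusGram k F a c)

theorem polar_quadFormMinus (k : ℕ) (F : Type*) [Field F] (a c : F)
    (u v : (Fin k ⊕ Fin k) ⊕ Fin 2 → F) :
    QuadraticMap.polar (Cfsg.quadFormMinus k F a c) u v = minusPolar k F a c u v := by
  simp only [QuadraticMap.polar, Cfsg.quadFormMinus, minusPolar, minusGram, swapBlocks,
    Matrix.toBilin'_apply,
    Fintype.sum_sum_type, Matrix.fromBlocks_apply₁₁, Matrix.fromBlocks_apply₁₂,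
    Matrix.fromBlocks_apply₂₁, Matrix.fromBlocks_apply₂₂, Matrix.zero_apply, Matrix.one_apply,
    Pi.add_apply, mul_zero, zero_mul, Finset.sum_const_zero, zero_add, add_zero, mul_ite, mul_one,
    ite_mul, Finset.sum_ite_eq, Finset.mem_univ, if_true, Fin.sum_univ_two, Matrix.of_apply,
    Matrix.cons_val', Matrix.cons_val_zero, Matrix.cons_val_one, Matrix.cons_val_fin_one]
  have h : ∑ x, (u (Sum.inl (Sum.inl x)) + v (Sum.inl (Sum.inl x)))
        * (u (Sum.inl (Sum.inr x)) + v (Sum.inl (Sum.inr x)))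
      = ∑ i, u (Sum.inl (Sum.inl i)) * u (Sum.inl (Sum.inr i))
        + ∑ i, v (Sum.inl (Sum.inl i)) * v (Sum.inl (Sum.inr i))
        + ∑ x, u (Sum.inl (Sum.inl x)) * v (Sum.inl (Sum.inr x))
        + ∑ x, u (Sum.inl (Sum.inr x)) * v (Sum.inl (Sum.inl x)) := by
    rw [← Finset.sum_add_distrib, ← Finset.sum_add_distrib, ← Finset.sum_add_distrib]
    refine Finset.sum_congr rfl (fun i _ => ?_)
    ring
  rw [h]
  ring

theorem det_minusGram (k : ℕ) (F : Type*) [Field F] (h2 : (2 : F) ≠ 0) (a c : F) :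
    (minusGram k F a c).det = (-1) ^ k * (4 * c - a ^ 2) := by
  rw [minusGram, Matrix.det_fromBlocks_zero₂₁, det_swapBlocks k F h2, Matrix.det_fin_two_of]
  ring

theorem toMatrix'_minusPolar (k : ℕ) (F : Type*) [Field F] (a c : F) :
    LinearMap.BilinForm.toMatrix' (minusPolar k F a c) = minusGram k F a c := by
  simp [minusPolar]

theorem isSquare_neg_one_pow_iff {F : Type*} [Field F] [Fintype F] {q : ℕ}
    (hF : Fintype.card F = q) (hq : Odd q) (m : ℕ) :
    IsSquare ((-1 : F) ^ m) ↔ Even (m * (q - 1) / 2) := by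
  obtain ⟨k, rfl⟩ := hq
  have h1 : m * (2 * k + 1 - 1) / 2 = m * k := by
    rw [Nat.add_sub_cancel, ← mul_assoc, mul_comm m 2, mul_assoc,
      Nat.mul_div_cancel_left _ (by norm_num)]
  rw [h1, Nat.even_mul]
  rcases Nat.even_or_odd m with hm | hm
  · simp [hm.neg_one_pow, hm]
  · rw [hm.neg_one_pow, FiniteField.isSquare_neg_one_iff, hF]
    have : ¬ Even m := Nat.not_even_iff_odd.mpr hm
    simp only [this, false_or]
    constructor
    · intro h
      by_contra hk
      rw [Nat.not_even_iff_odd] at hk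
      obtain ⟨j, rfl⟩ := hk
      omega
    · rintro ⟨j, rfl⟩
      omega

theorem two_ne_zero_of_odd_card {F : Type*} [Field F] [Fintype F] (hq : Odd (Fintype.card F)) :
    (2 : F) ≠ 0 := by
  apply Ring.two_ne_zero
  intro h
  rw [FiniteField.even_card_iff_char_two] at h
  rw [Nat.odd_iff] at hq
  omega


/-- In a finite field of odd characteristic, multiplying by a nonsquare flips squareness. -/
theorem isSquare_mul_nonsquare_iff {F : Type*} [Field F] [Fintype F]
    {x d : F} (hx : x ≠ 0) (hd : ¬ IsSquare d) : IsSquare (x * d) ↔ ¬ IsSquare x := by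
  classical
  have hd0 : d ≠ 0 := by
    rintro rfl
    exact hd ⟨0, by simp⟩
  rw [← quadraticChar_one_iff_isSquare (mul_ne_zero hx hd0), map_mul,
    quadraticChar_neg_one_iff_not_isSquare.mpr hd, ← quadraticChar_neg_one_iff_not_isSquare]
  constructor
  · intro h
    have : quadraticChar F x = -(quadraticChar F x * -1) := by ring
    rw [this, h]
  · intro h
    rw [h]; norm_num

/-- An anisotropic binary form `z₁² + a z₁ z₂ + c z₂²` has nonsquare discriminant. -/
theorem not_isSquare_disc_of_anisotropic {F : Type*} [Field F] (h2 : (2 : F) ≠ 0) (a c : F)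
    (hac : ∀ z₁ z₂ : F, z₁ ^ 2 + a * z₁ * z₂ + c * z₂ ^ 2 = 0 → z₁ = 0 ∧ z₂ = 0) :
    ¬ IsSquare (a ^ 2 - 4 * c) := by
  rintro ⟨d, hd⟩
  have h := hac (d - a) 2 (by
    have : (d - a) ^ 2 + a * (d - a) * 2 + c * 2 ^ 2 = d * d - (a ^ 2 - 4 * c) := by ring
    rw [this, hd]; ring)
  exact h2 h.2

end Cfsg.Agent.Lib.Helper44
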