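import Mathlib
import Cfsg.Prelude.Def_LieTypeDatum
import Cfsg.Agent.Lib.Helper14.MaxTS6

/-!
Similarities of a quadratic form of maximal Witt index (dimension `2k`, a totally singular
subspace of dimension `k`) and the two classes of maximal totally singular subspaces, over an
arbitrary field of characteristic not two: a similarity `g` with multiplier `c` preserves the
classes iff `det g = c^k`.
-/

set_option autoImplicit false

namespace Cfsg.Agent.Lib.Helper44

open Matrix Module
open Cfsg.Agent.Lib.Helper14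

section gen

variable {ι : Type} [Fintype ι] [DecidableEq ι] {K : Type*} [Field K]

/-- A similarity (multiplier `c`) stabilising a totally singular subspace of half the dimension
has determinant `c^k`. -/
theorem det_of_stab_mts_gen (Q : QuadraticForm K (ι → K))
    (hQ : (QuadraticMap.polarBilin Q).Nondegenerate) (k : ℕ)
    (hdim : finrank K (ι → K) = 2 * k) (U : Submodule K (ι → K)) (hU : IsMTS Q k U)
    (M : Matrix ι ι K) (c : K) (hM : ∀ x, Q (M *ᵥ x) = c * Q x)
    (hstab : ∀ x ∈ U, M *ᵥ x ∈ U) : M.det = c ^ k := by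
  obtain ⟨e, he⟩ : ∃ e : (ι → K) →ₗ[K] (ι → K), e = Matrix.toLin' M := ⟨_, rfl⟩
  have heapp : ∀ x, e x = M *ᵥ x := by
    intro x
    rw [he, Matrix.toLin'_apply]
  have hcomap : U ≤ U.comap e := by
    intro x hx
    rw [Submodule.mem_comap, heapp]
    exact hstab x hx
  have hdet := LinearMap.det_eq_det_mul_det U e hcomap
  have hpol : ∀ x y, QuadraticMap.polar ⇑Q (e x) (e y) = c * QuadraticMap.polar ⇑Q x y := by
    intro x y
    unfold QuadraticMap.polar
    rw [← map_add, heapp, heapp, heapp, hM, hM, hM]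
    ring
  obtain ⟨ψ, hψ⟩ : ∃ ψ : (ι → K) →ₗ[K] Module.Dual K U,
      ψ = (QuadraticMap.polarBilin Q).compl₂ U.subtype := ⟨_, rfl⟩
  have hψapp : ∀ (x : ι → K) (u : U), ψ x u = QuadraticMap.polar ⇑Q x (u : ι → K) := by
    intro x u
    rw [hψ]
    rfl
  have hψker : U ≤ LinearMap.ker ψ := by
    intro u hu
    rw [LinearMap.mem_ker]
    apply LinearMap.ext
    intro u'
    rw [hψapp, LinearMap.zero_apply]
    exact hU.polar_eq_zero hu u'.2
  obtain ⟨φ, hφ⟩ : ∃ φ : ((ι → K) ⧸ U) →ₗ[K] Module.Dual K U, φ = U.liftQ ψ hψker := ⟨_, rfl⟩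
  have hφmk : ∀ x : ι → K, φ (Submodule.Quotient.mk x) = ψ x := by
    intro x
    rw [hφ]
    rfl
  have hφinj : Function.Injective φ := by
    rw [← LinearMap.ker_eq_bot, Submodule.eq_bot_iff]
    intro y hy
    obtain ⟨x, rfl⟩ := Submodule.Quotient.mk_surjective U y
    rw [LinearMap.mem_ker, hφmk] at hy
    rw [Submodule.Quotient.mk_eq_zero]
    apply hU.mem_of_ortho hQ hdim
    intro u hu
    have h1 := congrArg (fun f : Module.Dual K U => f ⟨u, hu⟩) hy
    simp only [LinearMap.zero_apply] at h1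
    rw [hψapp] at h1
    rw [QuadraticMap.polar_comm]
    exact h1
  have hfinQ : finrank K ((ι → K) ⧸ U) = k := by
    have := Submodule.finrank_quotient_add_finrank U
    rw [hdim, hU.1] at this
    omega
  have hfin : finrank K ((ι → K) ⧸ U) = finrank K (Module.Dual K U) := by
    rw [Subspace.dual_finrank_eq, hU.1, hfinQ]
  obtain ⟨Φ, hΦ⟩ : ∃ Φ : ((ι → K) ⧸ U) ≃ₗ[K] Module.Dual K U,
      Φ = LinearMap.linearEquivOfInjective φ hφinj hfin := ⟨_, rfl⟩
  have hΦapp : ∀ y, Φ y = φ y := by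
    intro y
    rw [hΦ]
    rfl
  have key : ((Φ.symm : Module.Dual K U →ₗ[K] ((ι → K) ⧸ U)) ∘ₗ (e.restrict hcomap).dualMap ∘ₗ
      (Φ : ((ι → K) ⧸ U) →ₗ[K] Module.Dual K U)) ∘ₗ (U.mapQ U e hcomap) =
      c • (LinearMap.id : ((ι → K) ⧸ U) →ₗ[K] ((ι → K) ⧸ U)) := by
    apply LinearMap.ext
    intro y
    obtain ⟨x, rfl⟩ := Submodule.Quotient.mk_surjective U y
    simp only [LinearMap.comp_apply, LinearEquiv.coe_coe, LinearMap.smul_apply,
      LinearMap.id_apply]
    rw [LinearEquiv.symm_apply_eq, map_smul, hΦapp, hΦapp]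
    apply LinearMap.ext
    intro u
    rw [LinearMap.dualMap_apply, LinearMap.smul_apply, smul_eq_mul]
    have h1 : (U.mapQ U e hcomap) (Submodule.Quotient.mk x) = Submodule.Quotient.mk (e x) := rfl
    rw [h1, hφmk, hφmk, hψapp, hψapp]
    exact hpol x u
  have h3 := congrArg LinearMap.det key
  have h4 := LinearMap.det_conj (e.restrict hcomap).dualMap Φ.symm
  rw [LinearEquiv.symm_symm] at h4
  rw [LinearMap.det_comp, h4, LinearMap.det_dualMap, LinearMap.det_smul,
    LinearMap.det_id, mul_one, hfinQ] at h3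
  rw [← LinearMap.det_toLin' M, ← he, hdet]
  exact h3

omit [DecidableEq ι] in
/-- If there is a totally singular subspace of half the dimension, the maximal totally singular
subspaces are the totally singular subspaces of half the dimension. -/
theorem isMaxTS_iff_isMTS_gen (Q : QuadraticForm K (ι → K))
    (hQ : (QuadraticMap.polarBilin Q).Nondegenerate) (k : ℕ)
    (hdim : finrank K (ι → K) = 2 * k) (E : Submodule K (ι → K)) (hE : IsMTS Q k E)
    (U : Submodule K (ι → K)) :
    Cfsg.IsMaxTotallySingular ⇑Q U ↔ IsMTS Q k U := by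
  constructor
  · rintro ⟨hts, hmax⟩
    obtain ⟨W, hW, hUW⟩ := exists_isMTS_ge hQ hdim hE hts
    rw [← hmax W hW.2 hUW]
    exact hW
  · intro hU
    refine ⟨hU.2, ?_⟩
    intro W hW hUW
    have hle := finrank_le_of_ts hQ hdim hW
    exact (Submodule.eq_of_le_of_finrank_le hUW (by rw [hU.1]; exact hle)).symm

/-- A similarity with multiplier `c` maps a maximal totally singular subspace to one in the same
class iff its determinant is `c^k` (characteristic not two). -/
theorem sim_parity_iff_gen (h2 : (2 : K) ≠ 0) (Q : QuadraticForm K (ι → K))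
    (hQ : (QuadraticMap.polarBilin Q).Nondegenerate) (k : ℕ)
    (hdim : finrank K (ι → K) = 2 * k) (U : Submodule K (ι → K)) (hU : IsMTS Q k U)
    (G : Matrix ι ι K) (c : K) (hc : c ≠ 0) (hGu : IsUnit G.det)
    (hG : ∀ x, Q (G *ᵥ x) = c * Q x) :
    Even (k - finrank K ↥(U ⊓ U.map (Matrix.mulVecLin G))) ↔ G.det = c ^ k := by
  have hinj : Function.Injective (Matrix.mulVecLin G) := by
    intro x y hxy
    simp only [Matrix.mulVecLin_apply] at hxy
    exact Matrix.mulVec_injective_iff_isUnit.mpr ((Matrix.isUnit_iff_isUnit_det G).mpr hGu) hxy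
  have hW : IsMTS Q k (U.map (Matrix.mulVecLin G)) := by
    constructor
    · rw [← (Submodule.equivMapOfInjective _ hinj U).finrank_eq]
      exact hU.1
    · rintro _ ⟨u, hu, rfl⟩
      rw [Matrix.mulVecLin_apply, hG, hU.2 u hu, mul_zero]
  obtain ⟨l, hl, hmap⟩ := IsMTS.exists_prodElt_map hQ hdim
    k U (U.map (Matrix.mulVecLin G)) hU hW (Nat.sub_le _ _)
  obtain ⟨σ, hσ⟩ : ∃ σ : ↥(Cfsg.isometryGroup K ⇑Q),
      σ = prodElt Q hQ l (fun u hu => by rw [hl u hu]; exact one_ne_zero) := ⟨_, rfl⟩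
  rw [← hσ] at hmap
  have hiff1 := mtsChar_eq_one_iff hQ hdim hU σ
  have hiff2 := mtsChar_eq_one_iff_det h2 hQ hdim hU σ
  rw [hmap] at hiff1
  rw [← hiff1, hiff2]
  obtain ⟨A, hA⟩ : ∃ A : Matrix ι ι K, A = ((σ : GL ι K) : Matrix ι ι K) := ⟨_, rfl⟩
  obtain ⟨B, hB⟩ : ∃ B : Matrix ι ι K,
      B = ((σ⁻¹ : ↥(Cfsg.isometryGroup K ⇑Q)) : GL ι K) := ⟨_, rfl⟩
  rw [← hA] at hmap ⊢
  have hBA : B * A = 1 := by
    rw [hA, hB]
    have h3 : ((σ⁻¹ * σ : ↥(Cfsg.isometryGroup K ⇑Q)) : GL ι K) = 1 := by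
      rw [inv_mul_cancel]
      rfl
    have h4 := congrArg (fun g : GL ι K => (g : Matrix ι ι K)) h3
    exact h4
  have hpB : ∀ x, Q (B *ᵥ x) = Q x := by
    intro x
    rw [hB]
    exact isom_preserves σ⁻¹ x
  have hdetBM : (B * G).det = c ^ k := by
    apply det_of_stab_mts_gen Q hQ k hdim U hU (B * G) c
    · intro x
      rw [← mulVec_mulVec, hpB, hG]
    · intro x hx
      have h1 : G *ᵥ x ∈ U.map (Matrix.mulVecLin G) := ⟨x, hx, rfl⟩
      rw [← hmap] at h1
      obtain ⟨y, hy, hy'⟩ := h1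
      rw [Matrix.mulVecLin_apply] at hy'
      rw [← mulVec_mulVec, ← hy', mulVec_mulVec, hBA, one_mulVec]
      exact hy
  have hdetBA := congrArg Matrix.det hBA
  rw [det_mul, det_one] at hdetBA
  rw [det_mul] at hdetBM
  have hcm : c ^ k ≠ 0 := pow_ne_zero _ hc
  have hG' : G.det = A.det * c ^ k := by
    linear_combination (A.det) * hdetBM + (-G.det) * hdetBA
  rw [hG']
  constructor
  · intro h
    rw [h, one_mul]
  · intro h
    have h5 : (A.det - 1) * c ^ k = 0 := by linear_combination h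
    rcases mul_eq_zero.mp h5 with h6 | h6
    · exact sub_eq_zero.mp h6
    · exact absurd h6 hcm

/-- A similarity with multiplier `c` of a quadratic form of maximal Witt index preserves the two
classes of maximal totally singular subspaces iff its determinant is `c^k` (characteristic not
two). -/
theorem preserves_iff_gen (h2 : (2 : K) ≠ 0) (Q : QuadraticForm K (ι → K))
    (hQ : (QuadraticMap.polarBilin Q).Nondegenerate) (k : ℕ)
    (hdim : finrank K (ι → K) = 2 * k) (E : Submodule K (ι → K)) (hE : IsMTS Q k E)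
    (G : Matrix ι ι K) (c : K) (hc : c ≠ 0) (hGu : IsUnit G.det)
    (hG : ∀ x, Q (G *ᵥ x) = c * Q x) :
    Cfsg.PreservesSingularClasses ⇑Q G ↔ G.det = c ^ k := by
  unfold Cfsg.PreservesSingularClasses Cfsg.SameParityClass Cfsg.imageSubmodule
  constructor
  · intro h
    have h1 := h E ((isMaxTS_iff_isMTS_gen Q hQ k hdim E hE E).mpr hE)
    rw [hE.1] at h1
    exact (sim_parity_iff_gen h2 Q hQ k hdim E hE G c hc hGu hG).mp h1
  · intro h U hU
    have hU' := (isMaxTS_iff_isMTS_gen Q hQ k hdim E hE U).mp hU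
    rw [hU'.1]
    exact (sim_parity_iff_gen h2 Q hQ k hdim U hU' G c hc hGu hG).mpr h

end gen

end Cfsg.Agent.Lib.Helper44
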