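import Mathlib
import Cfsg.Prelude.Def_LieTypeDatum
import Cfsg.Agent.Lib.Helper44.SimClass
import Cfsg.Agent.Lib.Helper44.Gram
import Cfsg.Agent.Lib.Helper14.Forms

/-!
The minus-type form `Σ xᵢyᵢ + (z₁² + a z₁ z₂ + b z₂²)` read over a quadratic extension `K` of the
finite field `F` of odd order: there it has maximal Witt index, and a similarity of the form over
`F` with multiplier `c` preserves the two classes of maximal totally singular subspaces over `K`
iff its determinant is `c^(m+1)`.
-/

set_option autoImplicit false

namespace Cfsg.Agent.Lib.Helper44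

open Matrix Module
open Cfsg.Agent.Lib.Helper14

section overK

variable {K : Type*} [Field K]

/-- The minus-type form is non-degenerate as soon as the discriminant of its binary part does not
vanish. -/
theorem minusQF_nondegenerate_of_disc (m : ℕ) (a b : K) (hd : 4 * b - a ^ 2 ≠ 0) :
    (QuadraticMap.polarBilin (minusQF m K a b)).Nondegenerate := by
  apply nondegenerate_of_coords
  rintro ((j | j) | j)
  · exact ⟨Pi.single (Sum.inl (Sum.inr j)) 1, 1, one_ne_zero,
      fun x => by rw [minusQF_coe, minus_polar_inr, one_mul]⟩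
  · exact ⟨Pi.single (Sum.inl (Sum.inl j)) 1, 1, one_ne_zero,
      fun x => by rw [minusQF_coe, minus_polar_inl, one_mul]⟩
  · fin_cases j
    · refine ⟨(2 * b) • Pi.single (Sum.inr 0) 1 - a • Pi.single (Sum.inr 1) 1, 4 * b - a ^ 2, hd,
        fun x => ?_⟩
      rw [QuadraticMap.polar_sub_left, QuadraticMap.polar_smul_left,
        QuadraticMap.polar_smul_left, minusQF_coe, minus_polar_zero, minus_polar_one]
      simp only [smul_eq_mul, Fin.zero_eta]
      ring
    · refine ⟨(2 : K) • Pi.single (Sum.inr 1) 1 - a • Pi.single (Sum.inr 0) 1, 4 * b - a ^ 2, hd,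
        fun x => ?_⟩
      rw [QuadraticMap.polar_sub_left, QuadraticMap.polar_smul_left,
        QuadraticMap.polar_smul_left, minusQF_coe, minus_polar_zero, minus_polar_one]
      simp only [smul_eq_mul, Fin.mk_one]
      ring

/-- The vector of the minus-type space with `x`-coordinates `p`, `y`-coordinates zero and
binary part `(r t, t)`. -/
def minusTSFun (m : ℕ) (r : K) (p : Fin m ⊕ Unit → K) : (Fin m ⊕ Fin m) ⊕ Fin 2 → K
  | Sum.inl (Sum.inl i) => p (Sum.inl i)
  | Sum.inl (Sum.inr _) => 0
  | Sum.inr t => if t = 0 then r * p (Sum.inr ()) else p (Sum.inr ())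

/-- The linear map parametrising a totally singular subspace of dimension `m + 1` of the
minus-type form over a field containing a root `r` of the binary part. -/
def minusTSLin (m : ℕ) (r : K) : (Fin m ⊕ Unit → K) →ₗ[K] ((Fin m ⊕ Fin m) ⊕ Fin 2 → K) where
  toFun := minusTSFun m r
  map_add' := by
    intro u v
    funext j
    rcases j with (i | i) | t
    · simp only [minusTSFun, Pi.add_apply]
    · simp only [minusTSFun, Pi.add_apply, add_zero]
    · by_cases ht : t = 0
      · simp only [minusTSFun, Pi.add_apply, ht, if_true]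
        ring
      · simp only [minusTSFun, Pi.add_apply, ht, if_false]
  map_smul' := by
    intro s v
    funext j
    rcases j with (i | i) | t
    · simp only [minusTSFun, Pi.smul_apply, smul_eq_mul, RingHom.id_apply]
    · simp only [minusTSFun, Pi.smul_apply, smul_eq_mul, RingHom.id_apply, mul_zero]
    · by_cases ht : t = 0
      · simp only [minusTSFun, Pi.smul_apply, smul_eq_mul, RingHom.id_apply, ht, if_true]
        ring
      · simp only [minusTSFun, Pi.smul_apply, smul_eq_mul, RingHom.id_apply, ht, if_false]

theorem minusTSLin_injective (m : ℕ) (r : K) : Function.Injective (minusTSLin m r) := by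
  intro p p' h
  have h' : minusTSFun m r p = minusTSFun m r p' := h
  funext j
  rcases j with i | u
  · have := congrFun h' (Sum.inl (Sum.inl i))
    simpa only [minusTSFun] using this
  · have := congrFun h' (Sum.inr 1)
    simp only [minusTSFun] at this
    rw [if_neg (by decide), if_neg (by decide)] at this
    exact this

theorem minusTSFun_quad (m : ℕ) (a b r : K) (hr : r ^ 2 + a * r + b = 0) (p : Fin m ⊕ Unit → K) :
    Cfsg.quadFormMinus m K a b (minusTSFun m r p) = 0 := by
  unfold Cfsg.quadFormMinus
  have h1 : ∑ i : Fin m, minusTSFun m r p (Sum.inl (Sum.inl i)) *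
      minusTSFun m r p (Sum.inl (Sum.inr i)) = 0 := by
    apply Finset.sum_eq_zero
    intro i _
    simp only [minusTSFun, mul_zero]
  have h2 : minusTSFun m r p (Sum.inr 0) = r * p (Sum.inr ()) := by
    simp only [minusTSFun, if_true]
  have h3 : minusTSFun m r p (Sum.inr 1) = p (Sum.inr ()) := by
    simp only [minusTSFun]
    rw [if_neg (by decide)]
  rw [h1, h2, h3]
  linear_combination (p (Sum.inr ())) ^ 2 * hr

theorem minus_isMTS_of_root (m : ℕ) (a b r : K) (hr : r ^ 2 + a * r + b = 0) :
    IsMTS (minusQF m K a b) (m + 1) (LinearMap.range (minusTSLin m r)) := by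
  constructor
  · rw [LinearMap.finrank_range_of_inj (minusTSLin_injective m r),
      Module.finrank_fintype_fun_eq_card, Fintype.card_sum, Fintype.card_fin, Fintype.card_unit]
  · rintro _ ⟨p, rfl⟩
    have e := congrFun (minusQF_coe m K a b) (minusTSLin m r p)
    rw [e]
    exact minusTSFun_quad m a b r hr p

/-- Over a field (of characteristic not two) in which the binary part has a root, a similarity of
the minus-type form with multiplier `c` preserves the two classes of maximal totally singular
subspaces iff its determinant is `c^(m+1)`. -/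
theorem minus_preserves_iff_of_root (h2 : (2 : K) ≠ 0) (m : ℕ) (a b r : K)
    (hr : r ^ 2 + a * r + b = 0) (hd : 4 * b - a ^ 2 ≠ 0)
    (G : Matrix ((Fin m ⊕ Fin m) ⊕ Fin 2) ((Fin m ⊕ Fin m) ⊕ Fin 2) K) (c : K) (hc : c ≠ 0)
    (hGu : IsUnit G.det)
    (hG : ∀ x, Cfsg.quadFormMinus m K a b (G *ᵥ x) = c * Cfsg.quadFormMinus m K a b x) :
    Cfsg.PreservesSingularClasses (Cfsg.quadFormMinus m K a b) G ↔ G.det = c ^ (m + 1) := by
  have hdim : finrank K ((Fin m ⊕ Fin m) ⊕ Fin 2 → K) = 2 * (m + 1) := by
    rw [Module.finrank_fintype_fun_eq_card, Fintype.card_sum, Fintype.card_sum, Fintype.card_fin,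
      Fintype.card_fin]
    ring
  have key := preserves_iff_gen h2 (minusQF m K a b) (minusQF_nondegenerate_of_disc m a b hd)
    (m + 1) hdim _ (minus_isMTS_of_root m a b r hr) G c hc hGu
    (by
      intro x
      have e := congrFun (minusQF_coe m K a b)
      rw [e, e]
      exact hG x)
  rw [minusQF_coe] at key
  exact key

end overK

section ext

variable {F : Type*} [Field F] [Fintype F] {K : Type*} [Field K] [Algebra F K]

/-- Every element of a finite field of odd order is a square in a quadratic extension. -/
theorem isSquare_algebraMap_of_finrank_two (h2 : (2 : F) ≠ 0) (hK : finrank F K = 2) (d : F) :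
    IsSquare (algebraMap F K d) := by
  by_cases hd : d = 0
  · exact ⟨0, by rw [hd, map_zero, mul_zero]⟩
  have hfd : Module.Finite F K := Module.finite_of_finrank_pos (by rw [hK]; norm_num)
  have hfinK : Finite K := Module.finite_of_finite F
  let _ := Fintype.ofFinite K
  have hcard : Fintype.card K = Fintype.card F ^ 2 := by
    rw [Module.card_eq_pow_finrank (K := F) (V := K), hK]
  have h2K : (2 : K) ≠ 0 := by
    intro h
    apply h2
    apply (algebraMap F K).injective
    rw [map_ofNat, h, map_zero]
  have hcharK : ringChar K ≠ 2 := by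
    intro h
    apply h2K
    have := CharP.cast_eq_zero K (ringChar K)
    rw [h] at this
    exact_mod_cast this
  have hcharF : ringChar F ≠ 2 := by
    intro h
    apply h2
    have := CharP.cast_eq_zero F (ringChar F)
    rw [h] at this
    exact_mod_cast this
  have hd' : algebraMap F K d ≠ 0 := by
    intro h
    apply hd
    apply (algebraMap F K).injective
    rw [h, map_zero]
  rw [FiniteField.isSquare_iff hcharK hd', hcard]
  have hqodd : Fintype.card F % 2 = 1 := FiniteField.odd_card_of_char_ne_two hcharF
  obtain ⟨t, ht⟩ : ∃ t, Fintype.card F = 2 * t + 1 := ⟨Fintype.card F / 2, by omega⟩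
  have hexp : Fintype.card F ^ 2 / 2 = (Fintype.card F - 1) * (t + 1) := by
    rw [ht]
    have h3 : (2 * t + 1) ^ 2 = 2 * (2 * t * (t + 1)) + 1 := by ring
    have h4 : 2 * t + 1 - 1 = 2 * t := by omega
    rw [h3, h4]
    obtain ⟨X, hX⟩ : ∃ X, X = 2 * t * (t + 1) := ⟨_, rfl⟩
    rw [← hX]
    omega
  rw [hexp, pow_mul, ← map_pow, FiniteField.pow_card_sub_one_eq_one d hd, map_one, one_pow]

/-- A binary quadratic polynomial over a finite field of odd order has a root in every quadratic
extension. -/
theorem exists_root_of_finrank_two (h2 : (2 : F) ≠ 0) (hK : finrank F K = 2) (a b : F) :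
    ∃ r : K, r ^ 2 + algebraMap F K a * r + algebraMap F K b = 0 := by
  obtain ⟨s, hs⟩ := isSquare_algebraMap_of_finrank_two (K := K) h2 hK (a ^ 2 - 4 * b)
  have h2K : (2 : K) ≠ 0 := by
    intro h
    apply h2
    apply (algebraMap F K).injective
    rw [map_ofNat, h, map_zero]
  rw [map_sub, map_pow, map_mul, map_ofNat] at hs
  refine ⟨(- algebraMap F K a + s) / 2, ?_⟩
  field_simp
  linear_combination (-1 : K) * hs

omit [Fintype F] in
theorem minusGram_map (m : ℕ) (a b : F) :
    (minusGram m F a b).map (algebraMap F K) =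
      minusGram m K (algebraMap F K a) (algebraMap F K b) := by
  ext i j
  rcases i with (i | i) | i <;> rcases j with (j | j) | j
  all_goals try (fin_cases i)
  all_goals try (fin_cases j)
  all_goals simp [minusGram, swapBlocks, Matrix.one_apply]
  all_goals first | exact map_ofNat _ 2 | exact Or.inl (map_ofNat _ 2)

omit [Fintype F] [Algebra F K] in
/-- A matrix is a similarity of the minus-type form (characteristic not two) iff it scales the
Gram matrix of the polar form. -/
theorem minus_sim_iff_gram (h2 : (2 : K) ≠ 0) (m : ℕ) (a b : K)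
    (g : Matrix ((Fin m ⊕ Fin m) ⊕ Fin 2) ((Fin m ⊕ Fin m) ⊕ Fin 2) K) (c : K) :
    (∀ x, Cfsg.quadFormMinus m K a b (g *ᵥ x) = c * Cfsg.quadFormMinus m K a b x) ↔
      gᵀ * minusGram m K a b * g = c • minusGram m K a b := by
  have hcomp : ∀ u v, Matrix.toBilin' (gᵀ * minusGram m K a b * g) u v =
      QuadraticMap.polar (Cfsg.quadFormMinus m K a b) (g *ᵥ u) (g *ᵥ v) := by
    intro u v
    rw [← Matrix.toBilin'_comp, polar_quadFormMinus]
    rfl
  have hself : ∀ x, QuadraticMap.polar (Cfsg.quadFormMinus m K a b) x x =
      2 * Cfsg.quadFormMinus m K a b x := by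
    intro x
    rw [← minusQF_coe]
    have h9 := QuadraticMap.polar_self (minusQF m K a b) x
    rw [h9, two_nsmul]
    ring
  constructor
  · intro hg
    refine LinearEquiv.injective (Matrix.toBilin' (R₁ := K)
      (n := (Fin m ⊕ Fin m) ⊕ Fin 2)) ?_
    apply LinearMap.ext
    intro u
    apply LinearMap.ext
    intro v
    rw [hcomp]
    have h1 : QuadraticMap.polar (Cfsg.quadFormMinus m K a b) (g *ᵥ u) (g *ᵥ v) =
        c * QuadraticMap.polar (Cfsg.quadFormMinus m K a b) u v := by
      unfold QuadraticMap.polar
      rw [← mulVec_add, hg, hg, hg]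
      ring
    rw [h1, polar_quadFormMinus, map_smul]
    rfl
  · intro hgram x
    have h1 := hcomp x x
    rw [hgram, map_smul, hself] at h1
    have h3 : (Matrix.toBilin' (minusGram m K a b)) x x =
        2 * Cfsg.quadFormMinus m K a b x := by
      rw [← hself, polar_quadFormMinus]
      rfl
    have h4 : (c • Matrix.toBilin' (minusGram m K a b)) x x =
        c * (Matrix.toBilin' (minusGram m K a b)) x x := rfl
    rw [h4, h3] at h1
    have h5 : (2 : K) * (Cfsg.quadFormMinus m K a b (g *ᵥ x) -
        c * Cfsg.quadFormMinus m K a b x) = 0 := by linear_combination -h1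
    rcases mul_eq_zero.mp h5 with h6 | h6
    · exact absurd h6 h2
    · exact sub_eq_zero.mp h6

omit [Fintype F] in
/-- A similarity of the minus-type form over `F` remains one over any extension field. -/
theorem minus_sim_map (h2 : (2 : F) ≠ 0) (m : ℕ) (a b : F)
    (g : Matrix ((Fin m ⊕ Fin m) ⊕ Fin 2) ((Fin m ⊕ Fin m) ⊕ Fin 2) F) (c : F)
    (hg : ∀ x, Cfsg.quadFormMinus m F a b (g *ᵥ x) = c * Cfsg.quadFormMinus m F a b x)
    (y : (Fin m ⊕ Fin m) ⊕ Fin 2 → K) :
    Cfsg.quadFormMinus m K (algebraMap F K a) (algebraMap F K b) (g.map (algebraMap F K) *ᵥ y) =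
      algebraMap F K c *
        Cfsg.quadFormMinus m K (algebraMap F K a) (algebraMap F K b) y := by
  have h2K : (2 : K) ≠ 0 := by
    intro h
    apply h2
    apply (algebraMap F K).injective
    rw [map_ofNat, h, map_zero]
  have h1 := (minus_sim_iff_gram h2 m a b g c).mp hg
  have h3 := congrArg (fun M : Matrix ((Fin m ⊕ Fin m) ⊕ Fin 2) ((Fin m ⊕ Fin m) ⊕ Fin 2) F =>
    M.map (algebraMap F K)) h1
  simp only [Matrix.map_mul, Matrix.transpose_map] at h3
  have h4 : (c • minusGram m F a b).map (algebraMap F K) =
      algebraMap F K c • (minusGram m F a b).map (algebraMap F K) := by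
    ext i j
    simp [Matrix.map_apply, Matrix.smul_apply]
  rw [h4, minusGram_map] at h3
  exact (minus_sim_iff_gram h2K m _ _ _ _).mpr h3 y

end ext

section final

universe u

variable {F : Type u} [Field F]

open Polynomial in
/-- A quadratic extension (in the same universe) of a field with an anisotropic binary form. -/
theorem exists_quadratic_extension (a b : F)
    (hab : ∀ z₁ z₂ : F, z₁ ^ 2 + a * z₁ * z₂ + b * z₂ ^ 2 = 0 → z₁ = 0 ∧ z₂ = 0) :
    ∃ (K : Type u) (_ : Field K) (_ : Algebra F K), finrank F K = 2 := by
  obtain ⟨f, hf⟩ : ∃ f : F[X], f = C 1 * X ^ 2 + C a * X + C b := ⟨_, rfl⟩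
  have hdeg : f.natDegree = 2 := by
    rw [hf]
    exact natDegree_quadratic one_ne_zero
  have hirr : Irreducible f := by
    apply irreducible_of_degree_le_three_of_not_isRoot
    · rw [hdeg]
      decide
    · intro x hx
      rw [IsRoot, hf] at hx
      simp only [eval_add, eval_mul, eval_C, eval_pow, eval_X] at hx
      have := hab x 1 (by linear_combination hx)
      exact one_ne_zero this.2
  have : Fact (Irreducible f) := ⟨hirr⟩
  refine ⟨AdjoinRoot f, inferInstance, inferInstance, ?_⟩
  rw [(AdjoinRoot.powerBasis hirr.ne_zero).finrank, AdjoinRoot.powerBasis_dim, hdeg]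

variable [Fintype F]

/-- A similarity of the minus-type form over a finite field of odd order, with multiplier `c`,
preserves the two classes of maximal totally singular subspaces over a quadratic extension iff
its determinant is `c^(m+1)`. -/
theorem minus_preserves_iff (h2 : (2 : F) ≠ 0) (m : ℕ) (a b : F)
    (hab : ∀ z₁ z₂ : F, z₁ ^ 2 + a * z₁ * z₂ + b * z₂ ^ 2 = 0 → z₁ = 0 ∧ z₂ = 0)
    (g : Matrix ((Fin m ⊕ Fin m) ⊕ Fin 2) ((Fin m ⊕ Fin m) ⊕ Fin 2) F) (c : F) (hc : c ≠ 0)
    (hgu : IsUnit g.det)
    (hg : ∀ x, Cfsg.quadFormMinus m F a b (g *ᵥ x) = c * Cfsg.quadFormMinus m F a b x) :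
    Cfsg.PreservesSingularClassesMinus m a b g ↔ g.det = c ^ (m + 1) := by
  have hd := minus_disc_ne_zero F h2 a b hab
  have key : ∀ (K : Type u) [Field K] [Algebra F K], finrank F K = 2 →
      (Cfsg.PreservesSingularClasses
          (Cfsg.quadFormMinus m K (algebraMap F K a) (algebraMap F K b))
          (g.map (algebraMap F K)) ↔ g.det = c ^ (m + 1)) := by
    intro K _ _ hK
    have h2K : (2 : K) ≠ 0 := by
      intro h
      apply h2
      apply (algebraMap F K).injective
      rw [map_ofNat, h, map_zero]
    obtain ⟨r, hr⟩ := exists_root_of_finrank_two (K := K) h2 hK a b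
    have hdK : 4 * algebraMap F K b - algebraMap F K a ^ 2 ≠ 0 := by
      intro h
      apply hd
      apply (algebraMap F K).injective
      rw [map_sub, map_mul, map_pow, map_ofNat, h, map_zero]
    have hcK : algebraMap F K c ≠ 0 := by
      intro h
      apply hc
      apply (algebraMap F K).injective
      rw [h, map_zero]
    have hdetK : (g.map (algebraMap F K)).det = algebraMap F K g.det := by
      rw [RingHom.map_det]
      rfl
    have huK : IsUnit (g.map (algebraMap F K)).det := by
      rw [hdetK]
      exact hgu.map _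
    rw [minus_preserves_iff_of_root h2K m _ _ r hr hdK _ (algebraMap F K c) hcK huK
      (minus_sim_map h2 m a b g c hg), hdetK, ← map_pow]
    exact (algebraMap F K).injective.eq_iff
  constructor
  · rintro ⟨K, instF, instA, hK, hpres⟩
    exact (key K hK).mp hpres
  · intro hdet
    obtain ⟨K, instF, instA, hK⟩ := exists_quadratic_extension a b hab
    exact ⟨K, instF, instA, hK, (key K hK).mpr hdet⟩

end final

end Cfsg.Agent.Lib.Helper44
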