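import Mathlib
import Cfsg.Prelude.Def_LieTypeDatum
import Cfsg.Agent.Lib.Helper14.Spinor

/-!
A similarity of the minus-type form `Σ xᵢyᵢ + (z₁² + a z₁ z₂ + b z₂²)` with non-square multiplier:
scale the `xᵢ` by `c = N(w + θ)` and multiply the binary part by `w + θ` in the quadratic
extension.
-/

set_option autoImplicit false

namespace Cfsg.Agent.Lib.Helper44

open Cfsg.Agent.Lib.Helper14

section minusSim

variable {F : Type*} [Field F]

/-- The anisotropic binary form `z₁² + a z₁ z₂ + b z₂²` takes a non-square value at some `(w, 1)`. -/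
theorem exists_norm_not_isSquare [Fintype F] (h2 : (2 : F) ≠ 0) (a b : F)
    (hab : ∀ z₁ z₂ : F, z₁ ^ 2 + a * z₁ * z₂ + b * z₂ ^ 2 = 0 → z₁ = 0 ∧ z₂ = 0) :
    ∃ w c : F, ¬ IsSquare c ∧ w ^ 2 + a * w + b = c := by
  obtain ⟨c₀, hc₀⟩ := exists_not_isSquare h2
  have hc₀0 : c₀ ≠ 0 := fun h => hc₀ ⟨0, by simp [h]⟩
  have hF : ringChar F ≠ 2 := by
    intro h
    apply h2
    have := CharP.cast_eq_zero F (ringChar F)
    rw [h] at this
    exact_mod_cast this
  have hodd : Fintype.card F % 2 = 1 := FiniteField.odd_card_of_char_ne_two hF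
  obtain ⟨x, y, h⟩ := FiniteField.exists_root_sum_quadratic
    (f := Polynomial.C (1 : F) * Polynomial.X ^ 2 + Polynomial.C a * Polynomial.X + Polynomial.C b)
    (g := Polynomial.C (-c₀) * Polynomial.X ^ 2)
    (Polynomial.degree_quadratic one_ne_zero)
    (Polynomial.degree_C_mul_X_pow 2 (neg_ne_zero.mpr hc₀0)) hodd
  simp only [Polynomial.eval_add, Polynomial.eval_mul, Polynomial.eval_C, Polynomial.eval_pow,
    Polynomial.eval_X] at h
  have hy : y ≠ 0 := by
    rintro rfl
    have := hab x 1 (by linear_combination h)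
    exact one_ne_zero this.2
  refine ⟨x, y ^ 2 * c₀, ?_, by linear_combination h⟩
  exact not_isSquare_mul_of_isSquare ⟨y, by ring⟩ (pow_ne_zero 2 hy) hc₀

/-- The similarity of the minus-type form attached to `w` (with multiplier `c = w² + a w + b`). -/
def minusSimFun (m : ℕ) (a b c w : F) (v : (Fin m ⊕ Fin m) ⊕ Fin 2 → F) :
    (Fin m ⊕ Fin m) ⊕ Fin 2 → F
  | Sum.inl (Sum.inl i) => c * v (Sum.inl (Sum.inl i))
  | Sum.inl (Sum.inr i) => v (Sum.inl (Sum.inr i))
  | Sum.inr t => if t = 0 then w * v (Sum.inr 0) - b * v (Sum.inr 1)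
      else v (Sum.inr 0) + (w + a) * v (Sum.inr 1)

/-- `minusSimFun` as a linear map. -/
def minusSimLin (m : ℕ) (a b c w : F) :
    ((Fin m ⊕ Fin m) ⊕ Fin 2 → F) →ₗ[F] ((Fin m ⊕ Fin m) ⊕ Fin 2 → F) where
  toFun := minusSimFun m a b c w
  map_add' := by
    intro u v
    funext j
    rcases j with (i | i) | t
    · simp only [minusSimFun, Pi.add_apply]
      ring
    · simp only [minusSimFun, Pi.add_apply]
    · by_cases ht : t = 0
      · simp only [minusSimFun, Pi.add_apply, ht, if_true]
        ring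
      · simp only [minusSimFun, Pi.add_apply, ht, if_false]
        ring
  map_smul' := by
    intro s v
    funext j
    rcases j with (i | i) | t
    · simp only [minusSimFun, Pi.smul_apply, smul_eq_mul, RingHom.id_apply]
      ring
    · simp only [minusSimFun, Pi.smul_apply, smul_eq_mul, RingHom.id_apply]
    · by_cases ht : t = 0
      · simp only [minusSimFun, Pi.smul_apply, smul_eq_mul, RingHom.id_apply, ht, if_true]
        ring
      · simp only [minusSimFun, Pi.smul_apply, smul_eq_mul, RingHom.id_apply, ht, if_false]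
        ring

theorem minusSimFun_quad (m : ℕ) (a b c w : F) (hw : w ^ 2 + a * w + b = c)
    (v : (Fin m ⊕ Fin m) ⊕ Fin 2 → F) :
    Cfsg.quadFormMinus m F a b (minusSimFun m a b c w v) = c * Cfsg.quadFormMinus m F a b v := by
  unfold Cfsg.quadFormMinus
  have h1 : ∑ i : Fin m, minusSimFun m a b c w v (Sum.inl (Sum.inl i)) *
      minusSimFun m a b c w v (Sum.inl (Sum.inr i)) =
      c * ∑ i : Fin m, v (Sum.inl (Sum.inl i)) * v (Sum.inl (Sum.inr i)) := by
    rw [Finset.mul_sum]
    apply Finset.sum_congr rfl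
    intro i _
    simp only [minusSimFun]
    ring
  have h2 : minusSimFun m a b c w v (Sum.inr 0) = w * v (Sum.inr 0) - b * v (Sum.inr 1) := by
    simp only [minusSimFun, if_true]
  have h3 : minusSimFun m a b c w v (Sum.inr 1) = v (Sum.inr 0) + (w + a) * v (Sum.inr 1) := by
    simp only [minusSimFun]
    rw [if_neg (by decide)]
  rw [h1, h2, h3, ← hw]
  ring

end minusSim

end Cfsg.Agent.Lib.Helper44
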