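import Mathlib
import Cfsg.Prelude.Def_LieTypeDatum
import Cfsg.Agent.Lib.Helper44.PgoAut
import Cfsg.Agent.Lib.Helper54.Dihedral

/-!
The image of the conformal orthogonal group in `Aut(PΩ(Q))` modulo the inner automorphisms (even
dimension, odd characteristic): dihedral of order eight if `-1 ∈ Ω`, elementary abelian of order
four otherwise.
-/

set_option autoImplicit false

namespace Cfsg.Agent.Lib.Helper44

open Matrix Module Subgroup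
open Cfsg.Agent.Lib.Helper14

section pgoInn

variable {ι : Type} [Fintype ι] [DecidableEq ι] {F : Type*} [Field F]

/-- The inclusion of the isometry group in the similarity group is compatible with the actions
on `PΩ`. -/
theorem simAut_incl (Qf : (ι → F) → F) (h : ↥(Cfsg.isometryGroup F Qf)) :
    simAut Qf ⟨(h : GL ι F), isometryGroup_le_sim Qf h.2⟩ = isomAut Qf h := by
  apply MulEquiv.ext
  intro q
  obtain ⟨s, rfl⟩ := QuotientGroup.mk_surjective q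
  rw [simAut_mk, isomAut_mk]
  congr 1

theorem inn_le_psoAut (Qf : (ι → F) → F) :
    Cfsg.Inn (Cfsg.POmega F Qf) ≤ Cfsg.psoAut F Qf := by
  rw [inn_eq_map, psoAut_eq_map]
  exact Subgroup.map_mono (commutator_le_specialIsometryGroup Qf)

theorem psoAut_le_pgoAut (Qf : (ι → F) → F) :
    Cfsg.psoAut F Qf ≤ Cfsg.pgoAut F Qf := by
  rw [psoAut_eq_map_sim, pgoAut_eq_range]
  exact Subgroup.map_le_range _ _

/-- Conjugating a reflection matrix by a similarity. -/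
theorem refl_conj_sim (Q : QuadraticForm F (ι → F)) (S : Matrix ι ι F) (c : F) (hc : c ≠ 0)
    (hS : ∀ x, Q (S *ᵥ x) = c * Q x) (w : ι → F) :
    S * Cfsg.reflectionMatrix ⇑Q w = Cfsg.reflectionMatrix ⇑Q (S *ᵥ w) * S := by
  have hpol : ∀ x y, QuadraticMap.polar ⇑Q (S *ᵥ x) (S *ᵥ y) = c * QuadraticMap.polar ⇑Q x y := by
    intro x y
    unfold QuadraticMap.polar
    rw [← mulVec_add, hS, hS, hS]
    ring
  rw [ext_iff_mulVec]
  intro x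
  rw [← mulVec_mulVec, ← mulVec_mulVec, reflectionMatrix_mulVec, reflectionMatrix_mulVec,
    hpol, hS, mulVec_sub, mulVec_smul]
  congr 2
  by_cases hw : Q w = 0
  · simp [hw]
  · field_simp

/-- The commutator of a similarity with non-square multiplier and a reflection does not induce
an inner automorphism of `PΩ` (when `-1 ∈ Ω`). -/
theorem simAut_comm_not_mem_inn [Fintype F] (h2 : (2 : F) ≠ 0) (Q : QuadraticForm F (ι → F))
    (hQ : (QuadraticMap.polarBilin Q).Nondegenerate)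
    (E : Submodule F (ι → F)) (hE : 3 ≤ finrank F E) (hE0 : ∀ x ∈ E, Q x = 0)
    (hneg : ∃ g : ↥(Cfsg.isometryGroup F ⇑Q), g ∈ Cfsg.Omega F ⇑Q ∧
      ((g : GL ι F) : Matrix ι ι F) = -1)
    (g r : ↥(Cfsg.Geo.quadSimilarityGroup (F := F) ⇑Q)) (c : F) (hc : ¬ IsSquare c)
    (hgc : ∀ v, Q (((g : GL ι F) : Matrix ι ι F) *ᵥ v) = c * Q v) (u : ι → F) (hu : Q u ≠ 0)
    (hr : ((r : GL ι F) : Matrix ι ι F) = Cfsg.reflectionMatrix ⇑Q u) :
    simAut ⇑Q (g * r * g⁻¹ * r⁻¹) ∉ Cfsg.Inn (Cfsg.POmega F ⇑Q) := by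
  intro hmem
  have hc0 : c ≠ 0 := fun h => hc ⟨0, by simp [h]⟩
  rw [inn_eq_map] at hmem
  obtain ⟨ω, hω, hωeq⟩ := hmem
  obtain ⟨ω', hω'⟩ : ∃ ω' : ↥(Cfsg.Geo.quadSimilarityGroup (F := F) ⇑Q),
      ω' = ⟨(ω : GL ι F), isometryGroup_le_sim _ ω.2⟩ := ⟨_, rfl⟩
  have hω'aut : simAut ⇑Q ω' = isomAut ⇑Q ω := by
    rw [hω']
    exact simAut_incl _ ω
  have hω'mat : ((ω' : GL ι F) : Matrix ι ι F) = ((ω : GL ι F) : Matrix ι ι F) := by rw [hω']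
  have h1 : simAut ⇑Q ((g * r * g⁻¹ * r⁻¹) * ω'⁻¹) = 1 := by
    rw [map_mul (simAut ⇑Q) (g * r * g⁻¹ * r⁻¹), map_inv, hω'aut, hωeq, mul_inv_cancel]
  obtain ⟨lam, hlam0, hlam⟩ := scalar_of_simAut_eq_one Q hQ E hE hE0 _ h1
  -- the matrix of the commutator
  have hrr : r * r = 1 := by
    apply Subtype.ext
    apply Units.ext
    rw [Subgroup.coe_mul, Units.val_mul, hr, reflectionMatrix_mul_self Q hu]
    rfl
  have hrinv : r⁻¹ = r := inv_eq_of_mul_eq_one_left hrr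
  have hginv : ((g : GL ι F) : Matrix ι ι F) * (((g : GL ι F)⁻¹ : GL ι F) : Matrix ι ι F) = 1 := by
    rw [← Units.val_mul, mul_inv_cancel, Units.val_one]
  have hTmat : (((g * r * g⁻¹ * r⁻¹ : ↥(Cfsg.Geo.quadSimilarityGroup (F := F) ⇑Q)) : GL ι F) :
      Matrix ι ι F) = Cfsg.reflectionMatrix ⇑Q (((g : GL ι F) : Matrix ι ι F) *ᵥ u) *
        Cfsg.reflectionMatrix ⇑Q u := by
    rw [hrinv]
    simp only [Subgroup.coe_mul, Subgroup.coe_inv, Units.val_mul]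
    rw [hr, refl_conj_sim Q _ c hc0 hgc u, mul_assoc (Cfsg.reflectionMatrix ⇑Q _), hginv, mul_one]
  have hT2 : (((g * r * g⁻¹ * r⁻¹ : ↥(Cfsg.Geo.quadSimilarityGroup (F := F) ⇑Q)) : GL ι F) :
      Matrix ι ι F) = lam • ((ω : GL ι F) : Matrix ι ι F) := by
    have e1 : (g * r * g⁻¹ * r⁻¹ : ↥(Cfsg.Geo.quadSimilarityGroup (F := F) ⇑Q)) =
        ((g * r * g⁻¹ * r⁻¹) * ω'⁻¹) * ω' := by rw [inv_mul_cancel_right]
    rw [e1, Subgroup.coe_mul, Units.val_mul, hlam, hω'mat, smul_mul_assoc, one_mul]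
  have hgu : Q (((g : GL ι F) : Matrix ι ι F) *ᵥ u) ≠ 0 := by
    rw [hgc]
    exact mul_ne_zero hc0 hu
  have hl : ∀ w ∈ [((g : GL ι F) : Matrix ι ι F) *ᵥ u, u], Q w ≠ 0 := by
    intro w hw
    rcases List.mem_cons.mp hw with rfl | hw
    · exact hgu
    · rcases List.mem_cons.mp hw with rfl | hw
      · exact hu
      · simp at hw
  obtain ⟨P, hP⟩ : ∃ P : ↥(Cfsg.isometryGroup F ⇑Q),
      P = prodElt Q hQ [((g : GL ι F) : Matrix ι ι F) *ᵥ u, u] hl := ⟨_, rfl⟩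
  have hPmat : ((P : GL ι F) : Matrix ι ι F) = lam • ((ω : GL ι F) : Matrix ι ι F) := by
    rw [← hT2, hTmat, hP]
    simp [prodElt, mkIsom_coe]
  have hlam2 : lam * lam = 1 := by
    have e1 := isom_preserves P u
    rw [hPmat, smul_mulVec, QuadraticMap.map_smul, isom_preserves ω u, smul_eq_mul] at e1
    have e2 : (lam * lam - 1) * Q u = 0 := by linear_combination e1
    rcases mul_eq_zero.mp e2 with h | h
    · exact sub_eq_zero.mp h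
    · exact absurd h hu
  have hPmem : P ∈ commutator ↥(Cfsg.isometryGroup F ⇑Q) := by
    have h3 : (lam - 1) * (lam + 1) = 0 := by linear_combination hlam2
    rcases mul_eq_zero.mp h3 with h | h
    · have : P = ω := by
        apply isom_ext
        rw [hPmat, sub_eq_zero.mp h, one_smul]
      rw [this]
      exact hω
    · obtain ⟨z, hz, hzmat⟩ := hneg
      have : P = z * ω := by
        apply isom_ext
        rw [hPmat, eq_neg_of_add_eq_zero_left h, Subgroup.coe_mul, Units.val_mul, hzmat, neg_smul,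
          one_smul, neg_mul, one_mul]
      rw [this]
      exact Subgroup.mul_mem _ hz hω
  rw [hP] at hPmem
  have h5 := ((prodElt_mem_commutator_iff h2 Q hQ _ hl).mp hPmem).2
  simp only [List.map_cons, List.map_nil, List.prod_cons, List.prod_nil, mul_one] at h5
  rw [hgc] at h5
  obtain ⟨t, ht⟩ := h5
  apply hc
  refine ⟨t / Q u, ?_⟩
  field_simp
  linear_combination ht

end pgoInn

section klein

theorem zmod22_mul_self : ∀ z : Multiplicative (ZMod 2 × ZMod 2), z * z = 1 := by decide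

theorem zmod22_zpow (z : Multiplicative (ZMod 2 × ZMod 2)) (n : ℤ) : z ^ n = 1 ∨ z ^ n = z := by
  rcases Int.even_or_odd' n with ⟨j, rfl | rfl⟩
  · left
    rw [_root_.zpow_mul, zpow_two, zmod22_mul_self, _root_.one_zpow]
  · right
    rw [_root_.zpow_add, _root_.zpow_mul, zpow_two, zmod22_mul_self, _root_.one_zpow, one_mul, zpow_one]

theorem zmod22_pow (z : Multiplicative (ZMod 2 × ZMod 2)) (n : ℕ) : z ^ n = 1 ∨ z ^ n = z := by
  rcases Nat.even_or_odd' n with ⟨j, rfl | rfl⟩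
  · left
    rw [pow_mul, pow_two, zmod22_mul_self, one_pow]
  · right
    rw [pow_add, pow_mul, pow_two, zmod22_mul_self, one_pow, one_mul, pow_one]

/-- Recognising the dihedral group of order eight as a quotient: abstract form of the argument
for `pgoAut / Inn`. -/
theorem dihedral_of_data {G Γ : Type*} [Group G] [Group Γ] [Finite Γ] (Θ : G →* Γ)
    (χ : G →* Multiplicative (ZMod 2 × ZMod 2)) (σ : G →* Multiplicative (ZMod 2))
    (hcard : Nat.card Γ = 2 * 4)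
    (K2 : ∀ g, Θ g = 1 → χ g = 1)
    (K3 : ∀ g g', χ g = 1 → χ g' = 1 → Θ g ≠ 1 → Θ g' ≠ 1 → Θ (g * g') = 1)
    (hχσ : ∀ g, χ g = 1 → σ g = 1)
    (g₁ g₂ : G) (hg₁sq : g₁ * g₁ = 1) (hσ1 : σ g₁ = 1) (hσ2 : σ g₂ ≠ 1) (hχ1 : χ g₁ ≠ 1)
    (hT1 : Θ (g₂ * g₁ * g₂⁻¹ * g₁⁻¹) ≠ 1) : Nonempty (Γ ≃* DihedralGroup 4) := by
  obtain ⟨x, hx⟩ : ∃ x, x = Θ g₁ := ⟨_, rfl⟩
  obtain ⟨y, hy⟩ : ∃ y, y = Θ g₂ := ⟨_, rfl⟩
  obtain ⟨t, ht⟩ : ∃ t, t = Θ (g₂ * g₁ * g₂⁻¹ * g₁⁻¹) := ⟨_, rfl⟩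
  have htxy : t = y * x * y⁻¹ * x⁻¹ := by
    rw [ht, hx, hy]
    simp only [map_mul, map_inv]
  have hxx : x * x = 1 := by rw [hx, ← map_mul, hg₁sq, map_one]
  have hxinv : x⁻¹ = x := inv_eq_of_mul_eq_one_left hxx
  have ht1 : t ≠ 1 := by rw [ht]; exact hT1
  have hχT : χ (g₂ * g₁ * g₂⁻¹ * g₁⁻¹) = 1 := by
    rw [map_mul, map_mul, map_mul, map_inv, map_inv, mul_comm (χ g₂) (χ g₁),
      mul_inv_cancel_right, mul_inv_cancel]
  have htt : t * t = 1 := by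
    rw [ht, ← map_mul]
    exact K3 _ _ hχT hχT hT1 hT1
  have hχgg : χ (g₂ * g₂) = 1 := by
    rw [map_mul]
    exact zmod22_mul_self _
  have hdata : ∃ (a : Γ) (A : G), a = Θ A ∧ σ A ≠ 1 ∧ a * a = t ∧ x * a * x⁻¹ = a⁻¹ := by
    by_cases hyy : y * y = 1
    · have hyinv : y⁻¹ = y := inv_eq_of_mul_eq_one_left hyy
      refine ⟨y * x, g₂ * g₁, by rw [map_mul, hx, hy], ?_, ?_, ?_⟩
      · rw [map_mul, hσ1, mul_one]
        exact hσ2
      · rw [htxy, hyinv, hxinv]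
        group
      · rw [_root_.mul_inv_rev, hyinv, hxinv, mul_assoc, mul_assoc, hxx, mul_one]
    · have h1 : Θ (g₂ * g₂ * (g₂ * g₁ * g₂⁻¹ * g₁⁻¹)) = 1 :=
        K3 _ _ hχgg hχT (by rw [map_mul, ← hy]; exact hyy) hT1
      have h2' : y * y * t = 1 := by
        rw [map_mul, map_mul, ← hy, ← ht] at h1
        exact h1
      have hyyt : y * y = t := by
        have h3 : y * y = t⁻¹ := eq_inv_of_mul_eq_one_left h2'
        rw [h3]
        exact inv_eq_of_mul_eq_one_left htt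
      refine ⟨y, g₂, hy, hσ2, hyyt, ?_⟩
      have h3 : y * x * y⁻¹ * x⁻¹ = y * y := by rw [← htxy, hyyt]
      have h4 : x * y⁻¹ * x⁻¹ = y := by
        calc x * y⁻¹ * x⁻¹ = y⁻¹ * (y * x * y⁻¹ * x⁻¹) := by group
          _ = y⁻¹ * (y * y) := by rw [h3]
          _ = y := by group
      calc x * y * x⁻¹ = (x * y⁻¹ * x⁻¹)⁻¹ := by group
        _ = y⁻¹ := by rw [h4]
  obtain ⟨a, A, haA, hσA, haa, hconj⟩ := hdata
  have ha4 : orderOf a = 4 := by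
    have h1 : ¬ a ^ 2 ^ 1 = 1 := by
      rw [pow_one, pow_two, haa]
      exact ht1
    have h2' : a ^ 2 ^ (1 + 1) = 1 := by
      show a ^ 4 = 1
      calc a ^ 4 = a ^ 2 * a ^ 2 := by rw [← pow_add]
        _ = 1 := by rw [pow_two, haa, htt]
    have := orderOf_eq_prime_pow h1 h2'
    rw [this]
    norm_num
  have hxa : x ∉ Subgroup.zpowers a := by
    intro hmem'
    rw [← mem_powers_iff_mem_zpowers] at hmem'
    obtain ⟨n, hn⟩ := (Submonoid.mem_powers_iff _ _).mp hmem'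
    have h1 : Θ (g₁⁻¹ * A ^ n) = 1 := by
      rw [map_mul, map_inv, map_pow, ← haA, hn, ← hx, inv_mul_cancel]
    have h3 := K2 _ h1
    rw [map_mul, map_inv, map_pow] at h3
    rcases zmod22_pow (χ A) n with h | h
    · rw [h, mul_one, inv_eq_one] at h3
      exact hχ1 h3
    · rw [h] at h3
      have h4 : χ (g₁⁻¹ * A) = 1 := by
        rw [map_mul, map_inv]
        exact h3
      have h5 := hχσ _ h4
      rw [map_mul, map_inv, hσ1, inv_one, one_mul] at h5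
      exact hσA h5
  have hx2 : x ^ 2 = 1 := by
    rw [pow_two]
    exact hxx
  exact Cfsg.Agent.Lib.Helper54.nonempty_mulEquiv_dihedralGroup hx2 ha4 hcard hxa hconj

end klein

section dihedral

variable {ι : Type} [Fintype ι] [DecidableEq ι] {F : Type*} [Field F] [Fintype F]

set_option maxHeartbeats 2000000 in
/-- `pgoAut / Inn(PΩ)` is dihedral of order eight when `-1 ∈ Ω` (even dimension, odd
characteristic), given a similarity with non-square multiplier. -/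
theorem exists_hom_pgoAut_inn_dihedral (h2 : (2 : F) ≠ 0) (Q : QuadraticForm F (ι → F))
    (hQ : (QuadraticMap.polarBilin Q).Nondegenerate)
    (E : Submodule F (ι → F)) (hE : 3 ≤ finrank F E) (hE0 : ∀ x ∈ E, Q x = 0) (k : ℕ)
    (hk : Fintype.card ι = 2 * k)
    (hsim : ∃ g : GL ι F, ∃ c : F, ¬ IsSquare c ∧
      ∀ v, Q ((g : Matrix ι ι F) *ᵥ v) = c * Q v)
    (hneg : ∃ g : ↥(Cfsg.isometryGroup F ⇑Q), g ∈ Cfsg.Omega F ⇑Q ∧
      ((g : GL ι F) : Matrix ι ι F) = -1) :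
    ∃ φ : ↥(Cfsg.pgoAut F ⇑Q) →* DihedralGroup 4, Function.Surjective φ ∧
      φ.ker = (Cfsg.Inn (Cfsg.POmega F ⇑Q)).subgroupOf (Cfsg.pgoAut F ⇑Q) := by
  have hdim : 6 ≤ finrank F (ι → F) := by
    have := two_mul_finrank_le_of_ts hQ hE0
    omega
  obtain ⟨u₀, hu₀⟩ := exists_quad_ne_zero Q hQ (by omega)
  obtain ⟨g, c, hc, hgc⟩ := hsim
  have hc0 : c ≠ 0 := fun h => hc ⟨0, by simp [h]⟩
  obtain ⟨g₁, hg₁⟩ : ∃ g₁ : ↥(Cfsg.Geo.quadSimilarityGroup (F := F) ⇑Q),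
      g₁ = ⟨(reflElt Q hQ u₀ hu₀ : GL ι F), isometryGroup_le_sim _ (reflElt Q hQ u₀ hu₀).2⟩ :=
    ⟨_, rfl⟩
  obtain ⟨g₂, hg₂⟩ : ∃ g₂ : ↥(Cfsg.Geo.quadSimilarityGroup (F := F) ⇑Q),
      g₂ = ⟨g, ⟨Units.mk0 c hc0, hgc⟩⟩ := ⟨_, rfl⟩
  have hg₁mat : ((g₁ : GL ι F) : Matrix ι ι F) = Cfsg.reflectionMatrix ⇑Q u₀ := by
    rw [hg₁]
    rfl
  have hg₂sim : ∀ v, Q (((g₂ : GL ι F) : Matrix ι ι F) *ᵥ v) = c * Q v := by
    rw [hg₂]
    exact hgc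
  -- characters
  obtain ⟨χ, hχ⟩ : ∃ χ : ↥(Cfsg.Geo.quadSimilarityGroup (F := F) ⇑Q) →*
      Multiplicative (ZMod 2 × ZMod 2), χ = simChar h2 Q hQ ⟨u₀, hu₀⟩ k hk := ⟨_, rfl⟩
  obtain ⟨σ, hσ⟩ : ∃ σ : ↥(Cfsg.Geo.quadSimilarityGroup (F := F) ⇑Q) →*
      Multiplicative (ZMod 2), σ = sqChar ⇑Q ⟨u₀, hu₀⟩ := ⟨_, rfl⟩
  have hχiff : ∀ g, χ g = 1 ↔ simAut ⇑Q g ∈ Cfsg.psoAut F ⇑Q := by
    intro g
    rw [hχ]
    exact simChar_eq_one_iff_mem_psoAut h2 Q hQ ⟨u₀, hu₀⟩ E hE hE0 k hk g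
  have hχσ : ∀ g, χ g = 1 → σ g = 1 := by
    intro g hg
    rw [hχ] at hg
    rw [hσ]
    exact ((pairHom_eq_one_iff _ _ g).mp hg).1
  have hmu1 : (simMult ⇑Q g₁ : F) = 1 := by
    apply simMult_unique ⇑Q ⟨u₀, hu₀⟩
    intro v
    rw [hg₁, one_mul]
    exact isom_preserves (reflElt Q hQ u₀ hu₀) v
  have hσ1 : σ g₁ = 1 := by
    rw [hσ, sqChar_eq_one_iff, hmu1]
    exact ⟨1, by rw [mul_one]⟩
  have hσ2 : σ g₂ ≠ 1 := by
    rw [hσ, Ne, sqChar_eq_one_iff, simMult_unique ⇑Q ⟨u₀, hu₀⟩ g₂ c hg₂sim]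
    exact hc
  have hχ1 : χ g₁ ≠ 1 := by
    rw [hχ, Ne, simChar_eq_one_iff, hmu1, hg₁mat, det_reflectionMatrix Q hu₀, one_pow]
    rintro ⟨-, h⟩
    apply h2
    linear_combination -h
  -- the quotient
  have hmem : ∀ g, simAut ⇑Q g ∈ Cfsg.pgoAut F ⇑Q := by
    intro g
    rw [pgoAut_eq_range]
    exact ⟨g, rfl⟩
  obtain ⟨Ψ, hΨ⟩ : ∃ Ψ : ↥(Cfsg.Geo.quadSimilarityGroup (F := F) ⇑Q) →* ↥(Cfsg.pgoAut F ⇑Q),
      Ψ = (simAut ⇑Q).codRestrict (Cfsg.pgoAut F ⇑Q) hmem := ⟨_, rfl⟩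
  have hΨcoe : ∀ g, ((Ψ g : ↥(Cfsg.pgoAut F ⇑Q)) : MulAut (Cfsg.POmega F ⇑Q)) = simAut ⇑Q g := by
    intro g
    rw [hΨ]
    rfl
  have hΨsurj : Function.Surjective Ψ := by
    rintro ⟨β, hβ⟩
    have hβ' := hβ
    rw [pgoAut_eq_range] at hβ'
    obtain ⟨g, rfl⟩ := hβ'
    exact ⟨g, Subtype.ext (hΨcoe g)⟩
  obtain ⟨N, hN⟩ : ∃ N : Subgroup ↥(Cfsg.pgoAut F ⇑Q),
      N = (Cfsg.Inn (Cfsg.POmega F ⇑Q)).subgroupOf (Cfsg.pgoAut F ⇑Q) := ⟨_, rfl⟩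
  have hNn : N.Normal := by
    rw [hN]
    infer_instance
  obtain ⟨Θ, hΘ⟩ : ∃ Θ : ↥(Cfsg.Geo.quadSimilarityGroup (F := F) ⇑Q) →*
      ↥(Cfsg.pgoAut F ⇑Q) ⧸ N, Θ = (QuotientGroup.mk' N).comp Ψ := ⟨_, rfl⟩
  have K1 : ∀ g, Θ g = 1 ↔ simAut ⇑Q g ∈ Cfsg.Inn (Cfsg.POmega F ⇑Q) := by
    intro g
    rw [hΘ, MonoidHom.comp_apply, QuotientGroup.mk'_apply, QuotientGroup.eq_one_iff, hN,
      Subgroup.mem_subgroupOf, hΨcoe]
  have K2 : ∀ g, Θ g = 1 → χ g = 1 :=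
    fun g hg => (hχiff g).mpr (inn_le_psoAut _ ((K1 g).mp hg))
  have hrel2 : (Cfsg.Inn (Cfsg.POmega F ⇑Q)).relIndex (Cfsg.psoAut F ⇑Q) = 2 :=
    (relIndex_inn_psoAut h2 Q hQ E hE hE0 ⟨k, by rw [hk]; ring⟩).1 hneg
  have K3 : ∀ g g', χ g = 1 → χ g' = 1 → Θ g ≠ 1 → Θ g' ≠ 1 → Θ (g * g') = 1 := by
    intro g g' hg hg' hng hng'
    rw [Ne, K1] at hng hng'
    rw [K1]
    rw [hχiff] at hg hg'
    have hidx : ((Cfsg.Inn (Cfsg.POmega F ⇑Q)).subgroupOf (Cfsg.psoAut F ⇑Q)).index = 2 := hrel2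
    have h3 := Subgroup.mul_mem_iff_of_index_two hidx
      (a := (⟨simAut ⇑Q g, hg⟩ : ↥(Cfsg.psoAut F ⇑Q))) (b := ⟨simAut ⇑Q g', hg'⟩)
    have h4 := h3.mpr ⟨fun h => (hng (Subgroup.mem_subgroupOf.mp h)).elim,
      fun h => (hng' (Subgroup.mem_subgroupOf.mp h)).elim⟩
    rw [map_mul]
    exact Subgroup.mem_subgroupOf.mp h4
  have hcard : Nat.card (↥(Cfsg.pgoAut F ⇑Q) ⧸ N) = 2 * 4 := by
    obtain ⟨φ₀, hφ₀surj, hφ₀ker⟩ :=
      exists_hom_pgoAut_psoAut h2 Q hQ E hE hE0 k hk ⟨g, c, hc, hgc⟩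
    have hrel4 : (Cfsg.psoAut F ⇑Q).relIndex (Cfsg.pgoAut F ⇑Q) = 4 := by
      show ((Cfsg.psoAut F ⇑Q).subgroupOf (Cfsg.pgoAut F ⇑Q)).index = 4
      rw [← hφ₀ker, Subgroup.index_ker, MonoidHom.range_eq_top.mpr hφ₀surj, Subgroup.card_top,
        Nat.card_eq_fintype_card]
      rfl
    have h8 := Subgroup.relIndex_mul_relIndex _ _ _ (inn_le_psoAut ⇑Q) (psoAut_le_pgoAut ⇑Q)
    rw [hrel2, hrel4] at h8
    rw [hN]
    exact h8.symm
  have : Finite (↥(Cfsg.pgoAut F ⇑Q) ⧸ N) :=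
    Nat.finite_of_card_ne_zero (by rw [hcard]; norm_num)
  have hg₁sq : g₁ * g₁ = 1 := by
    apply Subtype.ext
    apply Units.ext
    rw [Subgroup.coe_mul, Units.val_mul, hg₁mat, reflectionMatrix_mul_self Q hu₀]
    rfl
  have hT1 : Θ (g₂ * g₁ * g₂⁻¹ * g₁⁻¹) ≠ 1 := by
    rw [Ne, K1]
    exact simAut_comm_not_mem_inn h2 Q hQ E hE hE0 hneg g₂ g₁ c hc hg₂sim u₀ hu₀ hg₁mat
  obtain ⟨e⟩ := dihedral_of_data Θ χ σ hcard K2 K3 hχσ g₁ g₂ hg₁sq hσ1 hσ2 hχ1 hT1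
  refine ⟨e.toMonoidHom.comp (QuotientGroup.mk' N), ?_, ?_⟩
  · exact e.surjective.comp (QuotientGroup.mk'_surjective N)
  · rw [← hN]
    ext β
    rw [MonoidHom.mem_ker, MonoidHom.comp_apply, MulEquiv.coe_toMonoidHom,
      MulEquiv.map_eq_one_iff, QuotientGroup.mk'_apply, QuotientGroup.eq_one_iff]

/-- `pgoAut / Inn(PΩ)` is elementary abelian of order four when `-1 ∉ Ω` (even dimension, odd
characteristic), given a similarity with non-square multiplier. -/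
theorem exists_hom_pgoAut_inn_klein (h2 : (2 : F) ≠ 0) (Q : QuadraticForm F (ι → F))
    (hQ : (QuadraticMap.polarBilin Q).Nondegenerate)
    (E : Submodule F (ι → F)) (hE : 3 ≤ finrank F E) (hE0 : ∀ x ∈ E, Q x = 0) (k : ℕ)
    (hk : Fintype.card ι = 2 * k)
    (hsim : ∃ g : GL ι F, ∃ c : F, ¬ IsSquare c ∧
      ∀ v, Q ((g : Matrix ι ι F) *ᵥ v) = c * Q v)
    (hneg : ¬ ∃ g : ↥(Cfsg.isometryGroup F ⇑Q), g ∈ Cfsg.Omega F ⇑Q ∧
      ((g : GL ι F) : Matrix ι ι F) = -1) :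
    ∃ φ : ↥(Cfsg.pgoAut F ⇑Q) →* Multiplicative (ZMod 2 × ZMod 2), Function.Surjective φ ∧
      φ.ker = (Cfsg.Inn (Cfsg.POmega F ⇑Q)).subgroupOf (Cfsg.pgoAut F ⇑Q) := by
  have hrel1 : (Cfsg.Inn (Cfsg.POmega F ⇑Q)).relIndex (Cfsg.psoAut F ⇑Q) = 1 :=
    (relIndex_inn_psoAut h2 Q hQ E hE hE0 ⟨k, by rw [hk]; ring⟩).2 hneg
  have heq : Cfsg.Inn (Cfsg.POmega F ⇑Q) = Cfsg.psoAut F ⇑Q :=
    le_antisymm (inn_le_psoAut _) (Subgroup.relIndex_eq_one.mp hrel1)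
  rw [heq]
  exact exists_hom_pgoAut_psoAut h2 Q hQ E hE hE0 k hk hsim

/-- Function-level version of `exists_hom_pgoAut_inn_dihedral`, with a linear similarity. -/
theorem exists_hom_pgoAut_inn_dihedral_fun (h2 : (2 : F) ≠ 0) (Q : QuadraticForm F (ι → F))
    (hQ : (QuadraticMap.polarBilin Q).Nondegenerate) (Qf : (ι → F) → F) (hQf : ⇑Q = Qf)
    (E : Submodule F (ι → F)) (hE : 3 ≤ finrank F E) (hE0 : ∀ x ∈ E, Q x = 0) (k : ℕ)
    (hk : Fintype.card ι = 2 * k)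
    (f : (ι → F) →ₗ[F] (ι → F)) (c : F) (hc : ¬ IsSquare c) (hf : ∀ v, Qf (f v) = c * Qf v)
    (hneg : ∃ g : ↥(Cfsg.isometryGroup F Qf), g ∈ Cfsg.Omega F Qf ∧
      ((g : GL ι F) : Matrix ι ι F) = -1) :
    ∃ φ : ↥(Cfsg.pgoAut F Qf) →* DihedralGroup 4, Function.Surjective φ ∧
      φ.ker = (Cfsg.Inn (Cfsg.POmega F Qf)).subgroupOf (Cfsg.pgoAut F Qf) := by
  subst hQf
  have hc0 : c ≠ 0 := fun h => hc ⟨0, by simp [h]⟩
  obtain ⟨g, hg⟩ := exists_gl_of_sim_lin Q hQ f c hc0 hf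
  exact exists_hom_pgoAut_inn_dihedral h2 Q hQ E hE hE0 k hk ⟨g, c, hc, hg⟩ hneg

/-- Function-level version of `exists_hom_pgoAut_inn_klein`, with a linear similarity. -/
theorem exists_hom_pgoAut_inn_klein_fun (h2 : (2 : F) ≠ 0) (Q : QuadraticForm F (ι → F))
    (hQ : (QuadraticMap.polarBilin Q).Nondegenerate) (Qf : (ι → F) → F) (hQf : ⇑Q = Qf)
    (E : Submodule F (ι → F)) (hE : 3 ≤ finrank F E) (hE0 : ∀ x ∈ E, Q x = 0) (k : ℕ)
    (hk : Fintype.card ι = 2 * k)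
    (f : (ι → F) →ₗ[F] (ι → F)) (c : F) (hc : ¬ IsSquare c) (hf : ∀ v, Qf (f v) = c * Qf v)
    (hneg : ¬ ∃ g : ↥(Cfsg.isometryGroup F Qf), g ∈ Cfsg.Omega F Qf ∧
      ((g : GL ι F) : Matrix ι ι F) = -1) :
    ∃ φ : ↥(Cfsg.pgoAut F Qf) →* Multiplicative (ZMod 2 × ZMod 2), Function.Surjective φ ∧
      φ.ker = (Cfsg.Inn (Cfsg.POmega F Qf)).subgroupOf (Cfsg.pgoAut F Qf) := by
  subst hQf
  have hc0 : c ≠ 0 := fun h => hc ⟨0, by simp [h]⟩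
  obtain ⟨g, hg⟩ := exists_gl_of_sim_lin Q hQ f c hc0 hf
  exact exists_hom_pgoAut_inn_klein h2 Q hQ E hE hE0 k hk ⟨g, c, hc, hg⟩ hneg

end dihedral

end Cfsg.Agent.Lib.Helper44
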