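import Mathlib
import Cfsg.Prelude.Def_LieTypeDatum
import Cfsg.Agent.Lib.Helper44.PgoInn
import Cfsg.Agent.Lib.Helper44.MinusSim
import Cfsg.Agent.Lib.Helper14.OmegaInv
import Cfsg.Agent.Lib.Helper14.POmegaOrder
import Cfsg.Agent.Lib.Helper14.Forms

/-!
The plus- and minus-type forms: totally singular subspaces, similarities with non-square
multiplier, the criterion for `-1 ∈ Ω`, and the structure of `pgoAut / Inn(PΩ)`.
-/

set_option autoImplicit false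

namespace Cfsg.Agent.Lib.Helper44

open Matrix Module
open Cfsg.Agent.Lib.Helper14

section inst

variable {F : Type*} [Field F] [Fintype F]

omit [Fintype F] in
theorem plus_ts_three (m : ℕ) (hm : 3 ≤ m) :
    ∃ E : Submodule F (Fin m ⊕ Fin m → F), 3 ≤ finrank F E ∧ ∀ x ∈ E, plusQF m F x = 0 :=
  exists_ts_three (plusQF m F)
    (fun j : Fin 3 => Sum.inl ⟨j, by omega⟩) (fun j : Fin 3 => Sum.inr ⟨j, by omega⟩)
    (fun j => by rw [plusQF_coe]; exact plus_isHypPair m F _)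
    (by
      intro i j h
      have := Sum.inl.inj h
      rw [Fin.mk.injEq] at this
      exact Fin.ext this)
    (by intro i j h; exact Sum.inl_ne_inr h)

omit [Fintype F] in
theorem minus_ts_three (m : ℕ) (hm : 3 ≤ m) (a b : F) :
    ∃ E : Submodule F ((Fin m ⊕ Fin m) ⊕ Fin 2 → F), 3 ≤ finrank F E ∧
      ∀ x ∈ E, minusQF m F a b x = 0 :=
  exists_ts_three (minusQF m F a b)
    (fun j : Fin 3 => Sum.inl (Sum.inl ⟨j, by omega⟩))
    (fun j : Fin 3 => Sum.inl (Sum.inr ⟨j, by omega⟩))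
    (fun j => by rw [minusQF_coe]; exact minus_isHypPair m F a b _)
    (by
      intro i j h
      have := Sum.inl.inj (Sum.inl.inj h)
      rw [Fin.mk.injEq] at this
      exact Fin.ext this)
    (by intro i j h; exact Sum.inl_ne_inr (Sum.inl.inj h))

theorem plus_card (m : ℕ) : Fintype.card (Fin m ⊕ Fin m) = 2 * m := by
  rw [Fintype.card_sum, Fintype.card_fin]
  ring

theorem minus_card (m : ℕ) : Fintype.card ((Fin m ⊕ Fin m) ⊕ Fin 2) = 2 * (m + 1) := by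
  rw [Fintype.card_sum, Fintype.card_sum, Fintype.card_fin, Fintype.card_fin]
  ring

/-- A similarity of the plus-type form with non-square multiplier. -/
theorem plus_sim (h2 : (2 : F) ≠ 0) (m : ℕ) :
    ∃ (f : (Fin m ⊕ Fin m → F) →ₗ[F] (Fin m ⊕ Fin m → F)) (c : F), ¬ IsSquare c ∧
      ∀ v, Cfsg.quadFormPlus m F (f v) = c * Cfsg.quadFormPlus m F v := by
  obtain ⟨c, hc⟩ := exists_not_isSquare h2
  obtain ⟨f, hf⟩ : ∃ f : (Fin m ⊕ Fin m → F) →ₗ[F] (Fin m ⊕ Fin m → F),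
      ∀ v, f v = fun j => Sum.elim (fun _ => c) (fun _ => (1 : F)) j * v j :=
    ⟨{ toFun := fun v j => Sum.elim (fun _ => c) (fun _ => (1 : F)) j * v j
       map_add' := by
         intro v w
         funext j
         simp only [Pi.add_apply]
         ring
       map_smul' := by
         intro t v
         funext j
         simp only [Pi.smul_apply, smul_eq_mul, RingHom.id_apply]
         ring }, fun v => rfl⟩
  refine ⟨f, c, hc, ?_⟩
  intro v
  rw [hf]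
  unfold Cfsg.quadFormPlus
  simp only [Sum.elim_inl, Sum.elim_inr, one_mul]
  rw [Finset.mul_sum]
  apply Finset.sum_congr rfl
  intro i _
  ring

/-- A similarity of the minus-type form with non-square multiplier. -/
theorem minus_sim (h2 : (2 : F) ≠ 0) (m : ℕ) (a b : F)
    (hab : ∀ z₁ z₂ : F, z₁ ^ 2 + a * z₁ * z₂ + b * z₂ ^ 2 = 0 → z₁ = 0 ∧ z₂ = 0) :
    ∃ (f : ((Fin m ⊕ Fin m) ⊕ Fin 2 → F) →ₗ[F] ((Fin m ⊕ Fin m) ⊕ Fin 2 → F)) (c : F),
      ¬ IsSquare c ∧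
      ∀ v, Cfsg.quadFormMinus m F a b (f v) = c * Cfsg.quadFormMinus m F a b v := by
  obtain ⟨w, c, hc, hw⟩ := exists_norm_not_isSquare h2 a b hab
  exact ⟨minusSimLin m a b c w, c, hc, fun v => minusSimFun_quad m a b c w hw v⟩

/-- `-1 ∈ Ω⁺_{2m}(q)` iff not (`m` odd and `q ≡ 3 (mod 4)`). -/
theorem plus_neg_one_iff (hodd : Odd (Fintype.card F)) (m : ℕ) :
    (∃ g : ↥(Cfsg.isometryGroup F (Cfsg.quadFormPlus m F)),
      g ∈ Cfsg.Omega F (Cfsg.quadFormPlus m F) ∧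
      ((g : Matrix.GeneralLinearGroup (Fin m ⊕ Fin m) F) :
        Matrix (Fin m ⊕ Fin m) (Fin m ⊕ Fin m) F) = -1) ↔
      ¬ (Odd m ∧ Fintype.card F % 4 = 3) := by
  have hiff := neg_one_mem_omega_plus_iff' (F := F) rfl hodd m
  rw [pow_mod_four_eq_one_iff hodd] at hiff
  exact hiff

/-- `-1 ∈ Ω⁻_{2m+2}(q)` iff `m` even and `q ≡ 3 (mod 4)`. -/
theorem minus_neg_one_iff (hodd : Odd (Fintype.card F)) (m : ℕ) (a b : F)
    (hab : ∀ z₁ z₂ : F, z₁ ^ 2 + a * z₁ * z₂ + b * z₂ ^ 2 = 0 → z₁ = 0 ∧ z₂ = 0) :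
    (∃ g : ↥(Cfsg.isometryGroup F (Cfsg.quadFormMinus m F a b)),
      g ∈ Cfsg.Omega F (Cfsg.quadFormMinus m F a b) ∧
      ((g : Matrix.GeneralLinearGroup ((Fin m ⊕ Fin m) ⊕ Fin 2) F) :
        Matrix ((Fin m ⊕ Fin m) ⊕ Fin 2) ((Fin m ⊕ Fin m) ⊕ Fin 2) F) = -1) ↔
      (Even m ∧ Fintype.card F % 4 = 3) := by
  have hiff := neg_one_mem_omega_minus_iff' (F := F) rfl hodd m a b hab
  rw [pow_mod_four_eq_three_iff hodd] at hiff
  have hpar : Odd (m + 1) ↔ Even m := by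
    rw [Nat.odd_add_one, Nat.not_odd_iff_even]
  rw [hpar] at hiff
  exact hiff

theorem plus_pgo_inn_dihedral (hodd : Odd (Fintype.card F)) (m : ℕ) (hm : 3 ≤ m)
    (h : ¬ (Odd m ∧ Fintype.card F % 4 = 3)) :
    ∃ φ : ↥(Cfsg.pgoAut F (Cfsg.quadFormPlus m F)) →* DihedralGroup 4, Function.Surjective φ ∧
      φ.ker = (Cfsg.Inn (Cfsg.POmega F (Cfsg.quadFormPlus m F))).subgroupOf
        (Cfsg.pgoAut F (Cfsg.quadFormPlus m F)) := by
  have h2 : (2 : F) ≠ 0 := two_ne_zero_of_card_odd hodd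
  obtain ⟨E, hE, hE0⟩ := plus_ts_three (F := F) m hm
  obtain ⟨f, c, hc, hf⟩ := plus_sim h2 m
  exact exists_hom_pgoAut_inn_dihedral_fun h2 (plusQF m F) (plusQF_nondegenerate m F)
    _ (plusQF_coe m F) E hE hE0 m (plus_card m) f c hc hf ((plus_neg_one_iff hodd m).mpr h)

theorem plus_pgo_inn_klein (hodd : Odd (Fintype.card F)) (m : ℕ) (hm : 3 ≤ m)
    (h : Odd m ∧ Fintype.card F % 4 = 3) :
    ∃ φ : ↥(Cfsg.pgoAut F (Cfsg.quadFormPlus m F)) →* Multiplicative (ZMod 2 × ZMod 2),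
      Function.Surjective φ ∧
      φ.ker = (Cfsg.Inn (Cfsg.POmega F (Cfsg.quadFormPlus m F))).subgroupOf
        (Cfsg.pgoAut F (Cfsg.quadFormPlus m F)) := by
  have h2 : (2 : F) ≠ 0 := two_ne_zero_of_card_odd hodd
  obtain ⟨E, hE, hE0⟩ := plus_ts_three (F := F) m hm
  obtain ⟨f, c, hc, hf⟩ := plus_sim h2 m
  exact exists_hom_pgoAut_inn_klein_fun h2 (plusQF m F) (plusQF_nondegenerate m F)
    _ (plusQF_coe m F) E hE hE0 m (plus_card m) f c hc hf
    (fun hex => ((plus_neg_one_iff hodd m).mp hex) h)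

theorem minus_pgo_inn_dihedral (hodd : Odd (Fintype.card F)) (m : ℕ) (hm : 3 ≤ m) (a b : F)
    (hab : ∀ z₁ z₂ : F, z₁ ^ 2 + a * z₁ * z₂ + b * z₂ ^ 2 = 0 → z₁ = 0 ∧ z₂ = 0)
    (h : Even m ∧ Fintype.card F % 4 = 3) :
    ∃ φ : ↥(Cfsg.pgoAut F (Cfsg.quadFormMinus m F a b)) →* DihedralGroup 4,
      Function.Surjective φ ∧
      φ.ker = (Cfsg.Inn (Cfsg.POmega F (Cfsg.quadFormMinus m F a b))).subgroupOf
        (Cfsg.pgoAut F (Cfsg.quadFormMinus m F a b)) := by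
  have h2 : (2 : F) ≠ 0 := two_ne_zero_of_card_odd hodd
  obtain ⟨E, hE, hE0⟩ := minus_ts_three (F := F) m hm a b
  obtain ⟨f, c, hc, hf⟩ := minus_sim h2 m a b hab
  exact exists_hom_pgoAut_inn_dihedral_fun h2 (minusQF m F a b)
    (minusQF_nondegenerate m F h2 a b hab)
    _ (minusQF_coe m F a b) E hE hE0 (m + 1) (minus_card m) f c hc hf
    ((minus_neg_one_iff hodd m a b hab).mpr h)

theorem minus_pgo_inn_klein (hodd : Odd (Fintype.card F)) (m : ℕ) (hm : 3 ≤ m) (a b : F)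
    (hab : ∀ z₁ z₂ : F, z₁ ^ 2 + a * z₁ * z₂ + b * z₂ ^ 2 = 0 → z₁ = 0 ∧ z₂ = 0)
    (h : ¬ (Even m ∧ Fintype.card F % 4 = 3)) :
    ∃ φ : ↥(Cfsg.pgoAut F (Cfsg.quadFormMinus m F a b)) →* Multiplicative (ZMod 2 × ZMod 2),
      Function.Surjective φ ∧
      φ.ker = (Cfsg.Inn (Cfsg.POmega F (Cfsg.quadFormMinus m F a b))).subgroupOf
        (Cfsg.pgoAut F (Cfsg.quadFormMinus m F a b)) := by
  have h2 : (2 : F) ≠ 0 := two_ne_zero_of_card_odd hodd
  obtain ⟨E, hE, hE0⟩ := minus_ts_three (F := F) m hm a b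
  obtain ⟨f, c, hc, hf⟩ := minus_sim h2 m a b hab
  exact exists_hom_pgoAut_inn_klein_fun h2 (minusQF m F a b)
    (minusQF_nondegenerate m F h2 a b hab)
    _ (minusQF_coe m F a b) E hE hE0 (m + 1) (minus_card m) f c hc hf
    (fun hex => h ((minus_neg_one_iff hodd m a b hab).mp hex))

end inst

end Cfsg.Agent.Lib.Helper44
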