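import Mathlib
import Cfsg.Prelude.Def_LieTypeDatum
import Cfsg.Agent.Lib.Helper44.PgoInn

/-!
The image in `Aut(PΩ(Q))` of the similarities with `det = μ^k` (dimension `2k`, odd characteristic),
modulo the inner automorphisms: cyclic of order two if `-1 ∉ Ω`; cyclic of order four or a Klein
four-group if `-1 ∈ Ω`.
-/

set_option autoImplicit false

namespace Cfsg.Agent.Lib.Helper44

open Matrix Module Subgroup
open Cfsg.Agent.Lib.Helper14

section abstract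

/-- A group of order four with two distinct involutions is a Klein four-group. -/
theorem isKleinFour_of_two_involutions {Γ : Type*} [Group Γ] (hcard : Nat.card Γ = 4) (a b : Γ)
    (ha : a ≠ 1) (hb : b ≠ 1) (hab : a ≠ b) (ha2 : a * a = 1) (hb2 : b * b = 1) :
    IsKleinFour Γ := by
  have hfin : Finite Γ := Nat.finite_of_card_ne_zero (by rw [hcard]; norm_num)
  have hall : ∀ x : Γ, x ^ 2 = 1 := by
    intro x
    by_contra hx
    have h4 : x ^ 2 ^ (1 + 1) = 1 := by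
      have := pow_card_eq_one' (x := x)
      rw [hcard] at this
      exact this
    have hord : orderOf x = Nat.card Γ := by
      rw [hcard]
      have := orderOf_eq_prime_pow (p := 2) (n := 1) (x := x) (by rwa [pow_one]) h4
      rw [this]
      norm_num
    have hcyc := isCyclic_of_orderOf_eq_card x hord
    classical
    let _ := Fintype.ofFinite Γ
    have hle := IsCyclic.card_pow_eq_one_le (α := Γ) (n := 2) (by norm_num)
    have hsub : ({1, a, b} : Finset Γ) ⊆ Finset.univ.filter (fun g : Γ => g ^ 2 = 1) := by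
      intro g hg
      rw [Finset.mem_insert, Finset.mem_insert, Finset.mem_singleton] at hg
      rw [Finset.mem_filter]
      refine ⟨Finset.mem_univ _, ?_⟩
      rcases hg with rfl | rfl | rfl
      · exact one_pow 2
      · rw [pow_two]; exact ha2
      · rw [pow_two]; exact hb2
    have h3 : ({1, a, b} : Finset Γ).card = 3 := by
      rw [Finset.card_insert_of_notMem, Finset.card_insert_of_notMem, Finset.card_singleton]
      · rw [Finset.mem_singleton]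
        exact hab
      · rw [Finset.mem_insert, Finset.mem_singleton]
        rintro (h | h)
        · exact ha h.symm
        · exact hb h.symm
    have := Finset.card_le_card hsub
    omega
  refine ⟨hcard, ?_⟩
  have hdvd : Monoid.exponent Γ ∣ 2 := Monoid.exponent_dvd_of_forall_pow_eq_one hall
  rcases (Nat.dvd_prime Nat.prime_two).mp hdvd with h | h
  · exfalso
    have hsub : Subsingleton Γ := Monoid.exp_eq_one_iff.mp h
    exact ha (Subsingleton.elim a 1)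
  · exact h

/-- A group of order four with two distinct involutions is isomorphic to `(Z/2)²`. -/
theorem nonempty_mulEquiv_klein {Γ : Type*} [Group Γ] (hcard : Nat.card Γ = 4) (a b : Γ)
    (ha : a ≠ 1) (hb : b ≠ 1) (hab : a ≠ b) (ha2 : a * a = 1) (hb2 : b * b = 1) :
    Nonempty (Γ ≃* Multiplicative (ZMod 2 × ZMod 2)) := by
  have := isKleinFour_of_two_involutions hcard a b ha hb hab ha2 hb2
  exact IsKleinFour.nonempty_mulEquiv

/-- A group of order four with an element whose square is not one is cyclic of order four. -/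
theorem nonempty_mulEquiv_zmod_four {Γ : Type*} [Group Γ] (hcard : Nat.card Γ = 4) (a : Γ)
    (ha : a * a ≠ 1) : Nonempty (Γ ≃* Multiplicative (ZMod 4)) := by
  have hfin : Finite Γ := Nat.finite_of_card_ne_zero (by rw [hcard]; norm_num)
  have h4 : a ^ 2 ^ (1 + 1) = 1 := by
    have := pow_card_eq_one' (x := a)
    rw [hcard] at this
    exact this
  have hord : orderOf a = Nat.card Γ := by
    rw [hcard]
    have := orderOf_eq_prime_pow (p := 2) (n := 1) (x := a) (by rwa [pow_one, pow_two]) h4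
    rw [this]
    norm_num
  have hcyc := isCyclic_of_orderOf_eq_card a hord
  have e := zmodCyclicMulEquiv hcyc
  rw [hcard] at e
  exact ⟨e.symm⟩

/-- A group of order two is isomorphic to `Z/2`. -/
theorem zmod_two_cases : ∀ y : Multiplicative (ZMod 2), y = 1 ∨ y = Multiplicative.ofAdd 1 := by
  decide

end abstract

section pred

variable {ι : Type} [Fintype ι] [DecidableEq ι] {F : Type*} [Field F]

/-- The subgroup of `Aut(PΩ)` generated by the automorphisms induced by the similarities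
satisfying a predicate cutting out a subgroup `K` is the image of `K`. -/
theorem closure_induced_pred_eq_map (Qf : (ι → F) → F) (P : Matrix ι ι F → Prop)
    (K : Subgroup ↥(Cfsg.Geo.quadSimilarityGroup (F := F) Qf))
    (hP : ∀ g : ↥(Cfsg.Geo.quadSimilarityGroup (F := F) Qf),
      P ((g : GL ι F) : Matrix ι ι F) ↔ g ∈ K) :
    Subgroup.closure {β : MulAut (Cfsg.POmega F Qf) | ∃ g : GL ι F,
        g ∈ Cfsg.Geo.quadSimilarityGroup (F := F) Qf ∧ P (g : Matrix ι ι F) ∧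
        Cfsg.IsInducedBySemilinearPOmega Qf g (RingEquiv.refl F) β} = K.map (simAut Qf) := by
  have hset : {β : MulAut (Cfsg.POmega F Qf) | ∃ g : GL ι F,
        g ∈ Cfsg.Geo.quadSimilarityGroup (F := F) Qf ∧ P (g : Matrix ι ι F) ∧
        Cfsg.IsInducedBySemilinearPOmega Qf g (RingEquiv.refl F) β} =
      ((K.map (simAut Qf) : Subgroup (MulAut (Cfsg.POmega F Qf))) :
        Set (MulAut (Cfsg.POmega F Qf))) := by
    ext β
    constructor
    · rintro ⟨g, hg, hPg, hind⟩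
      refine ⟨⟨g, hg⟩, (hP ⟨g, hg⟩).mp hPg, ?_⟩
      apply MulEquiv.ext
      intro q
      obtain ⟨s, rfl⟩ := QuotientGroup.mk_surjective q
      rw [simAut_mk]
      symm
      apply hind
      rw [simConj_coe, map_refl_eq]
    · rintro ⟨g, hg, rfl⟩
      refine ⟨(g : GL ι F), g.2, (hP g).mpr hg, ?_⟩
      intro s s' hs'
      rw [simAut_mk]
      congr 1
      apply Subtype.ext
      apply isom_ext
      rw [hs', simConj_coe, map_refl_eq]
  rw [hset, Subgroup.closure_eq]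

end pred

section diag

variable {ι : Type} [Fintype ι] [DecidableEq ι] {F : Type*} [Field F] [Fintype F]

/-- The similarities with `det = μ^k`. -/
noncomputable def detKer (h2 : (2 : F) ≠ 0) (Q : QuadraticForm F (ι → F))
    (hQ : (QuadraticMap.polarBilin Q).Nondegenerate) (hne : ∃ v, Q v ≠ 0) (k : ℕ)
    (hk : Fintype.card ι = 2 * k) : Subgroup ↥(Cfsg.Geo.quadSimilarityGroup (F := F) ⇑Q) :=
  (detChar h2 Q hQ hne k hk).ker

/-- The image in `Aut(PΩ)` of the similarities with `det = μ^k`. -/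
noncomputable def diagAut (h2 : (2 : F) ≠ 0) (Q : QuadraticForm F (ι → F))
    (hQ : (QuadraticMap.polarBilin Q).Nondegenerate) (hne : ∃ v, Q v ≠ 0) (k : ℕ)
    (hk : Fintype.card ι = 2 * k) : Subgroup (MulAut (Cfsg.POmega F ⇑Q)) :=
  (detKer h2 Q hQ hne k hk).map (simAut ⇑Q)

omit [Fintype F] in
theorem mem_detKer_iff (h2 : (2 : F) ≠ 0) (Q : QuadraticForm F (ι → F))
    (hQ : (QuadraticMap.polarBilin Q).Nondegenerate) (hne : ∃ v, Q v ≠ 0) (k : ℕ)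
    (hk : Fintype.card ι = 2 * k) (g : ↥(Cfsg.Geo.quadSimilarityGroup (F := F) ⇑Q)) :
    g ∈ detKer h2 Q hQ hne k hk ↔
      ((g : GL ι F) : Matrix ι ι F).det = (simMult ⇑Q g : F) ^ k := by
  unfold detKer
  rw [MonoidHom.mem_ker, detChar_eq_one_iff]

theorem simChar_eq_one_iff_sq (h2 : (2 : F) ≠ 0) (Q : QuadraticForm F (ι → F))
    (hQ : (QuadraticMap.polarBilin Q).Nondegenerate) (hne : ∃ v, Q v ≠ 0) (k : ℕ)
    (hk : Fintype.card ι = 2 * k) (g : ↥(Cfsg.Geo.quadSimilarityGroup (F := F) ⇑Q))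
    (hg : g ∈ detKer h2 Q hQ hne k hk) :
    simChar h2 Q hQ hne k hk g = 1 ↔ IsSquare (simMult ⇑Q g : F) := by
  rw [simChar_eq_one_iff]
  exact ⟨fun h => h.1, fun h => ⟨h, (mem_detKer_iff h2 Q hQ hne k hk g).mp hg⟩⟩

theorem psoAut_le_diagAut (h2 : (2 : F) ≠ 0) (Q : QuadraticForm F (ι → F))
    (hQ : (QuadraticMap.polarBilin Q).Nondegenerate) (hne : ∃ v, Q v ≠ 0) (k : ℕ)
    (hk : Fintype.card ι = 2 * k) :
    Cfsg.psoAut F ⇑Q ≤ diagAut h2 Q hQ hne k hk := by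
  rw [psoAut_eq_map_sim]
  rintro β ⟨s, hs, rfl⟩
  have hs' : (s : GL ι F) ∈ Cfsg.specialIsometryGL F ⇑Q := Subgroup.mem_subgroupOf.mp hs
  have h1 := simChar_eq_one_of_SO h2 Q hQ hne k hk s hs'
  rw [simChar_eq_one_iff] at h1
  exact ⟨s, (mem_detKer_iff h2 Q hQ hne k hk s).mpr h1.2, rfl⟩

theorem inn_le_diagAut (h2 : (2 : F) ≠ 0) (Q : QuadraticForm F (ι → F))
    (hQ : (QuadraticMap.polarBilin Q).Nondegenerate) (hne : ∃ v, Q v ≠ 0) (k : ℕ)
    (hk : Fintype.card ι = 2 * k) :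
    Cfsg.Inn (Cfsg.POmega F ⇑Q) ≤ diagAut h2 Q hQ hne k hk :=
  (inn_le_psoAut _).trans (psoAut_le_diagAut h2 Q hQ hne k hk)

/-- `diagAut / psoAut` has order two: the homomorphism recording whether the multiplier is a
square. -/
theorem exists_hom_diagAut_psoAut (h2 : (2 : F) ≠ 0) (Q : QuadraticForm F (ι → F))
    (hQ : (QuadraticMap.polarBilin Q).Nondegenerate) (hne : ∃ v, Q v ≠ 0)
    (E : Submodule F (ι → F)) (hE : 3 ≤ finrank F E) (hE0 : ∀ x ∈ E, Q x = 0) (k : ℕ)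
    (hk : Fintype.card ι = 2 * k)
    (g₂ : ↥(Cfsg.Geo.quadSimilarityGroup (F := F) ⇑Q)) (hg₂ : g₂ ∈ detKer h2 Q hQ hne k hk)
    (hg₂sq : ¬ IsSquare (simMult ⇑Q g₂ : F)) :
    ∃ φ : ↥(diagAut h2 Q hQ hne k hk) →* Multiplicative (ZMod 2), Function.Surjective φ ∧
      φ.ker = (Cfsg.psoAut F ⇑Q).subgroupOf (diagAut h2 Q hQ hne k hk) ∧
      ∀ (g : ↥(Cfsg.Geo.quadSimilarityGroup (F := F) ⇑Q)) (hg : g ∈ detKer h2 Q hQ hne k hk),
        φ ⟨simAut ⇑Q g, ⟨g, hg, rfl⟩⟩ = sqChar ⇑Q hne g := by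
  have hmemD : ∀ g : ↥(detKer h2 Q hQ hne k hk),
      ((simAut ⇑Q).comp (detKer h2 Q hQ hne k hk).subtype) g ∈ diagAut h2 Q hQ hne k hk :=
    fun g => ⟨g.1, g.2, rfl⟩
  obtain ⟨Ψ, hΨ⟩ : ∃ Ψ : ↥(detKer h2 Q hQ hne k hk) →* ↥(diagAut h2 Q hQ hne k hk),
      Ψ = ((simAut ⇑Q).comp (detKer h2 Q hQ hne k hk).subtype).codRestrict
        (diagAut h2 Q hQ hne k hk) hmemD := ⟨_, rfl⟩
  have hΨcoe : ∀ g : ↥(detKer h2 Q hQ hne k hk),
      ((Ψ g : ↥(diagAut h2 Q hQ hne k hk)) : MulAut (Cfsg.POmega F ⇑Q)) = simAut ⇑Q g.1 := by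
    intro g
    rw [hΨ]
    rfl
  have hΨsurj : Function.Surjective Ψ := by
    rintro ⟨β, g, hg, rfl⟩
    exact ⟨⟨g, hg⟩, Subtype.ext (hΨcoe ⟨g, hg⟩)⟩
  obtain ⟨σ, hσ⟩ : ∃ σ : ↥(detKer h2 Q hQ hne k hk) →* Multiplicative (ZMod 2),
      σ = (sqChar ⇑Q hne).comp (detKer h2 Q hQ hne k hk).subtype := ⟨_, rfl⟩
  have hσiff : ∀ g : ↥(detKer h2 Q hQ hne k hk),
      σ g = 1 ↔ simAut ⇑Q g.1 ∈ Cfsg.psoAut F ⇑Q := by
    intro g
    rw [← simChar_eq_one_iff_mem_psoAut h2 Q hQ hne E hE hE0 k hk,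
      simChar_eq_one_iff_sq h2 Q hQ hne k hk g.1 g.2, hσ,
      MonoidHom.comp_apply, sqChar_eq_one_iff]
    rfl
  have hker : Ψ.ker ≤ σ.ker := by
    intro g hg
    rw [MonoidHom.mem_ker] at hg ⊢
    rw [hσiff]
    have h1 : simAut ⇑Q g.1 = 1 := by
      rw [← hΨcoe g, hg]
      rfl
    rw [h1]
    exact Subgroup.one_mem _
  obtain ⟨φ, hφ⟩ : ∃ φ : ↥(diagAut h2 Q hQ hne k hk) →* Multiplicative (ZMod 2),
      ∀ g, φ (Ψ g) = σ g :=
    ⟨Ψ.liftOfSurjective hΨsurj ⟨σ, hker⟩,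
      fun g => MonoidHom.liftOfRightInverse_comp_apply Ψ _ _ ⟨σ, hker⟩ g⟩
  refine ⟨φ, ?_, ?_, ?_⟩
  · intro y
    rcases zmod_two_cases y with rfl | rfl
    · exact ⟨1, map_one φ⟩
    · refine ⟨Ψ ⟨g₂, hg₂⟩, ?_⟩
      rw [hφ, hσ, MonoidHom.comp_apply]
      rcases zmod_two_cases (sqChar ⇑Q hne g₂) with h | h
      · exact absurd ((sqChar_eq_one_iff ⇑Q hne g₂).mp h) hg₂sq
      · exact h
  · ext β
    obtain ⟨g, rfl⟩ := hΨsurj β
    rw [MonoidHom.mem_ker, hφ, hσiff, Subgroup.mem_subgroupOf, hΨcoe]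
  · intro g hg
    have h1 : (⟨simAut ⇑Q g, ⟨g, hg, rfl⟩⟩ : ↥(diagAut h2 Q hQ hne k hk)) = Ψ ⟨g, hg⟩ :=
      Subtype.ext (hΨcoe ⟨g, hg⟩).symm
    rw [h1, hφ, hσ]
    rfl

/-- `diagAut / Inn` is cyclic of order two when `-1 ∉ Ω`. -/
theorem exists_hom_diagAut_inn_two (h2 : (2 : F) ≠ 0) (Q : QuadraticForm F (ι → F))
    (hQ : (QuadraticMap.polarBilin Q).Nondegenerate) (hne : ∃ v, Q v ≠ 0)
    (E : Submodule F (ι → F)) (hE : 3 ≤ finrank F E) (hE0 : ∀ x ∈ E, Q x = 0) (k : ℕ)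
    (hk : Fintype.card ι = 2 * k)
    (g₂ : ↥(Cfsg.Geo.quadSimilarityGroup (F := F) ⇑Q)) (hg₂ : g₂ ∈ detKer h2 Q hQ hne k hk)
    (hg₂sq : ¬ IsSquare (simMult ⇑Q g₂ : F))
    (hneg : ¬ ∃ g : ↥(Cfsg.isometryGroup F ⇑Q), g ∈ Cfsg.Omega F ⇑Q ∧
      ((g : GL ι F) : Matrix ι ι F) = -1) :
    ∃ φ : ↥(diagAut h2 Q hQ hne k hk) →* Multiplicative (ZMod 2), Function.Surjective φ ∧
      φ.ker = (Cfsg.Inn (Cfsg.POmega F ⇑Q)).subgroupOf (diagAut h2 Q hQ hne k hk) := by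
  have hrel1 : (Cfsg.Inn (Cfsg.POmega F ⇑Q)).relIndex (Cfsg.psoAut F ⇑Q) = 1 :=
    (relIndex_inn_psoAut h2 Q hQ E hE hE0 ⟨k, by rw [hk]; ring⟩).2 hneg
  have heq : Cfsg.Inn (Cfsg.POmega F ⇑Q) = Cfsg.psoAut F ⇑Q :=
    le_antisymm (inn_le_psoAut _) (Subgroup.relIndex_eq_one.mp hrel1)
  rw [heq]
  obtain ⟨φ, h1, h3, -⟩ := exists_hom_diagAut_psoAut h2 Q hQ hne E hE hE0 k hk g₂ hg₂ hg₂sq
  exact ⟨φ, h1, h3⟩

/-- `diagAut / Inn` has order four when `-1 ∈ Ω`. -/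
theorem card_diagAut_quot_inn (h2 : (2 : F) ≠ 0) (Q : QuadraticForm F (ι → F))
    (hQ : (QuadraticMap.polarBilin Q).Nondegenerate) (hne : ∃ v, Q v ≠ 0)
    (E : Submodule F (ι → F)) (hE : 3 ≤ finrank F E) (hE0 : ∀ x ∈ E, Q x = 0) (k : ℕ)
    (hk : Fintype.card ι = 2 * k)
    (g₂ : ↥(Cfsg.Geo.quadSimilarityGroup (F := F) ⇑Q)) (hg₂ : g₂ ∈ detKer h2 Q hQ hne k hk)
    (hg₂sq : ¬ IsSquare (simMult ⇑Q g₂ : F))
    (hneg : ∃ g : ↥(Cfsg.isometryGroup F ⇑Q), g ∈ Cfsg.Omega F ⇑Q ∧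
      ((g : GL ι F) : Matrix ι ι F) = -1) :
    (Cfsg.Inn (Cfsg.POmega F ⇑Q)).relIndex (diagAut h2 Q hQ hne k hk) = 4 := by
  have hrel2 : (Cfsg.Inn (Cfsg.POmega F ⇑Q)).relIndex (Cfsg.psoAut F ⇑Q) = 2 :=
    (relIndex_inn_psoAut h2 Q hQ E hE hE0 ⟨k, by rw [hk]; ring⟩).1 hneg
  obtain ⟨φ, hφsurj, hφker, -⟩ :=
    exists_hom_diagAut_psoAut h2 Q hQ hne E hE hE0 k hk g₂ hg₂ hg₂sq
  have hrel2' : (Cfsg.psoAut F ⇑Q).relIndex (diagAut h2 Q hQ hne k hk) = 2 := by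
    show ((Cfsg.psoAut F ⇑Q).subgroupOf (diagAut h2 Q hQ hne k hk)).index = 2
    rw [← hφker, Subgroup.index_ker, MonoidHom.range_eq_top.mpr hφsurj, Subgroup.card_top,
      Nat.card_eq_fintype_card]
    rfl
  have h4 := Subgroup.relIndex_mul_relIndex _ _ _ (inn_le_psoAut ⇑Q)
    (psoAut_le_diagAut h2 Q hQ hne k hk)
  rw [hrel2, hrel2'] at h4
  exact h4.symm

set_option maxHeartbeats 1000000 in
/-- The structure of `diagAut / Inn` when `-1 ∈ Ω`: cyclic of order four if the square of a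
similarity `g₂` with `det = μ^k` and non-square multiplier is not inner, a Klein four-group if
it is. -/
theorem exists_hom_diagAut_inn_four (h2 : (2 : F) ≠ 0) (Q : QuadraticForm F (ι → F))
    (hQ : (QuadraticMap.polarBilin Q).Nondegenerate) (hne : ∃ v, Q v ≠ 0)
    (E : Submodule F (ι → F)) (hE : 3 ≤ finrank F E) (hE0 : ∀ x ∈ E, Q x = 0) (k : ℕ)
    (hk : Fintype.card ι = 2 * k)
    (g₂ : ↥(Cfsg.Geo.quadSimilarityGroup (F := F) ⇑Q)) (hg₂ : g₂ ∈ detKer h2 Q hQ hne k hk)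
    (hg₂sq : ¬ IsSquare (simMult ⇑Q g₂ : F))
    (hneg : ∃ g : ↥(Cfsg.isometryGroup F ⇑Q), g ∈ Cfsg.Omega F ⇑Q ∧
      ((g : GL ι F) : Matrix ι ι F) = -1) :
    (simAut ⇑Q (g₂ * g₂) ∉ Cfsg.Inn (Cfsg.POmega F ⇑Q) →
      ∃ φ : ↥(diagAut h2 Q hQ hne k hk) →* Multiplicative (ZMod 4), Function.Surjective φ ∧
        φ.ker = (Cfsg.Inn (Cfsg.POmega F ⇑Q)).subgroupOf (diagAut h2 Q hQ hne k hk)) ∧
    (simAut ⇑Q (g₂ * g₂) ∈ Cfsg.Inn (Cfsg.POmega F ⇑Q) →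
      ∃ φ : ↥(diagAut h2 Q hQ hne k hk) →* Multiplicative (ZMod 2 × ZMod 2),
        Function.Surjective φ ∧
        φ.ker = (Cfsg.Inn (Cfsg.POmega F ⇑Q)).subgroupOf (diagAut h2 Q hQ hne k hk)) := by
  obtain ⟨N, hN⟩ : ∃ N : Subgroup ↥(diagAut h2 Q hQ hne k hk),
      N = (Cfsg.Inn (Cfsg.POmega F ⇑Q)).subgroupOf (diagAut h2 Q hQ hne k hk) := ⟨_, rfl⟩
  have hNn : N.Normal := by
    rw [hN]
    infer_instance
  have hcard : Nat.card (↥(diagAut h2 Q hQ hne k hk) ⧸ N) = 4 := by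
    rw [hN]
    exact card_diagAut_quot_inn h2 Q hQ hne E hE hE0 k hk g₂ hg₂ hg₂sq hneg
  obtain ⟨x, hx⟩ : ∃ x : ↥(diagAut h2 Q hQ hne k hk), x = ⟨simAut ⇑Q g₂, ⟨g₂, hg₂, rfl⟩⟩ :=
    ⟨_, rfl⟩
  have hxcoe : (x : MulAut (Cfsg.POmega F ⇑Q)) = simAut ⇑Q g₂ := by rw [hx]
  have hmemN : ∀ y : ↥(diagAut h2 Q hQ hne k hk),
      (QuotientGroup.mk y : ↥(diagAut h2 Q hQ hne k hk) ⧸ N) = 1 ↔
        (y : MulAut (Cfsg.POmega F ⇑Q)) ∈ Cfsg.Inn (Cfsg.POmega F ⇑Q) := by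
    intro y
    rw [QuotientGroup.eq_one_iff, hN, Subgroup.mem_subgroupOf]
  have hkerφ : ∀ {A : Type} [Group A] (e : (↥(diagAut h2 Q hQ hne k hk) ⧸ N) ≃* A),
      (e.toMonoidHom.comp (QuotientGroup.mk' N)).ker = N := by
    intro A _ e
    ext β
    rw [MonoidHom.mem_ker, MonoidHom.comp_apply, MulEquiv.coe_toMonoidHom,
      MulEquiv.map_eq_one_iff, QuotientGroup.mk'_apply, QuotientGroup.eq_one_iff]
  have hxxcoe : ((x * x : ↥(diagAut h2 Q hQ hne k hk)) : MulAut (Cfsg.POmega F ⇑Q)) =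
      simAut ⇑Q (g₂ * g₂) := by
    rw [Subgroup.coe_mul, hxcoe, map_mul (simAut ⇑Q) g₂ g₂]
  have haa : (QuotientGroup.mk x : ↥(diagAut h2 Q hQ hne k hk) ⧸ N) * QuotientGroup.mk x = 1 ↔
      simAut ⇑Q (g₂ * g₂) ∈ Cfsg.Inn (Cfsg.POmega F ⇑Q) := by
    have h3 := hmemN (x * x)
    rw [hxxcoe] at h3
    exact h3
  constructor
  · intro hnot
    obtain ⟨e⟩ := nonempty_mulEquiv_zmod_four hcard (QuotientGroup.mk x)
      (fun h => hnot (haa.mp h))
    exact ⟨e.toMonoidHom.comp (QuotientGroup.mk' N),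
      e.surjective.comp (QuotientGroup.mk'_surjective N), (hkerφ e).trans hN⟩
  · intro hin
    have hrel2 : (Cfsg.Inn (Cfsg.POmega F ⇑Q)).relIndex (Cfsg.psoAut F ⇑Q) = 2 :=
      (relIndex_inn_psoAut h2 Q hQ E hE hE0 ⟨k, by rw [hk]; ring⟩).1 hneg
    have hg₂pso : simAut ⇑Q g₂ ∉ Cfsg.psoAut F ⇑Q := by
      rw [← simChar_eq_one_iff_mem_psoAut h2 Q hQ hne E hE hE0 k hk,
        simChar_eq_one_iff_sq h2 Q hQ hne k hk g₂ hg₂]
      exact hg₂sq
    obtain ⟨β₀, hβ₀, hβ₀n⟩ : ∃ β₀ ∈ Cfsg.psoAut F ⇑Q, β₀ ∉ Cfsg.Inn (Cfsg.POmega F ⇑Q) := by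
      by_contra hcon
      push Not at hcon
      have : (Cfsg.Inn (Cfsg.POmega F ⇑Q)).relIndex (Cfsg.psoAut F ⇑Q) = 1 :=
        Subgroup.relIndex_eq_one.mpr hcon
      omega
    obtain ⟨y, hy⟩ : ∃ y : ↥(diagAut h2 Q hQ hne k hk),
        y = ⟨β₀, psoAut_le_diagAut h2 Q hQ hne k hk hβ₀⟩ := ⟨_, rfl⟩
    have hycoe : (y : MulAut (Cfsg.POmega F ⇑Q)) = β₀ := by rw [hy]
    have ha1 : (QuotientGroup.mk x : ↥(diagAut h2 Q hQ hne k hk) ⧸ N) ≠ 1 := by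
      rw [Ne, hmemN, hxcoe]
      exact fun h => hg₂pso (inn_le_psoAut _ h)
    have hb1 : (QuotientGroup.mk y : ↥(diagAut h2 Q hQ hne k hk) ⧸ N) ≠ 1 := by
      rw [Ne, hmemN, hycoe]
      exact hβ₀n
    have hbb : (QuotientGroup.mk y : ↥(diagAut h2 Q hQ hne k hk) ⧸ N) * QuotientGroup.mk y = 1 := by
      apply (hmemN (y * y)).mpr
      rw [Subgroup.coe_mul, hycoe]
      have hidx : ((Cfsg.Inn (Cfsg.POmega F ⇑Q)).subgroupOf (Cfsg.psoAut F ⇑Q)).index = 2 := hrel2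
      have h3 := Subgroup.mul_mem_iff_of_index_two hidx
        (a := (⟨β₀, hβ₀⟩ : ↥(Cfsg.psoAut F ⇑Q))) (b := ⟨β₀, hβ₀⟩)
      have h4 := h3.mpr Iff.rfl
      exact Subgroup.mem_subgroupOf.mp h4
    have hab : (QuotientGroup.mk x : ↥(diagAut h2 Q hQ hne k hk) ⧸ N) ≠ QuotientGroup.mk y := by
      intro h
      have h3 := QuotientGroup.eq.mp h
      rw [hN, Subgroup.mem_subgroupOf, Subgroup.coe_mul, Subgroup.coe_inv, hxcoe, hycoe] at h3
      have h4 := inn_le_psoAut _ h3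
      apply hg₂pso
      have h5 : simAut ⇑Q g₂ = β₀ * ((simAut ⇑Q g₂)⁻¹ * β₀)⁻¹ := by group
      rw [h5]
      exact Subgroup.mul_mem _ hβ₀ (Subgroup.inv_mem _ h4)
    obtain ⟨e⟩ := nonempty_mulEquiv_klein hcard (QuotientGroup.mk x) (QuotientGroup.mk y)
      ha1 hb1 hab (haa.mpr hin) hbb
    exact ⟨e.toMonoidHom.comp (QuotientGroup.mk' N),
      e.surjective.comp (QuotientGroup.mk'_surjective N), (hkerφ e).trans hN⟩

omit [Fintype F] in
/-- The subgroup generated by the automorphisms induced by the similarities satisfying a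
predicate equivalent to `det = μ^k` is `diagAut`. -/
theorem closure_pred_eq_diagAut (h2 : (2 : F) ≠ 0) (Q : QuadraticForm F (ι → F))
    (hQ : (QuadraticMap.polarBilin Q).Nondegenerate) (hne : ∃ v, Q v ≠ 0) (k : ℕ)
    (hk : Fintype.card ι = 2 * k) (P : Matrix ι ι F → Prop)
    (hP : ∀ (g : GL ι F) (c : F), c ≠ 0 → (∀ x, Q ((g : Matrix ι ι F) *ᵥ x) = c * Q x) →
      (P (g : Matrix ι ι F) ↔ (g : Matrix ι ι F).det = c ^ k)) :
    Subgroup.closure {β : MulAut (Cfsg.POmega F ⇑Q) | ∃ g : GL ι F,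
        g ∈ Cfsg.Geo.quadSimilarityGroup (F := F) ⇑Q ∧ P (g : Matrix ι ι F) ∧
        Cfsg.IsInducedBySemilinearPOmega ⇑Q g (RingEquiv.refl F) β} =
      diagAut h2 Q hQ hne k hk := by
  unfold diagAut
  apply closure_induced_pred_eq_map
  intro g
  rw [mem_detKer_iff]
  exact hP g (simMult ⇑Q g) (simMult ⇑Q g).ne_zero (simMult_spec ⇑Q g)

omit [Fintype F] in
/-- Two similarities whose matrices differ by a scalar induce the same automorphism. -/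
theorem simAut_eq_of_smul (Qf : (ι → F) → F)
    (g g' : ↥(Cfsg.Geo.quadSimilarityGroup (F := F) Qf)) (lam : F)
    (h : ((g : GL ι F) : Matrix ι ι F) = lam • ((g' : GL ι F) : Matrix ι ι F)) :
    simAut Qf g = simAut Qf g' := by
  have h1 : simAut Qf (g * g'⁻¹) = 1 := by
    apply simAut_eq_one_of_scalar Qf (g * g'⁻¹) lam
    show ((g : GL ι F) : Matrix ι ι F) * (((g' : GL ι F)⁻¹ : GL ι F) : Matrix ι ι F) = _
    rw [h, Matrix.smul_mul]
    congr 1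
    exact Units.mul_inv _
  rw [map_mul, map_inv, mul_inv_eq_one] at h1
  exact h1

/-- If `-1 ∈ Ω`, the automorphism induced by an isometry `h` is inner iff `h ∈ Ω`. -/
theorem isomAut_mem_inn_iff (Q : QuadraticForm F (ι → F))
    (hQ : (QuadraticMap.polarBilin Q).Nondegenerate)
    (E : Submodule F (ι → F)) (hE : 3 ≤ finrank F E) (hE0 : ∀ x ∈ E, Q x = 0)
    (hneg : ∃ g : ↥(Cfsg.isometryGroup F ⇑Q), g ∈ Cfsg.Omega F ⇑Q ∧
      ((g : GL ι F) : Matrix ι ι F) = -1)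
    (h : ↥(Cfsg.isometryGroup F ⇑Q)) :
    isomAut ⇑Q h ∈ Cfsg.Inn (Cfsg.POmega F ⇑Q) ↔ h ∈ Cfsg.Omega F ⇑Q := by
  rw [inn_eq_map]
  constructor
  · rintro ⟨ω, hω, he⟩
    have h1 : isomAut ⇑Q (h * ω⁻¹) = 1 := by
      rw [map_mul, map_inv, he, mul_inv_cancel]
    rcases scalar_of_isomAut_eq_one Q hQ E hE hE0 _ h1 with h3 | h3
    · have h4 : h * ω⁻¹ = 1 := isom_ext h3
      have h5 : h = ω := mul_inv_eq_one.mp h4
      rw [h5]
      exact hω
    · obtain ⟨z, hz, hz1⟩ := hneg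
      have h4 : h * ω⁻¹ = z := isom_ext (h3.trans hz1.symm)
      have h5 : h = z * ω := by
        rw [← h4]
        group
      rw [h5]
      exact Subgroup.mul_mem _ hz hω
  · intro hh
    exact ⟨h, hh, rfl⟩

/-- The structure of the group generated by the automorphisms induced by the similarities
satisfying a predicate equivalent to `det = μ^k`, modulo the inner automorphisms. -/
theorem exists_hom_closure_inn (h2 : (2 : F) ≠ 0) (Q : QuadraticForm F (ι → F))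
    (hQ : (QuadraticMap.polarBilin Q).Nondegenerate) (Qf : (ι → F) → F) (hQf : ⇑Q = Qf)
    (E : Submodule F (ι → F)) (hE : 3 ≤ finrank F E) (hE0 : ∀ x ∈ E, Q x = 0) (k : ℕ)
    (hk : Fintype.card ι = 2 * k) (P : Matrix ι ι F → Prop)
    (hP : ∀ (g : GL ι F) (c : F), c ≠ 0 → (∀ x, Qf ((g : Matrix ι ι F) *ᵥ x) = c * Qf x) →
      (P (g : Matrix ι ι F) ↔ (g : Matrix ι ι F).det = c ^ k))
    (D : Subgroup (MulAut (Cfsg.POmega F Qf)))
    (hD : D = Subgroup.closure {β : MulAut (Cfsg.POmega F Qf) | ∃ g : GL ι F,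
        g ∈ Cfsg.Geo.quadSimilarityGroup (F := F) Qf ∧ P (g : Matrix ι ι F) ∧
        Cfsg.IsInducedBySemilinearPOmega Qf g (RingEquiv.refl F) β})
    (g₂ : GL ι F) (c : F) (hc : ¬ IsSquare c)
    (hg₂ : ∀ v, Qf ((g₂ : Matrix ι ι F) *ᵥ v) = c * Qf v)
    (hdet : (g₂ : Matrix ι ι F).det = c ^ k)
    (h : ↥(Cfsg.isometryGroup F Qf))
    (hh : (g₂ : Matrix ι ι F) * (g₂ : Matrix ι ι F) = c • ((h : GL ι F) : Matrix ι ι F)) :
    ((¬ ∃ g : ↥(Cfsg.isometryGroup F Qf), g ∈ Cfsg.Omega F Qf ∧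
        ((g : GL ι F) : Matrix ι ι F) = -1) →
      ∃ φ : ↥D →* Multiplicative (ZMod 2), Function.Surjective φ ∧
        φ.ker = (Cfsg.Inn (Cfsg.POmega F Qf)).subgroupOf D) ∧
    ((∃ g : ↥(Cfsg.isometryGroup F Qf), g ∈ Cfsg.Omega F Qf ∧
        ((g : GL ι F) : Matrix ι ι F) = -1) → h ∉ Cfsg.Omega F Qf →
      ∃ φ : ↥D →* Multiplicative (ZMod 4), Function.Surjective φ ∧
        φ.ker = (Cfsg.Inn (Cfsg.POmega F Qf)).subgroupOf D) ∧
    ((∃ g : ↥(Cfsg.isometryGroup F Qf), g ∈ Cfsg.Omega F Qf ∧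
        ((g : GL ι F) : Matrix ι ι F) = -1) → h ∈ Cfsg.Omega F Qf →
      ∃ φ : ↥D →* Multiplicative (ZMod 2 × ZMod 2), Function.Surjective φ ∧
        φ.ker = (Cfsg.Inn (Cfsg.POmega F Qf)).subgroupOf D) := by
  subst hQf
  have hdim : 6 ≤ finrank F (ι → F) := by
    have := two_mul_finrank_le_of_ts hQ hE0
    omega
  have hne : ∃ v, Q v ≠ 0 := exists_quad_ne_zero Q hQ (by omega)
  have hDeq : D = diagAut h2 Q hQ hne k hk :=
    hD.trans (closure_pred_eq_diagAut h2 Q hQ hne k hk P hP)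
  subst hDeq
  have hc0 : c ≠ 0 := fun h => hc ⟨0, by simp [h]⟩
  obtain ⟨g₂', hg₂'⟩ : ∃ g₂' : ↥(Cfsg.Geo.quadSimilarityGroup (F := F) ⇑Q),
      g₂' = ⟨g₂, ⟨Units.mk0 c hc0, hg₂⟩⟩ := ⟨_, rfl⟩
  have hg₂mat : ((g₂' : GL ι F) : Matrix ι ι F) = (g₂ : Matrix ι ι F) := by rw [hg₂']
  have hmult : (simMult ⇑Q g₂' : F) = c := by
    apply simMult_unique ⇑Q hne
    rw [hg₂mat]
    exact hg₂
  have hmem : g₂' ∈ detKer h2 Q hQ hne k hk := by
    rw [mem_detKer_iff, hmult, hg₂mat]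
    exact hdet
  have hnsq : ¬ IsSquare (simMult ⇑Q g₂' : F) := by
    rw [hmult]
    exact hc
  have hcrit : ∀ hneg : (∃ g : ↥(Cfsg.isometryGroup F ⇑Q), g ∈ Cfsg.Omega F ⇑Q ∧
      ((g : GL ι F) : Matrix ι ι F) = -1),
      (simAut ⇑Q (g₂' * g₂') ∈ Cfsg.Inn (Cfsg.POmega F ⇑Q) ↔ h ∈ Cfsg.Omega F ⇑Q) := by
    intro hneg
    have h1 : simAut ⇑Q (g₂' * g₂') =
        simAut ⇑Q ⟨(h : GL ι F), isometryGroup_le_sim ⇑Q h.2⟩ := by
      apply simAut_eq_of_smul ⇑Q _ _ c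
      show ((g₂' : GL ι F) : Matrix ι ι F) * ((g₂' : GL ι F) : Matrix ι ι F) = _
      rw [hg₂mat]
      exact hh
    rw [h1, simAut_incl]
    exact isomAut_mem_inn_iff Q hQ E hE hE0 hneg h
  refine ⟨?_, ?_, ?_⟩
  · intro hneg
    exact exists_hom_diagAut_inn_two h2 Q hQ hne E hE hE0 k hk g₂' hmem hnsq hneg
  · intro hneg hh'
    exact (exists_hom_diagAut_inn_four h2 Q hQ hne E hE hE0 k hk g₂' hmem hnsq hneg).1
      (fun hin => hh' ((hcrit hneg).mp hin))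
  · intro hneg hh'
    exact (exists_hom_diagAut_inn_four h2 Q hQ hne E hE hE0 k hk g₂' hmem hnsq hneg).2
      ((hcrit hneg).mpr hh')

end diag

end Cfsg.Agent.Lib.Helper44
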