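import Mathlib
import Cfsg.Prelude.Def_LieTypeDatum
import Cfsg.Agent.Lib.Helper14.MaxTS6
import Cfsg.Agent.Lib.Helper14.Levi2
import Cfsg.Agent.Lib.Helper14.Forms

/-!
Similarities of the hyperbolic quadric and the two classes of maximal totally singular
subspaces: a similarity `g` with multiplier `c` (dimension `2m`, odd characteristic) preserves the
classes iff `det g = c^m`.
-/

set_option autoImplicit false

namespace Cfsg.Agent.Lib.Helper44

open Matrix Module
open Cfsg.Agent.Lib.Helper14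

section plus

variable {m : ℕ} {F : Type*} [Field F]

/-- Maximal totally singular subspaces of the hyperbolic quadric are the totally singular
subspaces of dimension `m`. -/
theorem isMaxTS_iff_isMTS (U : Submodule F (Fin m ⊕ Fin m → F)) :
    Cfsg.IsMaxTotallySingular (Cfsg.quadFormPlus m F) U ↔ IsMTS (plusQF m F) m U := by
  have hcoe := plusQF_coe m F
  constructor
  · rintro ⟨hts, hmax⟩
    have hts' : ∀ x ∈ U, plusQF m F x = 0 := by
      intro x hx
      rw [hcoe]
      exact hts x hx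
    obtain ⟨W, hW, hUW⟩ := exists_isMTS_ge (plusQF_nondegenerate m F) (finrank_plus m F)
      (stdE_isMTS m F) hts'
    have hWts : Cfsg.Geo.IsTotallySingularQuad (Cfsg.quadFormPlus m F) W := by
      intro w hw
      rw [← hcoe]
      exact hW.2 w hw
    rw [← hmax W hWts hUW]
    exact hW
  · intro hU
    refine ⟨?_, ?_⟩
    · intro u hu
      rw [← hcoe]
      exact hU.2 u hu
    · intro W hW hUW
      have hW' : ∀ x ∈ W, plusQF m F x = 0 := by
        intro x hx
        rw [hcoe]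
        exact hW x hx
      have hle := finrank_le_of_ts (plusQF_nondegenerate m F) (finrank_plus m F) hW'
      exact (Submodule.eq_of_le_of_finrank_le hUW (by rw [hU.1]; exact hle)).symm

theorem plus_polar_formula (x y : Fin m ⊕ Fin m → F) :
    QuadraticMap.polar (Cfsg.quadFormPlus m F) x y =
      ∑ k : Fin m, (x (Sum.inl k) * y (Sum.inr k) + x (Sum.inr k) * y (Sum.inl k)) := by
  unfold QuadraticMap.polar Cfsg.quadFormPlus
  rw [← Finset.sum_sub_distrib, ← Finset.sum_sub_distrib]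
  apply Finset.sum_congr rfl
  intro k _
  simp only [Pi.add_apply]
  ring

/-- A similarity stabilising the standard maximal totally singular subspace has determinant
`c^m`. -/
theorem det_of_stab_stdE (M : Matrix (Fin m ⊕ Fin m) (Fin m ⊕ Fin m) F) (c : F)
    (hM : ∀ x, Cfsg.quadFormPlus m F (M *ᵥ x) = c * Cfsg.quadFormPlus m F x)
    (hstab : ∀ x ∈ stdE m F, M *ᵥ x ∈ stdE m F) : M.det = c ^ m := by
  have h21' : ∀ i j, M (Sum.inr i) (Sum.inl j) = 0 := by
    intro i j
    have h1 : (Pi.single (Sum.inl j) 1 : Fin m ⊕ Fin m → F) ∈ stdE m F := by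
      rw [mem_stdE]
      intro i
      rw [Pi.single_apply, if_neg (by simp)]
    have h3 := mem_stdE.mp (hstab _ h1) i
    rw [Matrix.mulVec_single_one] at h3
    exact h3
  have h21 : M.toBlocks₂₁ = 0 := by
    ext i j
    exact h21' i j
  have hM' : M = Matrix.fromBlocks M.toBlocks₁₁ M.toBlocks₁₂ 0 M.toBlocks₂₂ := by
    rw [← h21, Matrix.fromBlocks_toBlocks]
  have hpol : ∀ x y, QuadraticMap.polar (Cfsg.quadFormPlus m F) (M *ᵥ x) (M *ᵥ y) =
      c * QuadraticMap.polar (Cfsg.quadFormPlus m F) x y := by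
    intro x y
    unfold QuadraticMap.polar
    rw [← mulVec_add, hM, hM, hM]
    ring
  have hAD : M.toBlocks₁₁ᵀ * M.toBlocks₂₂ = c • (1 : Matrix (Fin m) (Fin m) F) := by
    ext i j
    have h3 := hpol (Pi.single (Sum.inl i) 1) (Pi.single (Sum.inr j) 1)
    rw [plus_polar_inl, plus_polar_formula, Matrix.mulVec_single_one, Matrix.mulVec_single_one]
      at h3
    rw [Matrix.mul_apply, Matrix.smul_apply, Matrix.one_apply, smul_eq_mul]
    have h4 : ∑ k : Fin m, (M.col (Sum.inl i) (Sum.inl k) * M.col (Sum.inr j) (Sum.inr k) +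
        M.col (Sum.inl i) (Sum.inr k) * M.col (Sum.inr j) (Sum.inl k)) =
        ∑ k : Fin m, M.toBlocks₁₁ᵀ i k * M.toBlocks₂₂ k j := by
      apply Finset.sum_congr rfl
      intro k _
      show M (Sum.inl k) (Sum.inl i) * M (Sum.inr k) (Sum.inr j) +
        M (Sum.inr k) (Sum.inl i) * M (Sum.inl k) (Sum.inr j) =
        M (Sum.inl k) (Sum.inl i) * M (Sum.inr k) (Sum.inr j)
      rw [h21' k i, zero_mul, add_zero]
    rw [← h4, h3, Pi.single_apply]
    by_cases hij : i = j
    · rw [if_pos hij, if_pos (by rw [hij])]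
    · rw [if_neg hij, if_neg (fun h => hij (Sum.inr.inj h))]
  rw [hM', Matrix.det_fromBlocks_zero₂₁]
  have h5 := congrArg Matrix.det hAD
  rw [det_mul, det_transpose, det_smul, det_one, mul_one, Fintype.card_fin] at h5
  exact h5

/-- A similarity stabilising a maximal totally singular subspace has determinant `c^m`. -/
theorem det_of_stab_mts (U : Submodule F (Fin m ⊕ Fin m → F)) (hU : IsMTS (plusQF m F) m U)
    (M : Matrix (Fin m ⊕ Fin m) (Fin m ⊕ Fin m) F) (c : F)
    (hM : ∀ x, Cfsg.quadFormPlus m F (M *ᵥ x) = c * Cfsg.quadFormPlus m F x)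
    (hstab : ∀ x ∈ U, M *ᵥ x ∈ U) : M.det = c ^ m := by
  obtain ⟨l, hl, hmap⟩ := IsMTS.exists_prodElt_map (plusQF_nondegenerate m F) (finrank_plus m F)
    m (stdE m F) U (stdE_isMTS m F) hU (Nat.sub_le _ _)
  obtain ⟨h₁, hh₁⟩ : ∃ h₁ : ↥(Cfsg.isometryGroup F ⇑(plusQF m F)),
      h₁ = prodElt (plusQF m F) (plusQF_nondegenerate m F) l
        (fun u hu => by rw [hl u hu]; exact one_ne_zero) := ⟨_, rfl⟩
  rw [← hh₁] at hmap
  obtain ⟨A, hA⟩ : ∃ A : Matrix (Fin m ⊕ Fin m) (Fin m ⊕ Fin m) F,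
      A = ((h₁ : GL (Fin m ⊕ Fin m) F) : Matrix (Fin m ⊕ Fin m) (Fin m ⊕ Fin m) F) := ⟨_, rfl⟩
  obtain ⟨B, hB⟩ : ∃ B : Matrix (Fin m ⊕ Fin m) (Fin m ⊕ Fin m) F,
      B = ((h₁⁻¹ : ↥(Cfsg.isometryGroup F ⇑(plusQF m F))) : GL (Fin m ⊕ Fin m) F) := ⟨_, rfl⟩
  rw [← hA] at hmap
  have hBA : B * A = 1 := by
    rw [hA, hB]
    have h3 : ((h₁⁻¹ * h₁ : ↥(Cfsg.isometryGroup F ⇑(plusQF m F))) : GL (Fin m ⊕ Fin m) F) = 1 := by
      rw [inv_mul_cancel]
      rfl
    have h4 := congrArg (fun g : GL (Fin m ⊕ Fin m) F =>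
      (g : Matrix (Fin m ⊕ Fin m) (Fin m ⊕ Fin m) F)) h3
    exact h4
  have hpA : ∀ x, Cfsg.quadFormPlus m F (A *ᵥ x) = Cfsg.quadFormPlus m F x := by
    intro x
    have h9 := isom_preserves h₁ x
    have e := congrFun (plusQF_coe m F)
    rw [← e, ← e, hA]
    exact h9
  have hpB : ∀ x, Cfsg.quadFormPlus m F (B *ᵥ x) = Cfsg.quadFormPlus m F x := by
    intro x
    have h9 := isom_preserves h₁⁻¹ x
    have e := congrFun (plusQF_coe m F)
    rw [← e, ← e, hB]
    exact h9
  have key := det_of_stab_stdE (B * M * A) c ?_ ?_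
  · rw [det_mul, det_mul] at key
    have h5 := congrArg Matrix.det hBA
    rw [det_mul, det_one] at h5
    rw [← key]
    linear_combination (-M.det) * h5
  · intro x
    rw [← mulVec_mulVec, ← mulVec_mulVec, hpB, hM, hpA]
  · intro x hx
    have h1 : A *ᵥ x ∈ U := by
      rw [← hmap]
      exact ⟨x, hx, rfl⟩
    have h2 := hstab _ h1
    rw [← hmap] at h2
    obtain ⟨y, hy, hy'⟩ := h2
    rw [Matrix.mulVecLin_apply] at hy'
    rw [← mulVec_mulVec, ← mulVec_mulVec, ← hy', mulVec_mulVec, hBA, one_mulVec]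
    exact hy

/-- A similarity with multiplier `c` maps a maximal totally singular subspace to one in the same
class iff its determinant is `c^m` (odd characteristic). -/
theorem sim_parity_iff (h2 : (2 : F) ≠ 0) (U : Submodule F (Fin m ⊕ Fin m → F))
    (hU : IsMTS (plusQF m F) m U)
    (G : Matrix (Fin m ⊕ Fin m) (Fin m ⊕ Fin m) F) (c : F) (hc : c ≠ 0) (hGu : IsUnit G.det)
    (hG : ∀ x, Cfsg.quadFormPlus m F (G *ᵥ x) = c * Cfsg.quadFormPlus m F x) :
    Even (m - finrank F ↥(U ⊓ U.map (Matrix.mulVecLin G))) ↔ G.det = c ^ m := by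
  have hinj : Function.Injective (Matrix.mulVecLin G) := by
    intro x y hxy
    simp only [Matrix.mulVecLin_apply] at hxy
    exact Matrix.mulVec_injective_iff_isUnit.mpr ((Matrix.isUnit_iff_isUnit_det G).mpr hGu) hxy
  have hW : IsMTS (plusQF m F) m (U.map (Matrix.mulVecLin G)) := by
    constructor
    · rw [← (Submodule.equivMapOfInjective _ hinj U).finrank_eq]
      exact hU.1
    · rintro _ ⟨u, hu, rfl⟩
      rw [Matrix.mulVecLin_apply, plusQF_coe, hG]
      have := hU.2 u hu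
      rw [plusQF_coe] at this
      rw [this, mul_zero]
  obtain ⟨l, hl, hmap⟩ := IsMTS.exists_prodElt_map (plusQF_nondegenerate m F) (finrank_plus m F)
    m U (U.map (Matrix.mulVecLin G)) hU hW (Nat.sub_le _ _)
  obtain ⟨σ, hσ⟩ : ∃ σ : ↥(Cfsg.isometryGroup F ⇑(plusQF m F)),
      σ = prodElt (plusQF m F) (plusQF_nondegenerate m F) l
        (fun u hu => by rw [hl u hu]; exact one_ne_zero) := ⟨_, rfl⟩
  rw [← hσ] at hmap
  have hiff1 := mtsChar_eq_one_iff (plusQF_nondegenerate m F) (finrank_plus m F) hU σ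
  have hiff2 := mtsChar_eq_one_iff_det h2 (plusQF_nondegenerate m F) (finrank_plus m F) hU σ
  rw [hmap] at hiff1
  rw [← hiff1, hiff2]
  obtain ⟨A, hA⟩ : ∃ A : Matrix (Fin m ⊕ Fin m) (Fin m ⊕ Fin m) F,
      A = ((σ : GL (Fin m ⊕ Fin m) F) : Matrix (Fin m ⊕ Fin m) (Fin m ⊕ Fin m) F) := ⟨_, rfl⟩
  obtain ⟨B, hB⟩ : ∃ B : Matrix (Fin m ⊕ Fin m) (Fin m ⊕ Fin m) F,
      B = ((σ⁻¹ : ↥(Cfsg.isometryGroup F ⇑(plusQF m F))) : GL (Fin m ⊕ Fin m) F) := ⟨_, rfl⟩
  rw [← hA] at hmap ⊢
  have hBA : B * A = 1 := by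
    rw [hA, hB]
    have h3 : ((σ⁻¹ * σ : ↥(Cfsg.isometryGroup F ⇑(plusQF m F))) : GL (Fin m ⊕ Fin m) F) = 1 := by
      rw [inv_mul_cancel]
      rfl
    have h4 := congrArg (fun g : GL (Fin m ⊕ Fin m) F =>
      (g : Matrix (Fin m ⊕ Fin m) (Fin m ⊕ Fin m) F)) h3
    exact h4
  have hpB : ∀ x, Cfsg.quadFormPlus m F (B *ᵥ x) = Cfsg.quadFormPlus m F x := by
    intro x
    have h9 := isom_preserves σ⁻¹ x
    have e := congrFun (plusQF_coe m F)
    rw [← e, ← e, hB]
    exact h9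
  have hdetBM : (B * G).det = c ^ m := by
    apply det_of_stab_mts U hU (B * G) c
    · intro x
      rw [← mulVec_mulVec, hpB, hG]
    · intro x hx
      have h1 : G *ᵥ x ∈ U.map (Matrix.mulVecLin G) := ⟨x, hx, rfl⟩
      rw [← hmap] at h1
      obtain ⟨y, hy, hy'⟩ := h1
      rw [Matrix.mulVecLin_apply] at hy'
      rw [← mulVec_mulVec, ← hy', mulVec_mulVec, hBA, one_mulVec]
      exact hy
  have hdetBA := congrArg Matrix.det hBA
  rw [det_mul, det_one] at hdetBA
  rw [det_mul] at hdetBM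
  have hcm : c ^ m ≠ 0 := pow_ne_zero _ hc
  have hG' : G.det = A.det * c ^ m := by
    linear_combination (A.det) * hdetBM + (-G.det) * hdetBA
  rw [hG']
  constructor
  · intro h
    rw [h, one_mul]
  · intro h
    have h5 : (A.det - 1) * c ^ m = 0 := by linear_combination h
    rcases mul_eq_zero.mp h5 with h6 | h6
    · exact sub_eq_zero.mp h6
    · exact absurd h6 hcm

/-- A similarity of the hyperbolic quadric with multiplier `c` preserves the two classes of
maximal totally singular subspaces iff its determinant is `c^m` (odd characteristic). -/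
theorem plus_preserves_iff (h2 : (2 : F) ≠ 0)
    (G : Matrix (Fin m ⊕ Fin m) (Fin m ⊕ Fin m) F) (c : F) (hc : c ≠ 0) (hGu : IsUnit G.det)
    (hG : ∀ x, Cfsg.quadFormPlus m F (G *ᵥ x) = c * Cfsg.quadFormPlus m F x) :
    Cfsg.PreservesSingularClasses (Cfsg.quadFormPlus m F) G ↔ G.det = c ^ m := by
  unfold Cfsg.PreservesSingularClasses Cfsg.SameParityClass Cfsg.imageSubmodule
  constructor
  · intro h
    have h1 := h (stdE m F) ((isMaxTS_iff_isMTS _).mpr (stdE_isMTS m F))
    rw [(stdE_isMTS m F).1] at h1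
    exact (sim_parity_iff h2 (stdE m F) (stdE_isMTS m F) G c hc hGu hG).mp h1
  · intro h U hU
    have hU' := (isMaxTS_iff_isMTS U).mp hU
    rw [hU'.1]
    exact (sim_parity_iff h2 U hU' G c hc hGu hG).mpr h

end plus

end Cfsg.Agent.Lib.Helper44
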