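import Mathlib
import Cfsg.Prelude.Def_LieTypeDatum
import Cfsg.Agent.Lib.Helper44.InnDiag
import Cfsg.Agent.Lib.Helper44.PlusDiag
import Cfsg.Agent.Lib.Helper44.PgoInst

/-!
The structure of `Inndiag(PΩ⁺_{2m}(q)) / Inn(PΩ⁺_{2m}(q))` for odd `q`.
-/

set_option autoImplicit false

namespace Cfsg.Agent.Lib.Helper44

open Matrix Module
open Cfsg.Agent.Lib.Helper14

section plusinst

variable {F : Type*} [Field F]

/-- The diagonal similarity `diag(c, …, c, 1, …, 1)` of the hyperbolic quadric. -/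
theorem plus_diag_sim (m : ℕ) (c : F) (v : Fin m ⊕ Fin m → F) :
    Cfsg.quadFormPlus m F
        (Matrix.diagonal (Sum.elim (fun _ : Fin m => c) (fun _ : Fin m => (1 : F))) *ᵥ v) =
      c * Cfsg.quadFormPlus m F v := by
  unfold Cfsg.quadFormPlus
  simp only [Matrix.mulVec_diagonal, Sum.elim_inl, Sum.elim_inr, one_mul]
  rw [Finset.mul_sum]
  apply Finset.sum_congr rfl
  intro i _
  ring

theorem plus_diag_det (m : ℕ) (c : F) :
    (Matrix.diagonal (Sum.elim (fun _ : Fin m => c) (fun _ : Fin m => (1 : F)))).det = c ^ m := by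
  rw [Matrix.det_diagonal, Fintype.prod_sum_type]
  simp

theorem plus_diag_sq (m : ℕ) (c : F) (hc : c ≠ 0) :
    Matrix.diagonal (Sum.elim (fun _ : Fin m => c) (fun _ : Fin m => (1 : F))) *
        Matrix.diagonal (Sum.elim (fun _ : Fin m => c) (fun _ : Fin m => (1 : F))) =
      c • (((leviIsom m F (Matrix.GeneralLinearGroup.scalar (Fin m) (Units.mk0 c hc)) :
        ↥(Cfsg.isometryGroup F (Cfsg.quadFormPlus m F))) : GL (Fin m ⊕ Fin m) F) :
          Matrix (Fin m ⊕ Fin m) (Fin m ⊕ Fin m) F) := by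
  rw [leviIsom_coe, Matrix.GeneralLinearGroup.coe_scalar, Units.val_mk0]
  have hinv : (Matrix.scalar (Fin m) c)⁻¹ = Matrix.diagonal (fun _ : Fin m => c⁻¹) := by
    apply Matrix.inv_eq_right_inv
    rw [Matrix.scalar_apply, Matrix.diagonal_mul_diagonal]
    simp [hc]
  rw [hinv, Matrix.diagonal_transpose, Matrix.scalar_apply, Matrix.fromBlocks_diagonal,
    Matrix.diagonal_mul_diagonal, ← Matrix.diagonal_smul]
  congr 1
  funext j
  rcases j with j | j
  · simp
  · simp [hc]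

theorem isSquare_pow_iff_even {c : F} (hc : ¬ IsSquare c) (m : ℕ) :
    IsSquare (c ^ m) ↔ Even m := by
  have hc0 : c ≠ 0 := fun h => hc ⟨0, by simp [h]⟩
  constructor
  · intro hsq
    by_contra hodd
    rw [Nat.not_even_iff_odd] at hodd
    obtain ⟨j, rfl⟩ := hodd
    obtain ⟨s, hs⟩ := hsq
    apply hc
    refine ⟨s / c ^ j, ?_⟩
    have hcj : c ^ j ≠ 0 := pow_ne_zero _ hc0
    field_simp
    linear_combination hs
  · rintro ⟨j, rfl⟩
    exact ⟨c ^ j, by rw [pow_add]⟩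

variable [Fintype F]

set_option maxHeartbeats 1600000 in
/-- `Inndiag(PΩ⁺_{2m}(q)) / Inn`: cyclic of order two if `m` is odd and `q ≡ 3 (mod 4)`, cyclic of
order four if `m` is odd and `q ≡ 1 (mod 4)`, a Klein four-group if `m` is even. -/
theorem plus_inndiag_inn (hodd : Odd (Fintype.card F)) (m : ℕ) (hm : 3 ≤ m) :
    ((Odd m ∧ Fintype.card F % 4 = 3) →
      (∃ φ : ↥(Cfsg.inndiagPOmegaPlus m F) →* Multiplicative (ZMod 2), Function.Surjective φ ∧
        φ.ker = (Cfsg.Inn (Cfsg.POmega F (Cfsg.quadFormPlus m F))).subgroupOf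
          (Cfsg.inndiagPOmegaPlus m F))) ∧
    ((Odd m ∧ Fintype.card F % 4 = 1) →
      (∃ φ : ↥(Cfsg.inndiagPOmegaPlus m F) →* Multiplicative (ZMod 4), Function.Surjective φ ∧
        φ.ker = (Cfsg.Inn (Cfsg.POmega F (Cfsg.quadFormPlus m F))).subgroupOf
          (Cfsg.inndiagPOmegaPlus m F))) ∧
    (Even m →
      (∃ φ : ↥(Cfsg.inndiagPOmegaPlus m F) →* Multiplicative (ZMod 2 × ZMod 2),
        Function.Surjective φ ∧
        φ.ker = (Cfsg.Inn (Cfsg.POmega F (Cfsg.quadFormPlus m F))).subgroupOf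
          (Cfsg.inndiagPOmegaPlus m F))) := by
  have h2 : (2 : F) ≠ 0 := two_ne_zero_of_card_odd hodd
  obtain ⟨E, hE, hE0⟩ := plus_ts_three (F := F) m hm
  obtain ⟨c, hc⟩ := exists_not_isSquare h2
  have hc0 : c ≠ 0 := fun h => hc ⟨0, by simp [h]⟩
  have hdet0 : (Matrix.diagonal (Sum.elim (fun _ : Fin m => c) (fun _ : Fin m => (1 : F)))).det
      ≠ 0 := by
    rw [plus_diag_det]
    exact pow_ne_zero _ hc0
  obtain ⟨g₂, hg₂⟩ : ∃ g₂ : GL (Fin m ⊕ Fin m) F,
      (g₂ : Matrix (Fin m ⊕ Fin m) (Fin m ⊕ Fin m) F) =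
        Matrix.diagonal (Sum.elim (fun _ : Fin m => c) (fun _ : Fin m => (1 : F))) :=
    ⟨Matrix.GeneralLinearGroup.mkOfDetNeZero _ hdet0, rfl⟩
  have hP : ∀ (g : GL (Fin m ⊕ Fin m) F) (c : F), c ≠ 0 →
      (∀ x, Cfsg.quadFormPlus m F ((g : Matrix (Fin m ⊕ Fin m) (Fin m ⊕ Fin m) F) *ᵥ x) =
        c * Cfsg.quadFormPlus m F x) →
      (Cfsg.PreservesSingularClasses (Cfsg.quadFormPlus m F)
          (g : Matrix (Fin m ⊕ Fin m) (Fin m ⊕ Fin m) F) ↔
        (g : Matrix (Fin m ⊕ Fin m) (Fin m ⊕ Fin m) F).det = c ^ m) := by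
    intro g c hc hg
    exact plus_preserves_iff h2 _ c hc ((Matrix.isUnit_iff_isUnit_det _).mp (Units.isUnit g)) hg
  have key := exists_hom_closure_inn h2 (plusQF m F) (plusQF_nondegenerate m F)
    _ (plusQF_coe m F) E hE hE0 m (plus_card m)
    (Cfsg.PreservesSingularClasses (Cfsg.quadFormPlus m F)) hP
    (Cfsg.inndiagPOmegaPlus m F) rfl g₂ c hc
    (by rw [hg₂]; exact plus_diag_sim m c)
    (by rw [hg₂]; exact plus_diag_det m c)
    (leviIsom m F (Matrix.GeneralLinearGroup.scalar (Fin m) (Units.mk0 c hc0)))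
    (by rw [hg₂]; exact plus_diag_sq m c hc0)
  have hlevi : leviIsom m F (Matrix.GeneralLinearGroup.scalar (Fin m) (Units.mk0 c hc0)) ∈
      Cfsg.Omega F (Cfsg.quadFormPlus m F) ↔ Even m := by
    rw [leviIsom_mem_omega_iff (by omega) (Or.inr (by omega)),
      Matrix.GeneralLinearGroup.coe_scalar, Units.val_mk0, Matrix.scalar_apply,
      Matrix.det_diagonal, Finset.prod_const, Finset.card_univ, Fintype.card_fin]
    exact isSquare_pow_iff_even hc m
  have hneg := plus_neg_one_iff hodd (F := F) m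
  refine ⟨?_, ?_, ?_⟩
  · intro h
    exact key.1 (fun hex => (hneg.mp hex) h)
  · intro h
    refine key.2.1 (hneg.mpr (fun h' => by omega)) ?_
    rw [hlevi, Nat.not_even_iff_odd]
    exact h.1
  · intro h
    refine key.2.2 (hneg.mpr (fun h' => ?_)) (hlevi.mpr h)
    exact (Nat.not_even_iff_odd.mpr h'.1) h

end plusinst

end Cfsg.Agent.Lib.Helper44
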