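import Mathlib
import Cfsg.Prelude.Def_Classical
import Cfsg.Agent.Lib.Helper44.DiagIso
import Cfsg.Agent.S0287
import Cfsg.Agent.S0288

set_option autoImplicit false

namespace Cfsg.Agent.Lib.Helper44

open Matrix

section mat

variable {F : Type*} [Field F]

theorem dQ_eq_dot {ι : Type} [Fintype ι] [DecidableEq ι] (c : ι → F) (v : ι → F) :
    dQ c v = v ⬝ᵥ (diagonal c *ᵥ v) := by
  simp only [dQ, dotProduct, mulVec_diagonal]
  exact Finset.sum_congr rfl fun i _ => by ring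

theorem dQ_mulVec {ι : Type} [Fintype ι] [DecidableEq ι] (c : ι → F) (M : Matrix ι ι F)
    (u : ι → F) : dQ c (M *ᵥ u) = u ⬝ᵥ ((Mᵀ * diagonal c * M) *ᵥ u) := by
  calc dQ c (M *ᵥ u) = (M *ᵥ u) ⬝ᵥ (diagonal c *ᵥ (M *ᵥ u)) := dQ_eq_dot c _
    _ = (u ᵥ* Mᵀ) ⬝ᵥ (diagonal c *ᵥ (M *ᵥ u)) := by rw [Matrix.vecMul_transpose]
    _ = u ⬝ᵥ (Mᵀ *ᵥ (diagonal c *ᵥ (M *ᵥ u))) := (Matrix.dotProduct_mulVec _ _ _).symm
    _ = u ⬝ᵥ ((Mᵀ * diagonal c * M) *ᵥ u) := by
      rw [Matrix.mulVec_mulVec, Matrix.mulVec_mulVec, Matrix.mul_assoc]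

/-- A sufficient criterion for being an isometry of a diagonal form. -/
theorem mem_isometryGroup_of_transpose {ι : Type} [Fintype ι] [DecidableEq ι] (c : ι → F)
    (g : GL ι F)
    (h : (g : Matrix ι ι F)ᵀ * diagonal c * (g : Matrix ι ι F) = diagonal c) :
    g ∈ Cfsg.isometryGroup F (dQ c) := by
  rw [mem_isometryGroup_iff']
  intro u
  rw [dQ_mulVec, h, ← dQ_eq_dot]

/-- `2 × 2` orthogonal matrices. -/
theorem orth2_of_isometry (h2 : (2 : F) ≠ 0) (M : Matrix (Fin 2) (Fin 2) F)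
    (hM : ∀ u, dQ (fun _ : Fin 2 => (1 : F)) (M *ᵥ u) = dQ (fun _ : Fin 2 => (1 : F)) u) :
    Mᵀ * M = 1 := by
  have h10 := hM ![1, 0]
  have h01 := hM ![0, 1]
  have h11 := hM ![1, 1]
  simp only [dQ, Fin.sum_univ_two, Matrix.mulVec, dotProduct, Matrix.cons_val_zero,
    Matrix.cons_val_one, one_mul, mul_one, mul_zero, add_zero, zero_add] at h10 h01 h11
  have hx : M 0 0 * M 0 1 + M 1 0 * M 1 1 = 0 := by
    have : 2 * (M 0 0 * M 0 1 + M 1 0 * M 1 1) = 0 := by
      linear_combination h11 - h10 - h01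
    exact (mul_eq_zero.mp this).resolve_left h2
  ext i j
  fin_cases i <;> fin_cases j
  · simp [Matrix.mul_apply, Fin.sum_univ_two]; linear_combination h10
  · simp [Matrix.mul_apply, Fin.sum_univ_two]; linear_combination hx
  · simp [Matrix.mul_apply, Fin.sum_univ_two]; linear_combination hx
  · simp [Matrix.mul_apply, Fin.sum_univ_two]; linear_combination h01

theorem orth2_det (M : Matrix (Fin 2) (Fin 2) F) (h : Mᵀ * M = 1) : M.det = 1 ∨ M.det = -1 := by
  have := congrArg Matrix.det h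
  rw [Matrix.det_mul, Matrix.det_transpose, Matrix.det_one] at this
  exact mul_self_eq_one_iff.mp this

theorem orth2_sq (M : Matrix (Fin 2) (Fin 2) F) (h : Mᵀ * M = 1) (hd : M.det = -1) :
    M * M = 1 := by
  have h00 := congrFun (congrFun h 0) 0
  have h01 := congrFun (congrFun h 0) 1
  have h11 := congrFun (congrFun h 1) 1
  simp [Matrix.mul_apply, Fin.sum_univ_two] at h00 h01 h11
  rw [Matrix.det_fin_two] at hd
  have e1 : M 1 1 = - M 0 0 := by
    linear_combination (- M 1 1) * h00 + M 0 0 * hd + M 1 0 * h01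
  have e2 : M 1 0 = M 0 1 := by
    linear_combination (M 0 1) * h00 - M 0 0 * h01 + M 1 0 * hd
  ext i j
  fin_cases i <;> fin_cases j
  · simp [Matrix.mul_apply, Fin.sum_univ_two]; rw [e2] at h00 ⊢; linear_combination h00
  · simp [Matrix.mul_apply, Fin.sum_univ_two]; rw [e1]; ring
  · simp [Matrix.mul_apply, Fin.sum_univ_two]; rw [e1]; ring
  · simp [Matrix.mul_apply, Fin.sum_univ_two]; rw [e1, e2]; rw [e2] at h00; linear_combination h00

end mat

section grp

variable {F : Type*} [Field F]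

/-- The orthogonal group of the plane `x² + y²`. -/
abbrev O2 (F : Type*) [Field F] : Subgroup (GL (Fin 2) F) :=
  Cfsg.isometryGroup F (dQ (fun _ : Fin 2 => (1 : F)))

theorem O2_orth (h2 : (2 : F) ≠ 0) (g : ↥(O2 F)) :
    ((g : GL (Fin 2) F) : Matrix (Fin 2) (Fin 2) F)ᵀ *
      ((g : GL (Fin 2) F) : Matrix (Fin 2) (Fin 2) F) = 1 :=
  orth2_of_isometry h2 _ ((mem_isometryGroup_iff' _ _).mp g.2)

/-- The determinant on `O2`. -/
def detO2 : ↥(O2 F) →* Fˣ := Matrix.GeneralLinearGroup.det.comp (O2 F).subtype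

theorem detO2_val (g : ↥(O2 F)) :
    ((detO2 g : Fˣ) : F) = ((g : GL (Fin 2) F) : Matrix (Fin 2) (Fin 2) F).det := rfl

theorem detO2_cases (h2 : (2 : F) ≠ 0) (g : ↥(O2 F)) : detO2 g = 1 ∨ detO2 g = -1 := by
  rcases orth2_det _ (O2_orth h2 g) with h | h
  · left
    apply Units.ext
    rw [detO2_val, h]
    rfl
  · right
    apply Units.ext
    rw [detO2_val, h]
    simp

theorem O2_sq_of_det (h2 : (2 : F) ≠ 0) (g : ↥(O2 F)) (hg : detO2 g = -1) : g ^ 2 = 1 := by
  rw [pow_two]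
  apply Subtype.ext
  apply Units.ext
  show ((g : GL (Fin 2) F) : Matrix (Fin 2) (Fin 2) F) *
    ((g : GL (Fin 2) F) : Matrix (Fin 2) (Fin 2) F) = 1
  apply orth2_sq _ (O2_orth h2 g)
  rw [← detO2_val, hg]
  simp

/-- The dihedral-like property of `O2`. -/
theorem O2_dihedral (h2 : (2 : F) ≠ 0) (r y : ↥(O2 F)) (hr : detO2 r = -1) :
    y ^ 2 = 1 ∨ r * y * r⁻¹ = y⁻¹ := by
  rcases detO2_cases h2 y with hy | hy
  · right
    have h1 : (r * y) ^ 2 = 1 := O2_sq_of_det h2 _ (by rw [map_mul, hr, hy]; simp)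
    have h3 : r ^ 2 = 1 := O2_sq_of_det h2 r hr
    have h4 : r⁻¹ = r := by
      rw [pow_two] at h3
      exact inv_eq_of_mul_eq_one_left h3
    rw [h4]
    rw [pow_two] at h1
    exact eq_inv_of_mul_eq_one_left (by rw [← h1]; group)
  · left
    exact O2_sq_of_det h2 y hy

theorem exists_det_neg_one (_h2 : (2 : F) ≠ 0) : ∃ r : ↥(O2 F), detO2 r = -1 := by
  have hdet : (!![1, 0; 0, -1] : Matrix (Fin 2) (Fin 2) F).det = -1 := by
    simp [Matrix.det_fin_two]
  have hg : Matrix.GeneralLinearGroup.mkOfDetNeZero (!![1, 0; 0, -1] : Matrix (Fin 2) (Fin 2) F)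
      (by rw [hdet]; simp) ∈ O2 F := by
    apply mem_isometryGroup_of_transpose
    show (!![1, 0; 0, -1] : Matrix (Fin 2) (Fin 2) F)ᵀ * diagonal (fun _ => (1 : F)) *
      !![1, 0; 0, -1] = diagonal (fun _ => 1)
    ext i j
    fin_cases i <;> fin_cases j <;> simp [Matrix.mul_apply, Fin.sum_univ_two, Matrix.diagonal]
  refine ⟨⟨_, hg⟩, ?_⟩
  apply Units.ext
  rw [detO2_val]
  exact hdet

theorem sylow_O2_exists_refl [Fintype F] (h2 : (2 : F) ≠ 0) (D : Sylow 2 ↥(O2 F)) :
    ∃ r ∈ (D : Subgroup ↥(O2 F)), detO2 r = -1 := by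
  by_contra hcon
  push Not at hcon
  have hle : (D : Subgroup ↥(O2 F)) ≤ (detO2 (F := F)).ker := by
    intro x hx
    rw [MonoidHom.mem_ker]
    rcases detO2_cases h2 x with h | h
    · exact h
    · exact absurd h (hcon x hx)
  have : Fact (Nat.Prime 2) := ⟨Nat.prime_two⟩
  have h1 : 2 ∣ (detO2 (F := F)).ker.index := by
    rw [Subgroup.index_ker]
    obtain ⟨r, hr⟩ := exists_det_neg_one h2
    have h3 : orderOf (detO2 r) = 2 := by
      rw [hr]
      apply orderOf_eq_prime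
      · simp
      · intro h
        have h5 := congrArg Units.val h
        simp only [Units.val_neg, Units.val_one] at h5
        apply h2
        linear_combination -h5
    have h6 : orderOf (⟨detO2 r, r, rfl⟩ : (detO2 (F := F)).range) = orderOf (detO2 r) :=
      Subgroup.orderOf_mk _ _
    have h7 : orderOf (⟨detO2 r, r, rfl⟩ : (detO2 (F := F)).range) ∣
        Nat.card ↥(detO2 (F := F)).range := orderOf_dvd_natCard _
    rwa [h6, h3] at h7
  have h4 : 2 ∣ (D : Subgroup ↥(O2 F)).index := h1.trans (Subgroup.index_dvd_of_le hle)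
  exact D.not_dvd_index h4

theorem card_O2_of_sq [Fintype F] (hF : Odd (Fintype.card F)) (h2 : (2 : F) ≠ 0)
    (h : IsSquare (-1 : F)) : Nat.card ↥(O2 F) = 2 * (Fintype.card F - 1) := by
  · obtain ⟨w, hw⟩ := h
    have hw0 : w ≠ 0 := by
      rintro rfl
      simp at hw
    have hiso : QIso (Cfsg.quadFormPlus 1 F) (dQ (fun _ : Fin 2 => (1 : F))) := by
      refine (plus_iso h2 1).trans (dQ_classify hF _ _ ?_ ?_ ?_ ?_ w hw0 ?_)
      · intro i; rcases i with i | i <;> simp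
      · intro i; simp
      · simp
      · simp
      · simp only [Fintype.prod_sum_type, Sum.elim_inl, Sum.elim_inr, Finset.prod_const_one]
        simp only [Finset.prod_const, Finset.card_univ, Fintype.card_fin, pow_one, one_mul, mul_one]
        rw [hw]; ring
    obtain ⟨e⟩ := hiso.isometryGroup_equiv
    rw [← Nat.card_congr e.toEquiv, Cfsg.Agent.S0287.result rfl 1 le_rfl]
    simp

theorem card_O2_of_not_sq [Fintype F] (hF : Odd (Fintype.card F)) (h2 : (2 : F) ≠ 0)
    (h : ¬ IsSquare (-1 : F)) : Nat.card ↥(O2 F) = 2 * (Fintype.card F + 1) := by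
  · have hab : ∀ z₁ z₂ : F, z₁ ^ 2 + 0 * z₁ * z₂ + 1 * z₂ ^ 2 = 0 → z₁ = 0 ∧ z₂ = 0 := by
      intro z₁ z₂ hz
      have hz' : z₁ ^ 2 + z₂ ^ 2 = 0 := by linear_combination hz
      by_cases hz2 : z₂ = 0
      · subst hz2
        simp at hz'
        exact ⟨hz', rfl⟩
      · exfalso
        apply h
        refine ⟨z₁ / z₂, ?_⟩
        field_simp
        linear_combination -hz'
    have hiso : QIso (Cfsg.quadFormMinus 0 F 0 1) (dQ (fun _ : Fin 2 => (1 : F))) := by
      refine (minus_iso h2 0 0 1).trans (dQ_classify hF _ _ ?_ ?_ ?_ ?_ 1 one_ne_zero ?_)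
      · intro i
        rcases i with (i | i) | i
        · exact i.elim0
        · exact i.elim0
        · fin_cases i <;> simp
      · intro i; simp
      · simp
      · simp
      · simp [Fintype.prod_sum_type, Fin.prod_univ_two]
    obtain ⟨e⟩ := hiso.isometryGroup_equiv
    rw [← Nat.card_congr e.toEquiv]
    have := Cfsg.Agent.S0288.result (F := F) rfl 1 le_rfl 0 1 hab
    simpa using this

end grp

end Cfsg.Agent.Lib.Helper44
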