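import Mathlib

set_option autoImplicit false

namespace Cfsg.Agent.Lib.Helper44

open scoped commutatorElement

/-- Squares lie in the derived subgroup (the abelianisation has exponent two). -/
def SqInComm (H : Type*) [Group H] : Prop := ∀ x : H, x ^ 2 ∈ commutator H

theorem map_commutator_equiv {H H' : Type*} [Group H] [Group H'] (e : H ≃* H') :
    (commutator H).map e.toMonoidHom = commutator H' := by
  rw [commutator_def, commutator_def, Subgroup.map_commutator, ← MonoidHom.range_eq_map,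
    MonoidHom.range_eq_top.mpr e.surjective]

theorem SqInComm.of_mulEquiv {H H' : Type*} [Group H] [Group H'] (e : H ≃* H')
    (h : SqInComm H) : SqInComm H' := by
  intro x
  have h1 := h (e.symm x)
  have h2 : e.toMonoidHom (e.symm x ^ 2) ∈ (commutator H).map e.toMonoidHom :=
    Subgroup.mem_map_of_mem _ h1
  rw [map_commutator_equiv] at h2
  simpa using h2

/-- The commutator subgroups of isomorphic groups are isomorphic. -/
noncomputable def commutatorEquiv {H H' : Type*} [Group H] [Group H'] (e : H ≃* H') :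
    ↥(commutator H) ≃* ↥(commutator H') :=
  (e.subgroupMap (commutator H)).trans (MulEquiv.subgroupCongr (map_commutator_equiv e))

/-- A subgroup generated by elements conjugate (inside it) to their inverses has an
abelianisation of exponent two. -/
theorem sqInComm_of_real_gen {G : Type*} [Group G] (P : Subgroup G) (X : Set G)
    (hX : P ≤ Subgroup.closure X) (hXP : X ⊆ P)
    (hreal : ∀ x ∈ X, ∃ y ∈ P, y * x * y⁻¹ = x⁻¹) : SqInComm ↥P := by
  intro x
  let f : ↥P →* Abelianization ↥P := (powMonoidHom 2).comp Abelianization.of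
  have hker : ∀ z : ↥P, f z = 1 ↔ z ^ 2 ∈ commutator ↥P := by
    intro z
    show (Abelianization.of z) ^ 2 = 1 ↔ _
    rw [← map_pow, ← MonoidHom.mem_ker, Abelianization.ker_of]
  rw [← hker]
  have hle : Subgroup.closure X ≤ (f.ker).map P.subtype := by
    rw [Subgroup.closure_le]
    intro z hz
    have hzP : z ∈ P := hXP hz
    obtain ⟨y, hy, hyz⟩ := hreal z hz
    refine ⟨⟨z, hzP⟩, ?_, rfl⟩
    show f ⟨z, hzP⟩ = 1
    rw [hker]
    have e1 : (⟨z, hzP⟩ : ↥P) ^ 2 = ⁅(⟨z, hzP⟩ : ↥P), (⟨y, hy⟩ : ↥P)⁆ := by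
      apply Subtype.ext
      rw [commutatorElement_def]
      show z ^ 2 = z * y * z⁻¹ * y⁻¹
      have : y * z⁻¹ * y⁻¹ = z := by
        have h3 : y * z⁻¹ * y⁻¹ = (y * z * y⁻¹)⁻¹ := by group
        rw [h3, hyz, inv_inv]
      calc z ^ 2 = z * (y * z⁻¹ * y⁻¹) := by rw [this, pow_two]
        _ = z * y * z⁻¹ * y⁻¹ := by group
    rw [e1, commutator_def]
    exact Subgroup.commutator_mem_commutator (Subgroup.mem_top _) (Subgroup.mem_top _)
  obtain ⟨x', hx', hxx⟩ := hle (hX x.2)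
  have : x' = x := Subtype.ext hxx
  rw [← this]; exact hx'

/-- Normal form in `H ⊔ K` when `K` normalises `H`. -/
theorem mem_sup_of_normalizes {G : Type*} [Group G] (H K : Subgroup G)
    (hn : ∀ k ∈ K, ∀ h ∈ H, k * h * k⁻¹ ∈ H) {g : G} (hg : g ∈ H ⊔ K) :
    ∃ h ∈ H, ∃ k ∈ K, g = h * k := by
  let M : Subgroup G :=
    { carrier := {g | ∃ h ∈ H, ∃ k ∈ K, g = h * k}
      one_mem' := ⟨1, H.one_mem, 1, K.one_mem, by simp⟩
      mul_mem' := by
        rintro _ _ ⟨h₁, hh₁, k₁, hk₁, rfl⟩ ⟨h₂, hh₂, k₂, hk₂, rfl⟩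
        exact ⟨h₁ * (k₁ * h₂ * k₁⁻¹), H.mul_mem hh₁ (hn k₁ hk₁ h₂ hh₂), k₁ * k₂,
          K.mul_mem hk₁ hk₂, by group⟩
      inv_mem' := by
        rintro _ ⟨h, hh, k, hk, rfl⟩
        refine ⟨k⁻¹ * h⁻¹ * k⁻¹⁻¹, hn k⁻¹ (K.inv_mem hk) h⁻¹ (H.inv_mem hh), k⁻¹, K.inv_mem hk, ?_⟩
        group }
  have hle : H ⊔ K ≤ M := by
    apply sup_le
    · intro h hh; exact ⟨h, hh, 1, K.one_mem, by simp⟩
    · intro k hk; exact ⟨1, H.one_mem, k, hk, by simp⟩
  exact hle hg

theorem card_sup_of_normalizes {G : Type*} [Group G] (H K : Subgroup G)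
    (hn : ∀ k ∈ K, ∀ h ∈ H, k * h * k⁻¹ ∈ H) (hd : H ⊓ K = ⊥) :
    Nat.card ↥(H ⊔ K) = Nat.card H * Nat.card K := by
  rw [← Nat.card_prod]
  symm
  let f : ↥H × ↥K → ↥(H ⊔ K) := fun p =>
    ⟨p.1 * p.2, (H ⊔ K).mul_mem ((le_sup_left : H ≤ H ⊔ K) p.1.2) ((le_sup_right : K ≤ H ⊔ K) p.2.2)⟩
  apply Nat.card_congr (Equiv.ofBijective f ⟨?_, ?_⟩)
  · rintro ⟨⟨h₁, hh₁⟩, ⟨k₁, hk₁⟩⟩ ⟨⟨h₂, hh₂⟩, ⟨k₂, hk₂⟩⟩ hf
    have h1 : h₁ * k₁ = h₂ * k₂ := congrArg Subtype.val hf
    have h2 : h₂⁻¹ * h₁ = k₂ * k₁⁻¹ := by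
      calc h₂⁻¹ * h₁ = h₂⁻¹ * (h₁ * k₁) * k₁⁻¹ := by group
        _ = h₂⁻¹ * (h₂ * k₂) * k₁⁻¹ := by rw [h1]
        _ = k₂ * k₁⁻¹ := by group
    have h3 : h₂⁻¹ * h₁ ∈ H ⊓ K :=
      ⟨H.mul_mem (H.inv_mem hh₂) hh₁, h2 ▸ K.mul_mem hk₂ (K.inv_mem hk₁)⟩
    rw [hd, Subgroup.mem_bot] at h3
    have h4 : h₁ = h₂ := by rw [inv_mul_eq_one] at h3; exact h3.symm
    subst h4
    have h5 : k₁ = k₂ := mul_left_cancel h1
    subst h5
    rfl
  · rintro ⟨g, hg⟩
    obtain ⟨h, hh, k, hk, rfl⟩ := mem_sup_of_normalizes H K hn hg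
    exact ⟨(⟨h, hh⟩, ⟨k, hk⟩), rfl⟩

/-- If one Sylow `2`-subgroup has the property, all have. -/
theorem sylow_sqInComm_of_one {N : Type*} [Group N] [Finite N] (Q : Sylow 2 N)
    (h : SqInComm ↥(Q : Subgroup N)) (P : Sylow 2 N) : SqInComm ↥(P : Subgroup N) := by
  have : Fact (Nat.Prime 2) := ⟨Nat.prime_two⟩
  exact SqInComm.of_mulEquiv (Sylow.equiv Q P) h

/-- A `2`-subgroup `W` of odd index in `G` meets a normal subgroup `N` in a Sylow
`2`-subgroup of `N`. -/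
theorem sylow_sqInComm {G : Type*} [Group G] [Finite G] (N : Subgroup G) [N.Normal]
    (W : Subgroup G) (hW : IsPGroup 2 W) (hidx : Odd W.index)
    (h : SqInComm ↥(W ⊓ N)) : ∀ P : Sylow 2 N, SqInComm ↥(P : Subgroup N) := by
  have : Fact (Nat.Prime 2) := ⟨Nat.prime_two⟩
  have hP₁p : IsPGroup 2 ((W ⊓ N).subgroupOf N) := by
    have : IsPGroup 2 ↥(W ⊓ N) := hW.to_le inf_le_left
    exact this.comap_of_injective _ (Subgroup.subtype_injective N)
  have hrel : W.relIndex N = W.relIndex (W ⊔ N) := by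
    have e1 := Subgroup.relIndex_mul_relIndex (W ⊓ N) W (W ⊔ N) inf_le_left le_sup_left
    have e2 := Subgroup.relIndex_mul_relIndex (W ⊓ N) N (W ⊔ N) inf_le_right le_sup_right
    rw [Subgroup.inf_relIndex_left, ← Subgroup.relIndex_sup_right W N] at e1
    rw [Subgroup.inf_relIndex_right] at e2
    have hne : N.relIndex (W ⊔ N) ≠ 0 := by
      rw [Subgroup.relIndex]; exact Subgroup.index_ne_zero_of_finite
    have : N.relIndex (W ⊔ N) * W.relIndex (W ⊔ N) = N.relIndex (W ⊔ N) * W.relIndex N := by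
      rw [e1, ← e2, mul_comm]
    exact (Nat.eq_of_mul_eq_mul_left (Nat.pos_of_ne_zero hne) this).symm
  have hP₁i : ¬ 2 ∣ ((W ⊓ N).subgroupOf N).index := by
    have e1 : ((W ⊓ N).subgroupOf N).index = W.relIndex N := by
      rw [← Subgroup.relIndex, Subgroup.inf_relIndex_right]
    rw [e1, hrel]
    intro h2
    have h3 : 2 ∣ W.index := h2.trans (Subgroup.relIndex_dvd_index_of_le le_sup_left)
    rw [Nat.odd_iff] at hidx
    omega
  intro P
  refine sylow_sqInComm_of_one (hP₁p.toSylow hP₁i) ?_ P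
  exact SqInComm.of_mulEquiv (Subgroup.subgroupOfEquivOfLe inf_le_right).symm h

/-- Transport along an isomorphism. -/
theorem sylow_sqInComm_of_mulEquiv {N N' : Type*} [Group N] [Group N'] [Finite N] (e : N ≃* N')
    (h : ∀ P : Sylow 2 N', SqInComm ↥(P : Subgroup N')) :
    ∀ P : Sylow 2 N, SqInComm ↥(P : Subgroup N) := by
  have : Fact (Nat.Prime 2) := ⟨Nat.prime_two⟩
  have : Finite N' := Finite.of_equiv N e.toEquiv
  intro P
  have hr : (P : Subgroup N) ≤ e.symm.toMonoidHom.range := by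
    rw [MonoidHom.range_eq_top.mpr e.symm.surjective]; exact le_top
  let P' : Sylow 2 N' := P.comapOfInjective e.symm.toMonoidHom e.symm.injective hr
  have h1 := h P'
  have hmap : ((P' : Subgroup N')).map e.symm.toMonoidHom = (P : Subgroup N) := by
    show ((P : Subgroup N).comap e.symm.toMonoidHom).map e.symm.toMonoidHom = _
    exact Subgroup.map_comap_eq_self_of_surjective e.symm.surjective _
  exact SqInComm.of_mulEquiv
    ((e.symm.subgroupMap (P' : Subgroup N')).trans (MulEquiv.subgroupCongr hmap)) h1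

end Cfsg.Agent.Lib.Helper44
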