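import Mathlib
import Cfsg.Agent.Lib.Helper44.RealGen

set_option autoImplicit false

namespace Cfsg.Agent.Lib.Helper44

/-- A subgroup generated by its involutions. -/
def InvGen {G : Type*} [Group G] (S : Subgroup G) : Prop :=
  S ≤ Subgroup.closure {σ | σ ∈ S ∧ σ ^ 2 = 1}

theorem InvGen.map {G G' : Type*} [Group G] [Group G'] {S : Subgroup G} (h : InvGen S)
    (f : G →* G') : InvGen (S.map f) := by
  unfold InvGen at h ⊢
  refine (Subgroup.map_mono h).trans ?_
  rw [MonoidHom.map_closure, Subgroup.closure_le]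
  rintro _ ⟨σ, ⟨hσ, hσ2⟩, rfl⟩
  apply Subgroup.subset_closure
  exact ⟨Subgroup.mem_map_of_mem f hσ, by rw [← map_pow, hσ2, map_one]⟩

theorem InvGen.sup {G : Type*} [Group G] {H K : Subgroup G} (hH : InvGen H) (hK : InvGen K) :
    InvGen (H ⊔ K) := by
  unfold InvGen at hH hK ⊢
  apply sup_le
  · refine hH.trans (Subgroup.closure_mono ?_)
    rintro σ ⟨h1, h2⟩
    exact ⟨(le_sup_left : H ≤ H ⊔ K) h1, h2⟩
  · refine hK.trans (Subgroup.closure_mono ?_)
    rintro σ ⟨h1, h2⟩
    exact ⟨(le_sup_right : K ≤ H ⊔ K) h1, h2⟩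

theorem card_range_of_inj {G G' : Type*} [Group G] [Group G'] (f : G →* G')
    (hf : Function.Injective f) : Nat.card f.range = Nat.card G :=
  Nat.card_congr (MonoidHom.ofInjective hf).toEquiv.symm

theorem invGen_of_exp_two {G : Type*} [Group G] (S : Subgroup G) (h : ∀ x ∈ S, x ^ 2 = 1) :
    InvGen S := by
  intro x hx
  exact Subgroup.subset_closure ⟨hx, h x hx⟩

section homs

set_option linter.unusedSectionVars false

variable (T : Type) [DecidableEq T]

/-- Swaps inside the pairs `{(t, 0), (t, 1)}`. -/
def pairSwapHom : (T → Equiv.Perm (Fin 2)) →* Equiv.Perm (T × Fin 2) where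
  toFun f := Equiv.prodShear (Equiv.refl T) f
  map_one' := by ext ⟨t, a⟩ <;> rfl
  map_mul' f g := by ext ⟨t, a⟩ <;> rfl

/-- Permutations of the pairs. -/
def pairPermHom : Equiv.Perm T →* Equiv.Perm (T × Fin 2) where
  toFun σ := Equiv.prodCongr σ (Equiv.refl _)
  map_one' := by ext ⟨t, a⟩ <;> rfl
  map_mul' f g := by ext ⟨t, a⟩ <;> rfl

theorem pairSwapHom_apply (f : T → Equiv.Perm (Fin 2)) (t : T) (a : Fin 2) :
    pairSwapHom T f (t, a) = (t, f t a) := rfl

theorem pairPermHom_apply (σ : Equiv.Perm T) (t : T) (a : Fin 2) :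
    pairPermHom T σ (t, a) = (σ t, a) := rfl

theorem pairSwapHom_injective : Function.Injective (pairSwapHom T) := by
  intro f g h
  funext t
  ext a
  have := congrArg (fun p : Equiv.Perm (T × Fin 2) => (p (t, a)).2) h
  simp only [pairSwapHom_apply] at this
  rw [this]

theorem pairPermHom_injective : Function.Injective (pairPermHom T) := by
  intro f g h
  ext t
  have := congrArg (fun p : Equiv.Perm (T × Fin 2) => (p (t, 0)).1) h
  simpa only [pairPermHom_apply] using this

theorem pairPerm_conj (σ : Equiv.Perm T) (f : T → Equiv.Perm (Fin 2)) :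
    pairPermHom T σ * pairSwapHom T f * (pairPermHom T σ)⁻¹ = pairSwapHom T (f ∘ σ.symm) := by
  ext ⟨t, a⟩
  · show ((pairPermHom T σ) ((pairSwapHom T f) ((pairPermHom T σ)⁻¹ (t, a)))).1 = t
    have : (pairPermHom T σ)⁻¹ (t, a) = (σ.symm t, a) := by
      rw [Equiv.Perm.inv_eq_iff_eq, pairPermHom_apply]; simp
    rw [this, pairSwapHom_apply, pairPermHom_apply]
    simp
  · show (((pairPermHom T σ) ((pairSwapHom T f) ((pairPermHom T σ)⁻¹ (t, a)))).2 : ℕ) = _
    have : (pairPermHom T σ)⁻¹ (t, a) = (σ.symm t, a) := by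
      rw [Equiv.Perm.inv_eq_iff_eq, pairPermHom_apply]; simp
    rw [this, pairSwapHom_apply, pairPermHom_apply]
    rfl

end homs

theorem perm_fin_two_sq (p : Equiv.Perm (Fin 2)) : p * p = 1 := by
  revert p; decide

/-- Every symmetric group has a Sylow `2`-subgroup generated by involutions. -/
theorem exists_sylow_perm (n : ℕ) : ∀ (T : Type) [Fintype T] [DecidableEq T],
    Fintype.card T = n →
    ∃ S : Subgroup (Equiv.Perm T), Nat.card S = 2 ^ padicValNat 2 n.factorial ∧ InvGen S := by
  induction n using Nat.strong_induction_on with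
  | _ n ih =>
    intro T _ _ hT
    have : Fact (Nat.Prime 2) := ⟨Nat.prime_two⟩
    by_cases hn : n < 2
    · refine ⟨⊥, ?_, invGen_of_exp_two _ (fun x hx => by rw [Subgroup.mem_bot.mp hx, one_pow])⟩
      have : n.factorial = 1 := by
        interval_cases n <;> rfl
      rw [this]
      simp
    · -- model type
      obtain ⟨S', hS'c, hS'g⟩ := ih (n / 2) (by omega) (Fin (n / 2)) (by simp)
      have hcard : Fintype.card T = Fintype.card ((Fin (n / 2) × Fin 2) ⊕ Fin (n % 2)) := by
        rw [hT]
        simp only [Fintype.card_sum, Fintype.card_prod, Fintype.card_fin]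
        omega
      let e : T ≃ (Fin (n / 2) × Fin 2) ⊕ Fin (n % 2) := Fintype.equivOfCardEq hcard
      -- the group on pairs
      let Cs : Subgroup (Equiv.Perm (Fin (n / 2) × Fin 2)) := (pairSwapHom (Fin (n / 2))).range
      let Δ : Subgroup (Equiv.Perm (Fin (n / 2) × Fin 2)) := S'.map (pairPermHom (Fin (n / 2)))
      have hnorm : ∀ k ∈ Δ, ∀ h ∈ Cs, k * h * k⁻¹ ∈ Cs := by
        rintro _ ⟨σ, -, rfl⟩ _ ⟨f, rfl⟩
        exact ⟨_, (pairPerm_conj _ σ f).symm⟩
      have hdisj : Cs ⊓ Δ = ⊥ := by
        rw [eq_bot_iff]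
        rintro x ⟨⟨f, rfl⟩, ⟨σ, -, hσ⟩⟩
        rw [Subgroup.mem_bot]
        have h1 : σ = 1 := by
          ext t
          have := congrArg (fun p : Equiv.Perm (Fin (n / 2) × Fin 2) => (p (t, 0)).1) hσ
          simp only [pairPermHom_apply, pairSwapHom_apply] at this
          rw [this]; rfl
        rw [← hσ, h1, map_one]
      have hcC : Nat.card Cs = 2 ^ (n / 2) := by
        show Nat.card (pairSwapHom (Fin (n / 2))).range = _
        rw [card_range_of_inj _ (pairSwapHom_injective (Fin (n / 2))),
          Nat.card_eq_fintype_card, Fintype.card_pi]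
        simp [Fintype.card_perm]
      have hcΔ : Nat.card Δ = 2 ^ padicValNat 2 (n / 2).factorial := by
        rw [Subgroup.card_map_of_injective (pairPermHom_injective (Fin (n / 2))), hS'c]
      have hc1 : Nat.card ↥(Cs ⊔ Δ) = 2 ^ padicValNat 2 n.factorial := by
        rw [card_sup_of_normalizes Cs Δ hnorm hdisj, hcC, hcΔ, ← pow_add]
        congr 1
        have h1 : padicValNat 2 (2 * (n / 2)).factorial = padicValNat 2 (n / 2).factorial + n / 2 :=
          padicValNat_factorial_mul (n / 2)
        rcases Nat.mod_two_eq_zero_or_one n with h0 | h0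
        · have : 2 * (n / 2) = n := by omega
          rw [this] at h1
          omega
        · have e2 : n = 2 * (n / 2) + 1 := by omega
          have h2 : padicValNat 2 n.factorial = padicValNat 2 (2 * (n / 2)).factorial := by
            conv_lhs => rw [e2]
            rw [Nat.factorial_succ, padicValNat.mul (by omega) (Nat.factorial_ne_zero _),
              padicValNat.eq_zero_of_not_dvd (by omega), zero_add]
          omega
      have hg1 : InvGen (Cs ⊔ Δ) := by
        apply InvGen.sup
        · apply invGen_of_exp_two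
          rintro _ ⟨f, rfl⟩
          rw [← map_pow]
          have : f ^ 2 = 1 := by
            funext t
            rw [pow_two]
            exact perm_fin_two_sq (f t)
          rw [this, map_one]
        · exact hS'g.map _
      -- extend to the sum and transport
      let ext : Equiv.Perm (Fin (n / 2) × Fin 2) →* Equiv.Perm ((Fin (n / 2) × Fin 2) ⊕ Fin (n % 2)) :=
        (Equiv.Perm.sumCongrHom _ _).comp (MonoidHom.inl _ _)
      have hext : Function.Injective ext := by
        intro a b hab
        have := Equiv.Perm.sumCongrHom_injective hab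
        exact (Prod.mk.inj this).1
      refine ⟨((Cs ⊔ Δ).map ext).map e.symm.permCongrHom.toMonoidHom, ?_, (hg1.map ext).map _⟩
      rw [Subgroup.card_map_of_injective e.symm.permCongrHom.injective,
        Subgroup.card_map_of_injective hext, hc1]

end Cfsg.Agent.Lib.Helper44
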