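import Mathlib
import Cfsg.Agent.Lib.Helper44.RealGen

set_option autoImplicit false

namespace Cfsg.Agent.Lib.Helper44

open scoped commutatorElement

section

variable {G A C T : Type*} [Group G] [Group A] [Group C] [DecidableEq T]

theorem pair_apply (x y : A) (t t' : T) (h : t ≠ t') (v : T) :
    (Pi.mulSingle t x * Pi.mulSingle t' y : T → A) v
      = if v = t then x else if v = t' then y else 1 := by
  rw [Pi.mul_apply, Pi.mulSingle_apply, Pi.mulSingle_apply]
  by_cases h1 : v = t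
  · subst h1
    simp [h]
  · simp [h1]

theorem inv_eq_self_of_sq {M : Type*} [Group M] (r : M) (h : r ^ 2 = 1) : r⁻¹ = r := by
  rw [pow_two] at h
  exact inv_eq_of_mul_eq_one_left h

/-- The abelianisation of `(A ≀ S ⋊ signs) ∩ G'` has exponent two, when `A` is "dihedral-like"
and `S` is generated by involutions. -/
theorem wreath_sqInComm [Finite T]
    (β : (T → A) × C →* G) (π : Equiv.Perm T →* G) (S : Subgroup (Equiv.Perm T))
    (hconj : ∀ (σ : Equiv.Perm T) (d : T → A) (e : C),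
      π σ * β (d, e) * (π σ)⁻¹ = β (d ∘ σ.symm, e))
    (hC : ∀ e : C, e ^ 2 = 1)
    (r : A) (hr2 : r ^ 2 = 1) (hD : ∀ y : A, y ^ 2 = 1 ∨ r * y * r⁻¹ = y⁻¹)
    (hS : S ≤ Subgroup.closure {σ | σ ∈ S ∧ σ ^ 2 = 1})
    (hπN : ∀ σ, π σ ∈ commutator G)
    (t₀ t₁ : T) (h01 : t₀ ≠ t₁) :
    SqInComm ↥((β.range ⊔ S.map π) ⊓ commutator G) := by
  classical
  have hrinv : r⁻¹ = r := inv_eq_self_of_sq r hr2
  have hWβ : ∀ p, β p ∈ β.range ⊔ S.map π := fun p =>
    (le_sup_left : β.range ≤ β.range ⊔ S.map π) ⟨p, rfl⟩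
  apply sqInComm_of_real_gen ((β.range ⊔ S.map π) ⊓ commutator G)
    {x | x ∈ (β.range ⊔ S.map π) ⊓ commutator G ∧
      ∃ y ∈ (β.range ⊔ S.map π) ⊓ commutator G, y * x * y⁻¹ = x⁻¹} ?_
    (fun x hx => hx.1) (fun x hx => hx.2)
  -- pair elements lie in the commutator subgroup
  have hpair : ∀ (x : A) (t t' : T), t ≠ t' →
      β (Pi.mulSingle t x * Pi.mulSingle t' x⁻¹, 1) ∈ commutator G := by
    intro x t t' htt
    have e1 : β (Pi.mulSingle t x * Pi.mulSingle t' x⁻¹, 1)
        = ⁅β (Pi.mulSingle t x, 1), π (Equiv.swap t t')⁆ := by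
      rw [commutatorElement_def]
      have h1 := hconj (Equiv.swap t t') (Pi.mulSingle t x⁻¹) 1
      have h2 : (β (Pi.mulSingle t x, 1))⁻¹ = β (Pi.mulSingle t x⁻¹, 1) := by
        rw [← map_inv]
        congr 1
        rw [Prod.inv_mk, ← Pi.mulSingle_inv, inv_one]
      have h3 : (Pi.mulSingle t x⁻¹ : T → A) ∘ (Equiv.swap t t').symm = Pi.mulSingle t' x⁻¹ := by
        funext u
        simp only [Function.comp_apply, Equiv.symm_swap]
        by_cases hu : u = t'
        · subst hu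
          rw [Equiv.swap_apply_right, Pi.mulSingle_eq_same, Pi.mulSingle_eq_same]
        · by_cases hu2 : u = t
          · subst hu2
            rw [Equiv.swap_apply_left, Pi.mulSingle_eq_of_ne (Ne.symm htt),
              Pi.mulSingle_eq_of_ne htt]
          · rw [Equiv.swap_apply_of_ne_of_ne hu2 hu, Pi.mulSingle_eq_of_ne hu2,
              Pi.mulSingle_eq_of_ne hu]
      rw [mul_assoc (β _) (π _), mul_assoc (β _), h2, h1, h3, ← map_mul]
      congr 1
      rw [Prod.mk_mul_mk, mul_one]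
    rw [e1, commutator_def]
    exact Subgroup.commutator_mem_commutator (Subgroup.mem_top _) (Subgroup.mem_top _)
  have hpairP : ∀ (x : A) (t t' : T), t ≠ t' →
      β (Pi.mulSingle t x * Pi.mulSingle t' x⁻¹, 1) ∈ (β.range ⊔ S.map π) ⊓ commutator G :=
    fun x t t' htt => ⟨hWβ _, hpair x t t' htt⟩
  -- pair elements are real
  have hpairX : ∀ (x : A) (t t' : T), t ≠ t' →
      β (Pi.mulSingle t x * Pi.mulSingle t' x⁻¹, 1) ∈
        {x | x ∈ (β.range ⊔ S.map π) ⊓ commutator G ∧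
          ∃ y ∈ (β.range ⊔ S.map π) ⊓ commutator G, y * x * y⁻¹ = x⁻¹} := by
    intro x t t' htt
    refine ⟨hpairP x t t' htt, ?_⟩
    rcases hD x with hx | hx
    · refine ⟨1, Subgroup.one_mem _, ?_⟩
      rw [one_mul, inv_one, mul_one, eq_comm]
      apply inv_eq_of_mul_eq_one_left
      rw [← map_mul, Prod.mk_mul_mk, mul_one]
      have : (Pi.mulSingle t x * Pi.mulSingle t' x⁻¹ : T → A) *
          (Pi.mulSingle t x * Pi.mulSingle t' x⁻¹) = 1 := by
        funext v
        rw [Pi.mul_apply, pair_apply x x⁻¹ t t' htt]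
        have hx' : x⁻¹ * x⁻¹ = 1 := by rw [← mul_inv_rev, ← pow_two, hx, inv_one]
        rw [pow_two] at hx
        split_ifs <;> simp [hx, hx']
      rw [this]
      exact map_one β
    · refine ⟨β (Pi.mulSingle t r * Pi.mulSingle t' r⁻¹, 1), hpairP r t t' htt, ?_⟩
      rw [← map_inv, ← map_mul, ← map_mul, ← map_inv]
      congr 1
      refine Prod.ext ?_ ?_
      · show (Pi.mulSingle t r * Pi.mulSingle t' r⁻¹ : T → A) *
            (Pi.mulSingle t x * Pi.mulSingle t' x⁻¹) * (Pi.mulSingle t r * Pi.mulSingle t' r⁻¹)⁻¹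
            = (Pi.mulSingle t x * Pi.mulSingle t' x⁻¹)⁻¹
        funext v
        rw [Pi.mul_apply, Pi.mul_apply, Pi.inv_apply, Pi.inv_apply, pair_apply r r⁻¹ t t' htt,
          pair_apply x x⁻¹ t t' htt]
        have hx2 : r * x⁻¹ * r⁻¹ = x := by
          have : r * x⁻¹ * r⁻¹ = (r * x * r⁻¹)⁻¹ := by group
          rw [this, hx, inv_inv]
        split_ifs
        · exact hx
        · rw [hrinv, inv_inv]
          exact hx2
        · simp
      · show (1 : C) * 1 * 1⁻¹ = 1⁻¹
        simp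
  -- base elements
  have hbase : ∀ (y : A) (e : C), β (Pi.mulSingle t₀ y, e) ∈ commutator G →
      β (Pi.mulSingle t₀ y, e) ∈
        {x | x ∈ (β.range ⊔ S.map π) ⊓ commutator G ∧
          ∃ y ∈ (β.range ⊔ S.map π) ⊓ commutator G, y * x * y⁻¹ = x⁻¹} := by
    intro y e hye
    refine ⟨⟨hWβ _, hye⟩, ?_⟩
    have he : e⁻¹ = e := inv_eq_self_of_sq e (hC e)
    rcases hD y with hy | hy
    · refine ⟨1, Subgroup.one_mem _, ?_⟩
      rw [one_mul, inv_one, mul_one, eq_comm]
      apply inv_eq_of_mul_eq_one_left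
      rw [← map_mul, Prod.mk_mul_mk, ← Pi.mulSingle_mul, ← pow_two, hy, ← pow_two, hC e,
        Pi.mulSingle_one]
      exact map_one β
    · refine ⟨β (Pi.mulSingle t₀ r * Pi.mulSingle t₁ r⁻¹, 1), hpairP r t₀ t₁ h01, ?_⟩
      rw [← map_inv, ← map_mul, ← map_mul, ← map_inv]
      congr 1
      refine Prod.ext ?_ ?_
      · show (Pi.mulSingle t₀ r * Pi.mulSingle t₁ r⁻¹ : T → A) * Pi.mulSingle t₀ y *
            (Pi.mulSingle t₀ r * Pi.mulSingle t₁ r⁻¹)⁻¹ = (Pi.mulSingle t₀ y)⁻¹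
        funext v
        rw [Pi.mul_apply, Pi.mul_apply, Pi.inv_apply, Pi.inv_apply, pair_apply r r⁻¹ t₀ t₁ h01,
          Pi.mulSingle_apply]
        by_cases hv : v = t₀
        · simp only [hv, if_true]
          exact hy
        · simp only [hv, if_false]
          simp
      · show (1 : C) * e * 1⁻¹ = e⁻¹
        rw [he]
        simp
  -- induction on the support
  have hind : ∀ s : Finset T, t₀ ∉ s → ∀ (d : T → A) (e : C),
      (∀ t, t ∉ s → t ≠ t₀ → d t = 1) → β (d, e) ∈ commutator G →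
      β (d, e) ∈ Subgroup.closure
        {x | x ∈ (β.range ⊔ S.map π) ⊓ commutator G ∧
          ∃ y ∈ (β.range ⊔ S.map π) ⊓ commutator G, y * x * y⁻¹ = x⁻¹} := by
    intro s
    induction s using Finset.induction_on with
    | empty =>
      intro _ d e hd hde
      have e1 : d = Pi.mulSingle t₀ (d t₀) := by
        funext t
        by_cases ht : t = t₀
        · subst ht; simp
        · rw [Pi.mulSingle_apply, if_neg ht]
          exact hd t (Finset.notMem_empty t) ht
      rw [e1] at hde ⊢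
      exact Subgroup.subset_closure (hbase _ e hde)
    | insert t s ht ih =>
      intro ht0 d e hd hde
      have htt0 : t ≠ t₀ := fun h => ht0 (h ▸ Finset.mem_insert_self t s)
      have ht0s : t₀ ∉ s := fun h => ht0 (Finset.mem_insert_of_mem h)
      have hu := hpairX (d t) t t₀ htt0
      have e1 : β (d, e) = β (d * (Pi.mulSingle t (d t) * Pi.mulSingle t₀ (d t)⁻¹)⁻¹, e) *
          β (Pi.mulSingle t (d t) * Pi.mulSingle t₀ (d t)⁻¹, 1) := by
        rw [← map_mul, Prod.mk_mul_mk, mul_one, inv_mul_cancel_right]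
      have h1 : β (d * (Pi.mulSingle t (d t) * Pi.mulSingle t₀ (d t)⁻¹)⁻¹, e) ∈ commutator G := by
        have : β (d * (Pi.mulSingle t (d t) * Pi.mulSingle t₀ (d t)⁻¹)⁻¹, e) = β (d, e) *
            (β (Pi.mulSingle t (d t) * Pi.mulSingle t₀ (d t)⁻¹, 1))⁻¹ := by
          rw [e1, mul_inv_cancel_right]
        rw [this]
        exact Subgroup.mul_mem _ hde (Subgroup.inv_mem _ hu.1.2)
      have h2 := ih ht0s (d * (Pi.mulSingle t (d t) * Pi.mulSingle t₀ (d t)⁻¹)⁻¹) e ?_ h1
      · rw [e1]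
        exact Subgroup.mul_mem _ h2 (Subgroup.subset_closure hu)
      · intro v hv hv0
        rw [Pi.mul_apply, Pi.inv_apply, pair_apply (d t) (d t)⁻¹ t t₀ htt0]
        by_cases hvt : v = t
        · subst hvt; simp
        · rw [if_neg hvt, if_neg hv0, inv_one, mul_one]
          exact hd v (fun h => by
            rcases Finset.mem_insert.mp h with h | h
            · exact hvt h
            · exact hv h) hv0
  -- conclusion
  intro w hw
  have hn : ∀ k ∈ S.map π, ∀ h ∈ β.range, k * h * k⁻¹ ∈ β.range := by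
    rintro _ ⟨σ, -, rfl⟩ _ ⟨⟨d, e⟩, rfl⟩
    exact ⟨_, (hconj σ d e).symm⟩
  obtain ⟨h, hh, k, hk, rfl⟩ := mem_sup_of_normalizes β.range (S.map π) hn hw.1
  obtain ⟨σ, hσ, rfl⟩ := hk
  have hσc : π σ ∈ Subgroup.closure
        {x | x ∈ (β.range ⊔ S.map π) ⊓ commutator G ∧
          ∃ y ∈ (β.range ⊔ S.map π) ⊓ commutator G, y * x * y⁻¹ = x⁻¹} := by
    have hle : Subgroup.closure {σ | σ ∈ S ∧ σ ^ 2 = 1} ≤ (Subgroup.closure
        {x | x ∈ (β.range ⊔ S.map π) ⊓ commutator G ∧
          ∃ y ∈ (β.range ⊔ S.map π) ⊓ commutator G, y * x * y⁻¹ = x⁻¹}).comap π := by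
      rw [Subgroup.closure_le]
      rintro τ ⟨hτS, hτ2⟩
      apply Subgroup.subset_closure
      refine ⟨⟨(le_sup_right : S.map π ≤ β.range ⊔ S.map π) (Subgroup.mem_map_of_mem π hτS),
        hπN τ⟩, 1, Subgroup.one_mem _, ?_⟩
      rw [one_mul, inv_one, mul_one, eq_comm]
      apply inv_eq_of_mul_eq_one_left
      rw [← map_mul, ← pow_two, hτ2, map_one]
    exact hle (hS hσ)
  obtain ⟨⟨d, e⟩, rfl⟩ := hh
  have hde : β (d, e) ∈ commutator G := by
    have : β (d, e) = β (d, e) * π σ * (π σ)⁻¹ := by group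
    rw [this]
    exact Subgroup.mul_mem _ hw.2 (Subgroup.inv_mem _ (hπN σ))
  have hfin : Fintype T := Fintype.ofFinite T
  have h3 := hind (Finset.univ.erase t₀) (Finset.notMem_erase t₀ _) d e
    (fun t ht ht0 => absurd (Finset.mem_erase.mpr ⟨ht0, Finset.mem_univ t⟩) ht) hde
  exact Subgroup.mul_mem _ h3 hσc

end

end Cfsg.Agent.Lib.Helper44
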