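import Mathlib
import Cfsg.Prelude.Def_Classical
import Cfsg.Agent.Lib.Helper44.O2
import Cfsg.Agent.Lib.Helper44.Wreath
import Cfsg.Agent.Lib.Helper44.SymSyl

set_option autoImplicit false

namespace Cfsg.Agent.Lib.Helper44

open Matrix
open scoped commutatorElement

section perm

variable {F : Type*} [Field F] {ι : Type} [Fintype ι] [DecidableEq ι]

/-- Permutation matrix: `e_j ↦ e_{σ j}`. -/
def pmat (σ : Equiv.Perm ι) : Matrix ι ι F := fun i j => if i = σ j then 1 else 0

theorem pmat_mul_apply (σ : Equiv.Perm ι) (M : Matrix ι ι F) (i j : ι) :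
    ((pmat σ : Matrix ι ι F) * M) i j = M (σ.symm i) j := by
  rw [Matrix.mul_apply, Finset.sum_eq_single (σ.symm i)]
  · simp [pmat]
  · intro k _ hk
    have : i ≠ σ k := fun h => hk (by rw [h]; simp)
    simp [pmat, this]
  · intro h
    exact absurd (Finset.mem_univ _) h

theorem mul_pmat_apply (σ : Equiv.Perm ι) (M : Matrix ι ι F) (i j : ι) :
    (M * (pmat σ : Matrix ι ι F)) i j = M i (σ j) := by
  rw [Matrix.mul_apply, Finset.sum_eq_single (σ j)]
  · simp [pmat]
  · intro k _ hk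
    simp [pmat, hk]
  · intro h
    exact absurd (Finset.mem_univ _) h

variable (F) in
/-- Permutation matrices as a monoid homomorphism. -/
def pmatHom : Equiv.Perm ι →* Matrix ι ι F where
  toFun := pmat
  map_one' := by
    ext i j
    by_cases h : i = j <;> simp [pmat, Matrix.one_apply, h]
  map_mul' σ τ := by
    ext i j
    rw [pmat_mul_apply]
    simp only [pmat, Equiv.Perm.coe_mul, Function.comp_apply]
    by_cases h : i = σ (τ j)
    · have : σ.symm i = τ j := by rw [h]; simp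
      simp [h]
    · have : σ.symm i ≠ τ j := fun h' => h (by rw [← h']; simp)
      simp [h, this]

variable (F) in
/-- Permutation matrices in `GL`. -/
def pmatGL : Equiv.Perm ι →* GL ι F := (pmatHom F).toHomUnits

theorem pmatGL_val (σ : Equiv.Perm ι) : ((pmatGL F σ : GL ι F) : Matrix ι ι F) = pmat σ := rfl

theorem pmat_mulVec (σ : Equiv.Perm ι) (v : ι → F) :
    (pmat σ : Matrix ι ι F) *ᵥ v = fun i => v (σ.symm i) := by
  funext i
  rw [Matrix.mulVec, dotProduct, Finset.sum_eq_single (σ.symm i)]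
  · simp [pmat]
  · intro k _ hk
    have : i ≠ σ k := fun h => hk (by rw [h]; simp)
    simp [pmat, this]
  · intro h
    exact absurd (Finset.mem_univ _) h

theorem pmatGL_mem (c : ι → F) (σ : Equiv.Perm ι) (h : ∀ i, c (σ i) = c i) :
    pmatGL F σ ∈ Cfsg.isometryGroup F (dQ c) := by
  rw [mem_isometryGroup_iff']
  intro u
  rw [pmatGL_val, pmat_mulVec]
  show ∑ i, c i * u (σ.symm i) ^ 2 = ∑ i, c i * u i ^ 2
  rw [← Equiv.sum_comp σ]
  simp [h]

theorem pmatGL_injective : Function.Injective (pmatGL F (ι := ι)) := by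
  intro σ τ h
  have hm : (pmat σ : Matrix ι ι F) = pmat τ :=
    congrArg (fun g : GL ι F => (g : Matrix ι ι F)) h
  ext j
  have := congrFun (congrFun hm (σ j)) j
  simp only [pmat, if_true] at this
  by_contra hne
  rw [if_neg hne] at this
  exact one_ne_zero this

end perm

section model

set_option linter.unusedSectionVars false

variable {F : Type*} [Field F] (T L : Type) [Fintype T] [DecidableEq T] [Fintype L]
  [DecidableEq L]

/-- Coefficients of the model form: `1` on the planes, `cL` on the leftover part. -/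
def modelC (cL : L → F) : (Fin 2 × T) ⊕ L → F := Sum.elim (fun _ => 1) cL

/-- The isometry group of the model form. -/
abbrev OM (cL : L → F) : Subgroup (GL ((Fin 2 × T) ⊕ L) F) :=
  Cfsg.isometryGroup F (dQ (modelC T L cL))

/-- Block diagonal matrices. -/
def bmat (d : T → Matrix (Fin 2) (Fin 2) F) (e : L → F) :
    Matrix ((Fin 2 × T) ⊕ L) ((Fin 2 × T) ⊕ L) F :=
  Matrix.fromBlocks (Matrix.blockDiagonal d) 0 0 (Matrix.diagonal e)

/-- Block diagonal matrices as a monoid homomorphism. -/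
def bmatHom : (T → Matrix (Fin 2) (Fin 2) F) × (L → F) →*
    Matrix ((Fin 2 × T) ⊕ L) ((Fin 2 × T) ⊕ L) F where
  toFun p := bmat T L p.1 p.2
  map_one' := by
    show Matrix.fromBlocks (Matrix.blockDiagonal (1 : T → Matrix (Fin 2) (Fin 2) F)) 0 0
      (Matrix.diagonal (1 : L → F)) = 1
    rw [Matrix.blockDiagonal_one, ← Matrix.fromBlocks_one]
    congr
  map_mul' p q := by
    show Matrix.fromBlocks (Matrix.blockDiagonal (fun t => p.1 t * q.1 t)) 0 0
        (Matrix.diagonal (fun l => p.2 l * q.2 l)) =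
      Matrix.fromBlocks (Matrix.blockDiagonal p.1) 0 0 (Matrix.diagonal p.2) *
        Matrix.fromBlocks (Matrix.blockDiagonal q.1) 0 0 (Matrix.diagonal q.2)
    rw [Matrix.fromBlocks_multiply, Matrix.blockDiagonal_mul, Matrix.diagonal_mul_diagonal]
    simp

/-- Coercion of the abstract base group to matrices. -/
def coe₀ : (T → ↥(O2 F)) × (L → ℤˣ) →* (T → Matrix (Fin 2) (Fin 2) F) × (L → F) where
  toFun p := (fun t => ((p.1 t : GL (Fin 2) F) : Matrix (Fin 2) (Fin 2) F),
    fun l => (((p.2 l : ℤˣ) : ℤ) : F))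
  map_one' := by
    refine Prod.ext (funext fun t => ?_) (funext fun l => ?_)
    · rfl
    · simp
  map_mul' p q := by
    refine Prod.ext (funext fun t => ?_) (funext fun l => ?_)
    · rfl
    · simp

/-- The base group in `GL`. -/
def βGL : (T → ↥(O2 F)) × (L → ℤˣ) →* GL ((Fin 2 × T) ⊕ L) F :=
  ((bmatHom T L).comp (coe₀ T L)).toHomUnits

theorem βGL_val (p : (T → ↥(O2 F)) × (L → ℤˣ)) :
    ((βGL T L p : GL ((Fin 2 × T) ⊕ L) F) : Matrix ((Fin 2 × T) ⊕ L) ((Fin 2 × T) ⊕ L) F)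
      = bmat T L (fun t => ((p.1 t : GL (Fin 2) F) : Matrix (Fin 2) (Fin 2) F))
          (fun l => (((p.2 l : ℤˣ) : ℤ) : F)) := rfl

theorem βGL_mem (h2 : (2 : F) ≠ 0) (cL : L → F) (p : (T → ↥(O2 F)) × (L → ℤˣ)) :
    βGL T L p ∈ OM T L cL := by
  apply mem_isometryGroup_of_transpose
  rw [βGL_val]
  have hc : diagonal (modelC T L cL) = fromBlocks 1 0 0 (diagonal cL) := by
    unfold modelC
    rw [← Matrix.fromBlocks_diagonal]
    congr
  rw [hc, bmat, Matrix.fromBlocks_transpose, Matrix.fromBlocks_multiply,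
    Matrix.fromBlocks_multiply]
  simp only [Matrix.transpose_zero, Matrix.mul_zero, Matrix.zero_mul, add_zero, zero_add,
    Matrix.mul_one]
  congr 1
  · rw [Matrix.blockDiagonal_transpose, ← Matrix.blockDiagonal_mul]
    have : (fun k => ((p.1 k : GL (Fin 2) F) : Matrix (Fin 2) (Fin 2) F)ᵀ *
        ((p.1 k : GL (Fin 2) F) : Matrix (Fin 2) (Fin 2) F)) = 1 :=
      funext fun t => O2_orth h2 (p.1 t)
    rw [this, Matrix.blockDiagonal_one]
  · rw [Matrix.diagonal_transpose, Matrix.diagonal_mul_diagonal, Matrix.diagonal_mul_diagonal]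
    congr 1
    funext l
    have : ((((p.2 l : ℤˣ) : ℤ) : F)) * (((p.2 l : ℤˣ) : ℤ) : F) = 1 := by
      rcases Int.units_eq_one_or (p.2 l) with h | h <;> simp [h]
    linear_combination cL l * this

/-- The base group, as a homomorphism into the isometry group. -/
def βO (h2 : (2 : F) ≠ 0) (cL : L → F) : (T → ↥(O2 F)) × (L → ℤˣ) →* ↥(OM T L cL) :=
  (βGL T L).codRestrict (OM T L cL) (βGL_mem T L h2 cL)

/-- Permutations of the planes. -/
def blockPerm : Equiv.Perm T →* Equiv.Perm ((Fin 2 × T) ⊕ L) where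
  toFun σ := Equiv.sumCongr (Equiv.prodCongr (Equiv.refl (Fin 2)) σ) (Equiv.refl L)
  map_one' := by ext (⟨a, t⟩ | l) <;> rfl
  map_mul' σ τ := by ext (⟨a, t⟩ | l) <;> rfl

theorem blockPerm_inl (σ : Equiv.Perm T) (a : Fin 2) (t : T) :
    blockPerm T L σ (Sum.inl (a, t)) = Sum.inl (a, σ t) := rfl

theorem blockPerm_inr (σ : Equiv.Perm T) (l : L) :
    blockPerm T L σ (Sum.inr l) = Sum.inr l := rfl

theorem blockPerm_symm_inl (σ : Equiv.Perm T) (a : Fin 2) (t : T) :
    (blockPerm T L σ).symm (Sum.inl (a, t)) = Sum.inl (a, σ.symm t) := rfl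

theorem blockPerm_symm_inr (σ : Equiv.Perm T) (l : L) :
    (blockPerm T L σ).symm (Sum.inr l) = Sum.inr l := rfl

theorem blockPerm_modelC (cL : L → F) (σ : Equiv.Perm T) (i : (Fin 2 × T) ⊕ L) :
    modelC T L cL (blockPerm T L σ i) = modelC T L cL i := by
  rcases i with ⟨a, t⟩ | l <;> rfl

/-- Permutations of the planes, as a homomorphism into the isometry group. -/
def πO (cL : L → F) : Equiv.Perm T →* ↥(OM T L cL) :=
  ((pmatGL F).comp (blockPerm T L)).codRestrict (OM T L cL)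
    (fun σ => pmatGL_mem _ _ (blockPerm_modelC T L cL σ))

theorem model_conj (h2 : (2 : F) ≠ 0) (cL : L → F) (σ : Equiv.Perm T) (d : T → ↥(O2 F))
    (e : L → ℤˣ) :
    πO T L cL σ * βO T L h2 cL (d, e) * (πO T L cL σ)⁻¹ = βO T L h2 cL (d ∘ σ.symm, e) := by
  rw [mul_inv_eq_iff_eq_mul]
  apply Subtype.ext
  apply Units.ext
  show (pmat (blockPerm T L σ) : Matrix ((Fin 2 × T) ⊕ L) ((Fin 2 × T) ⊕ L) F) *
      bmat T L (fun t => ((d t : GL (Fin 2) F) : Matrix (Fin 2) (Fin 2) F))
        (fun l => (((e l : ℤˣ) : ℤ) : F)) =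
    bmat T L (fun t => ((d (σ.symm t) : GL (Fin 2) F) : Matrix (Fin 2) (Fin 2) F))
        (fun l => (((e l : ℤˣ) : ℤ) : F)) * pmat (blockPerm T L σ)
  ext i j
  rw [pmat_mul_apply, mul_pmat_apply]
  rcases i with ⟨a, t⟩ | l <;> rcases j with ⟨b, u⟩ | l'
  · simp only [blockPerm_symm_inl, blockPerm_inl, bmat, Matrix.fromBlocks_apply₁₁,
      Matrix.blockDiagonal_apply]
    by_cases h : t = σ u
    · have : σ.symm t = u := by rw [h]; simp
      simp [h]
    · have : σ.symm t ≠ u := fun h' => h (by rw [← h']; simp)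
      simp [h, this]
  · rfl
  · rfl
  · rfl

theorem βO_injective (h2 : (2 : F) ≠ 0) (cL : L → F) :
    Function.Injective (βO T L h2 cL) := by
  intro p q h
  have hm : bmat T L (fun t => ((p.1 t : GL (Fin 2) F) : Matrix (Fin 2) (Fin 2) F))
        (fun l => (((p.2 l : ℤˣ) : ℤ) : F)) =
      bmat T L (fun t => ((q.1 t : GL (Fin 2) F) : Matrix (Fin 2) (Fin 2) F))
        (fun l => (((q.2 l : ℤˣ) : ℤ) : F)) :=
    congrArg (fun g : ↥(OM T L cL) => ((g : GL ((Fin 2 × T) ⊕ L) F) :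
      Matrix ((Fin 2 × T) ⊕ L) ((Fin 2 × T) ⊕ L) F)) h
  rw [bmat, bmat, Matrix.fromBlocks_inj] at hm
  obtain ⟨h1, -, -, h4⟩ := hm
  have h1' := Matrix.blockDiagonal_injective h1
  have h4' := Matrix.diagonal_injective h4
  refine Prod.ext (funext fun t => ?_) (funext fun l => ?_)
  · exact Subtype.ext (Units.ext (congrFun h1' t))
  · have h5 : (((p.2 l : ℤˣ) : ℤ) : F) = (((q.2 l : ℤˣ) : ℤ) : F) := congrFun h4' l
    rcases Int.units_eq_one_or (p.2 l) with hp | hp <;>
      rcases Int.units_eq_one_or (q.2 l) with hq | hq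
    · rw [hp, hq]
    · exfalso
      rw [hp, hq] at h5
      simp at h5
      apply h2
      linear_combination h5
    · exfalso
      rw [hp, hq] at h5
      simp at h5
      apply h2
      linear_combination -h5
    · rw [hp, hq]

theorem πO_injective (cL : L → F) : Function.Injective (πO T L cL) := by
  intro σ τ h
  have h1 : pmatGL F (blockPerm T L σ) = pmatGL F (blockPerm T L τ) := congrArg Subtype.val h
  have h3 := pmatGL_injective h1
  ext t
  have := congrArg (fun ρ : Equiv.Perm ((Fin 2 × T) ⊕ L) => ρ (Sum.inl (0, t))) h3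
  simp only [blockPerm_inl] at this
  exact (Prod.mk.inj (Sum.inl.inj this)).2

theorem model_disjoint (h2 : (2 : F) ≠ 0) (cL : L → F) {A : Type*} [Group A]
    (f : A →* (T → ↥(O2 F)) × (L → ℤˣ)) (S : Subgroup (Equiv.Perm T)) :
    ((βO T L h2 cL).comp f).range ⊓ S.map (πO T L cL) = ⊥ := by
  rw [eq_bot_iff]
  rintro x ⟨⟨a, rfl⟩, ⟨σ, -, hσ⟩⟩
  rw [Subgroup.mem_bot]
  have hm : (pmat (blockPerm T L σ) : Matrix ((Fin 2 × T) ⊕ L) ((Fin 2 × T) ⊕ L) F) =
      bmat T L (fun t => (((f a).1 t : GL (Fin 2) F) : Matrix (Fin 2) (Fin 2) F))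
        (fun l => ((((f a).2 l : ℤˣ) : ℤ) : F)) :=
    congrArg (fun g : ↥(OM T L cL) => ((g : GL ((Fin 2 × T) ⊕ L) F) :
      Matrix ((Fin 2 × T) ⊕ L) ((Fin 2 × T) ⊕ L) F)) hσ
  have h1 : σ = 1 := by
    ext t
    by_contra hne
    have := congrFun (congrFun hm (Sum.inl (0, σ t))) (Sum.inl (0, t))
    simp only [pmat, blockPerm_inl, if_true, bmat, Matrix.fromBlocks_apply₁₁,
      Matrix.blockDiagonal_apply] at this
    have hne' : ¬ σ t = t := hne
    rw [if_neg hne'] at this
    exact one_ne_zero this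
  rw [← hσ, h1, map_one]

/-- The swap of the two coordinates in every plane. -/
def jPerm : Equiv.Perm ((Fin 2 × T) ⊕ L) :=
  Equiv.sumCongr (Equiv.prodCongr (Equiv.swap 0 1) (Equiv.refl T)) (Equiv.refl L)

/-- `σ` acting on the first coordinates of the planes only. -/
def halfPerm (σ : Equiv.Perm T) : Equiv.Perm ((Fin 2 × T) ⊕ L) :=
  Equiv.sumCongr (Equiv.prodShear (Equiv.refl (Fin 2)) (fun a => if a = 0 then σ else 1))
    (Equiv.refl L)

theorem blockPerm_eq_commutator (σ : Equiv.Perm T) (hσ : σ * σ = 1) :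
    blockPerm T L σ = ⁅halfPerm T L σ, jPerm T L⁆ := by
  have hj : (jPerm T L)⁻¹ = jPerm T L := by
    apply inv_eq_of_mul_eq_one_left
    ext (⟨a, t⟩ | l)
    · show Sum.inl (Equiv.swap (0 : Fin 2) 1 (Equiv.swap (0 : Fin 2) 1 a), t) = Sum.inl (a, t)
      rw [Equiv.swap_apply_self]
    · rfl
  have hσt : ∀ t, σ (σ t) = t := fun t => by
    have := congrArg (fun ρ : Equiv.Perm T => ρ t) hσ
    simpa using this
  have hh : (halfPerm T L σ)⁻¹ = halfPerm T L σ := by
    apply inv_eq_of_mul_eq_one_left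
    ext (⟨a, t⟩ | l)
    · fin_cases a
      · show Sum.inl ((0 : Fin 2), σ (σ t)) = Sum.inl ((0 : Fin 2), t)
        rw [hσt]
      · rfl
    · rfl
  rw [commutatorElement_def, hj, hh]
  ext (⟨a, t⟩ | l)
  · fin_cases a
    · rfl
    · rfl
  · rfl

theorem πO_mem_commutator (cL : L → F) (σ : Equiv.Perm T) :
    πO T L cL σ ∈ commutator ↥(OM T L cL) := by
  have hinv : ∀ τ : Equiv.Perm T, τ * τ = 1 → πO T L cL τ ∈ commutator ↥(OM T L cL) := by
    intro τ hτ
    have hX : pmatGL F (halfPerm T L τ) ∈ OM T L cL :=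
      pmatGL_mem _ _ (by rintro (⟨a, t⟩ | l) <;> rfl)
    have hJ : pmatGL F (jPerm T L) ∈ OM T L cL :=
      pmatGL_mem _ _ (by rintro (⟨a, t⟩ | l) <;> rfl)
    have e1 : πO T L cL τ = ⁅(⟨_, hX⟩ : ↥(OM T L cL)), (⟨_, hJ⟩ : ↥(OM T L cL))⁆ := by
      apply Subtype.ext
      show pmatGL F (blockPerm T L τ) = ⁅pmatGL F (halfPerm T L τ), pmatGL F (jPerm T L)⁆
      rw [blockPerm_eq_commutator T L τ hτ, map_commutatorElement]
    rw [e1, commutator_def]
    exact Subgroup.commutator_mem_commutator (Subgroup.mem_top _) (Subgroup.mem_top _)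
  have hmem : σ ∈ Subgroup.closure {σ : Equiv.Perm T | σ.IsSwap} := by
    rw [Equiv.Perm.closure_isSwap]
    trivial
  have hle : Subgroup.closure {σ : Equiv.Perm T | σ.IsSwap} ≤
      (commutator ↥(OM T L cL)).comap (πO T L cL) := by
    rw [Subgroup.closure_le]
    rintro τ ⟨x, y, -, rfl⟩
    exact hinv _ (Equiv.swap_mul_self x y)
  exact hle hmem

end model

end Cfsg.Agent.Lib.Helper44
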