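import Mathlib

set_option autoImplicit false

namespace Cfsg.Agent.Lib.Helper44

section arith

theorem v2_of_mod_four (n : ℕ) (h : n % 4 = 2) : padicValNat 2 n = 1 := by
  have : Fact (Nat.Prime 2) := ⟨Nat.prime_two⟩
  obtain ⟨k, hk⟩ : ∃ k, n = 2 * k := ⟨n / 2, by omega⟩
  have hk1 : k % 2 = 1 := by omega
  rw [hk, padicValNat.mul (by norm_num) (by omega), padicValNat_self,
    padicValNat.eq_zero_of_not_dvd (by omega)]

theorem v2_two_mul (n : ℕ) (hn : n ≠ 0) : padicValNat 2 (2 * n) = 1 + padicValNat 2 n := by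
  have : Fact (Nat.Prime 2) := ⟨Nat.prime_two⟩
  rw [padicValNat.mul (by norm_num) hn, padicValNat_self]

theorem v2_odd (n : ℕ) (h : n % 2 = 1) : padicValNat 2 n = 0 :=
  padicValNat.eq_zero_of_not_dvd (by omega)

theorem odd_pow_mod (q a : ℕ) (hq : q % 2 = 1) : q ^ a % 2 = 1 := by
  rw [Nat.pow_mod, hq]
  simp

theorem v2_pow_even (q i : ℕ) (hq : q % 2 = 1) (hq3 : 3 ≤ q) (hi : i ≠ 0) :
    padicValNat 2 (q ^ (2 * i) - 1) =
      padicValNat 2 (q - 1) + padicValNat 2 (q + 1) + padicValNat 2 i := by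
  have h := padicValNat.pow_two_sub_one (x := q) (n := 2 * i) (by omega) (by omega) (by omega)
    (even_two_mul i)
  rw [v2_two_mul i hi] at h
  omega

theorem prod_ne_zero' (q : ℕ) (hq3 : 3 ≤ q) (n : ℕ) :
    ∏ i ∈ Finset.range n, (q ^ (2 * (i + 1)) - 1) ≠ 0 := by
  rw [Finset.prod_ne_zero_iff]
  intro i _
  have := Nat.one_lt_pow (n := 2 * (i + 1)) (by omega) (by omega : 1 < q)
  omega

theorem v2_prod (q : ℕ) (hq : q % 2 = 1) (hq3 : 3 ≤ q) (n : ℕ) :
    padicValNat 2 (∏ i ∈ Finset.range n, (q ^ (2 * (i + 1)) - 1)) =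
      n * (padicValNat 2 (q - 1) + padicValNat 2 (q + 1)) + padicValNat 2 n.factorial := by
  have : Fact (Nat.Prime 2) := ⟨Nat.prime_two⟩
  induction n with
  | zero => simp
  | succ n ih =>
    have h1 : q ^ (2 * (n + 1)) - 1 ≠ 0 := by
      have := Nat.one_lt_pow (n := 2 * (n + 1)) (by omega) (by omega : 1 < q)
      omega
    rw [Finset.prod_range_succ, padicValNat.mul (prod_ne_zero' q hq3 n) h1, ih,
      v2_pow_even q (n + 1) hq hq3 (by omega), Nat.factorial_succ,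
      padicValNat.mul (by omega) (Nat.factorial_ne_zero n)]
    ring

theorem exists_odd_cofactor_sub (q j : ℕ) (hq : q % 2 = 1) :
    ∃ c, c % 2 = 1 ∧ q ^ (2 * j + 1) - 1 = (q - 1) * c := by
  induction j with
  | zero => exact ⟨1, rfl, by simp⟩
  | succ j ih =>
    obtain ⟨c, hc, he⟩ := ih
    refine ⟨q ^ 2 * c + (q + 1), ?_, ?_⟩
    · have h1 : (q ^ 2 * c) % 2 = 1 := by
        rw [Nat.mul_mod, odd_pow_mod q 2 hq, hc]
      omega
    · have h1 : 1 ≤ q := by omega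
      have h2 : 1 ≤ q ^ (2 * j + 1) := Nat.one_le_pow _ _ (by omega)
      have h3 : 1 ≤ q ^ (2 * (j + 1) + 1) := Nat.one_le_pow _ _ (by omega)
      zify [h1, h2, h3] at he ⊢
      have : (q : ℤ) ^ (2 * (j + 1) + 1) = q ^ 2 * q ^ (2 * j + 1) := by ring
      rw [this]
      linear_combination (q : ℤ) ^ 2 * he

theorem exists_odd_cofactor_add (q j : ℕ) (hq : q % 2 = 1) :
    ∃ c, c % 2 = 1 ∧ q ^ (2 * j + 1) + 1 = (q + 1) * c := by
  induction j with
  | zero => exact ⟨1, rfl, by simp⟩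
  | succ j ih =>
    obtain ⟨c, hc, he⟩ := ih
    have hc1 : 1 ≤ c := by omega
    have hle : q - 1 ≤ q ^ 2 * c :=
      calc q - 1 ≤ q := Nat.sub_le _ _
        _ ≤ q ^ 2 := Nat.le_self_pow (by norm_num) q
        _ ≤ q ^ 2 * c := Nat.le_mul_of_pos_right _ hc1
    refine ⟨q ^ 2 * c - (q - 1), ?_, ?_⟩
    · have h1 : (q ^ 2 * c) % 2 = 1 := by
        rw [Nat.mul_mod, odd_pow_mod q 2 hq, hc]
      omega
    · have h1 : 1 ≤ q := by omega
      zify [hle, h1] at he ⊢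
      have : (q : ℤ) ^ (2 * (j + 1) + 1) = q ^ 2 * q ^ (2 * j + 1) := by ring
      rw [this]
      linear_combination (q : ℤ) ^ 2 * he

theorem v2_pow_sub_one_odd (q m : ℕ) (hq : q % 2 = 1) (hq3 : 3 ≤ q) (hm : m % 2 = 1) :
    padicValNat 2 (q ^ m - 1) = padicValNat 2 (q - 1) := by
  have : Fact (Nat.Prime 2) := ⟨Nat.prime_two⟩
  obtain ⟨j, rfl⟩ : ∃ j, m = 2 * j + 1 := ⟨m / 2, by omega⟩
  obtain ⟨c, hc, he⟩ := exists_odd_cofactor_sub q j hq
  rw [he, padicValNat.mul (by omega) (by omega), v2_odd c hc, add_zero]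

theorem v2_pow_add_one_odd (q m : ℕ) (hq : q % 2 = 1) (hm : m % 2 = 1) :
    padicValNat 2 (q ^ m + 1) = padicValNat 2 (q + 1) := by
  have : Fact (Nat.Prime 2) := ⟨Nat.prime_two⟩
  obtain ⟨j, rfl⟩ : ∃ j, m = 2 * j + 1 := ⟨m / 2, by omega⟩
  obtain ⟨c, hc, he⟩ := exists_odd_cofactor_add q j hq
  rw [he, padicValNat.mul (by omega) (by omega), v2_odd c hc, add_zero]

theorem pow_mod_four_one (q m : ℕ) (hq : q % 2 = 1) (h : m % 2 = 0 ∨ q % 4 = 1) :
    q ^ m % 4 = 1 := by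
  rcases h with h | h
  · obtain ⟨j, rfl⟩ : ∃ j, m = 2 * j := ⟨m / 2, by omega⟩
    rw [pow_mul, Nat.pow_mod]
    have : q ^ 2 % 4 = 1 := by
      rw [Nat.pow_mod]
      have : q % 4 = 1 ∨ q % 4 = 3 := by omega
      rcases this with h | h <;> rw [h]
    rw [this]
    simp
  · rw [Nat.pow_mod, h]
    simp

/-- The `2`-part of `|GO_{2m+1}(q)|`. -/
theorem v2_card_odd (q m : ℕ) (hq : q % 2 = 1) (hq3 : 3 ≤ q) :
    padicValNat 2 (2 * q ^ (m ^ 2) * ∏ i ∈ Finset.range m, (q ^ (2 * (i + 1)) - 1)) =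
      (padicValNat 2 (q - 1) + padicValNat 2 (q + 1)) * m + 1 + padicValNat 2 m.factorial := by
  have : Fact (Nat.Prime 2) := ⟨Nat.prime_two⟩
  have hp : q ^ (m ^ 2) ≠ 0 := pow_ne_zero _ (by omega)
  rw [mul_assoc, v2_two_mul _ (mul_ne_zero hp (prod_ne_zero' q hq3 m)),
    padicValNat.mul hp (prod_ne_zero' q hq3 m), v2_odd _ (odd_pow_mod q _ hq), v2_prod q hq hq3]
  ring

/-- The `2`-part of `|GO⁺_{2m}(q)|`, first case. -/
theorem v2_card_plus_A (q m : ℕ) (hq : q % 2 = 1) (hq3 : 3 ≤ q) (hm : 1 ≤ m)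
    (h : m % 2 = 0 ∨ q % 4 = 1) :
    padicValNat 2 (2 * q ^ (m * (m - 1)) * (q ^ m - 1) *
        ∏ i ∈ Finset.range (m - 1), (q ^ (2 * (i + 1)) - 1)) =
      (padicValNat 2 (q - 1) + padicValNat 2 (q + 1)) * m + 0 + padicValNat 2 m.factorial := by
  have : Fact (Nat.Prime 2) := ⟨Nat.prime_two⟩
  obtain ⟨n, rfl⟩ : ∃ n, m = n + 1 := ⟨m - 1, by omega⟩
  have hp : q ^ ((n + 1) * (n + 1 - 1)) ≠ 0 := pow_ne_zero _ (by omega)
  have hs : q ^ (n + 1) - 1 ≠ 0 := by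
    have := Nat.one_lt_pow (n := n + 1) (by omega) (by omega : 1 < q)
    omega
  have key : 1 + padicValNat 2 (q ^ (n + 1) - 1) =
      padicValNat 2 (q - 1) + padicValNat 2 (q + 1) + padicValNat 2 (n + 1) := by
    by_cases hev : (n + 1) % 2 = 0
    · have h1 := padicValNat.pow_two_sub_one (x := q) (n := n + 1) (by omega) (by omega) (by omega)
        (Nat.even_iff.mpr hev)
      omega
    · have hq4 : q % 4 = 1 := by
        rcases h with h | h
        · omega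
        · exact h
      rw [v2_pow_sub_one_odd q (n + 1) hq hq3 (by omega), v2_of_mod_four (q + 1) (by omega),
        v2_odd (n + 1) (by omega)]
      omega
  rw [mul_assoc, mul_assoc, v2_two_mul _ (mul_ne_zero hp (mul_ne_zero hs (prod_ne_zero' q hq3 _))),
    padicValNat.mul hp (mul_ne_zero hs (prod_ne_zero' q hq3 _)),
    padicValNat.mul hs (prod_ne_zero' q hq3 _), v2_odd _ (odd_pow_mod q _ hq), v2_prod q hq hq3,
    Nat.factorial_succ, padicValNat.mul (by omega) (Nat.factorial_ne_zero n)]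
  have e1 : n + 1 - 1 = n := by omega
  rw [e1]
  linarith [key]

/-- The `2`-part of `|GO⁺_{2m}(q)|`, second case. -/
theorem v2_card_plus_B (q m : ℕ) (hq : q % 2 = 1) (hq3 : 3 ≤ q)
    (hm : m % 2 = 1) (hq4 : q % 4 = 3) :
    padicValNat 2 (2 * q ^ (m * (m - 1)) * (q ^ m - 1) *
        ∏ i ∈ Finset.range (m - 1), (q ^ (2 * (i + 1)) - 1)) =
      (padicValNat 2 (q - 1) + padicValNat 2 (q + 1)) * (m - 1) + 2 +
        padicValNat 2 (m - 1).factorial := by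
  have : Fact (Nat.Prime 2) := ⟨Nat.prime_two⟩
  have hp : q ^ (m * (m - 1)) ≠ 0 := pow_ne_zero _ (by omega)
  have hs : q ^ m - 1 ≠ 0 := by
    have := Nat.one_lt_pow (n := m) (by omega) (by omega : 1 < q)
    omega
  rw [mul_assoc, mul_assoc, v2_two_mul _ (mul_ne_zero hp (mul_ne_zero hs (prod_ne_zero' q hq3 _))),
    padicValNat.mul hp (mul_ne_zero hs (prod_ne_zero' q hq3 _)),
    padicValNat.mul hs (prod_ne_zero' q hq3 _), v2_odd _ (odd_pow_mod q _ hq), v2_prod q hq hq3,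
    v2_pow_sub_one_odd q m hq hq3 hm, v2_of_mod_four (q - 1) (by omega)]
  ring

/-- The `2`-part of `|GO⁻_{2m}(q)|`, first case. -/
theorem v2_card_minus_A (q m : ℕ) (hq : q % 2 = 1) (hq3 : 3 ≤ q)
    (hm : m % 2 = 1) (hq4 : q % 4 = 3) :
    padicValNat 2 (2 * q ^ (m * (m - 1)) * (q ^ m + 1) *
        ∏ i ∈ Finset.range (m - 1), (q ^ (2 * (i + 1)) - 1)) =
      (padicValNat 2 (q - 1) + padicValNat 2 (q + 1)) * m + 0 + padicValNat 2 m.factorial := by
  have : Fact (Nat.Prime 2) := ⟨Nat.prime_two⟩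
  obtain ⟨n, rfl⟩ : ∃ n, m = n + 1 := ⟨m - 1, by omega⟩
  have hp : q ^ ((n + 1) * (n + 1 - 1)) ≠ 0 := pow_ne_zero _ (by omega)
  have hs : q ^ (n + 1) + 1 ≠ 0 := by omega
  rw [mul_assoc, mul_assoc, v2_two_mul _ (mul_ne_zero hp (mul_ne_zero hs (prod_ne_zero' q hq3 _))),
    padicValNat.mul hp (mul_ne_zero hs (prod_ne_zero' q hq3 _)),
    padicValNat.mul hs (prod_ne_zero' q hq3 _), v2_odd _ (odd_pow_mod q _ hq), v2_prod q hq hq3,
    Nat.factorial_succ, padicValNat.mul (by omega) (Nat.factorial_ne_zero n),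
    v2_pow_add_one_odd q (n + 1) hq hm, v2_of_mod_four (q - 1) (by omega), v2_odd (n + 1) hm]
  have e1 : n + 1 - 1 = n := by omega
  rw [e1]
  ring

/-- The `2`-part of `|GO⁻_{2m}(q)|`, second case. -/
theorem v2_card_minus_B (q m : ℕ) (hq : q % 2 = 1) (hq3 : 3 ≤ q)
    (h : m % 2 = 0 ∨ q % 4 = 1) :
    padicValNat 2 (2 * q ^ (m * (m - 1)) * (q ^ m + 1) *
        ∏ i ∈ Finset.range (m - 1), (q ^ (2 * (i + 1)) - 1)) =
      (padicValNat 2 (q - 1) + padicValNat 2 (q + 1)) * (m - 1) + 2 +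
        padicValNat 2 (m - 1).factorial := by
  have : Fact (Nat.Prime 2) := ⟨Nat.prime_two⟩
  have hp : q ^ (m * (m - 1)) ≠ 0 := pow_ne_zero _ (by omega)
  have hs : q ^ m + 1 ≠ 0 := by omega
  have h4 := pow_mod_four_one q m hq h
  rw [mul_assoc, mul_assoc, v2_two_mul _ (mul_ne_zero hp (mul_ne_zero hs (prod_ne_zero' q hq3 _))),
    padicValNat.mul hp (mul_ne_zero hs (prod_ne_zero' q hq3 _)),
    padicValNat.mul hs (prod_ne_zero' q hq3 _), v2_odd _ (odd_pow_mod q _ hq), v2_prod q hq hq3,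
    v2_of_mod_four (q ^ m + 1) (by omega)]
  ring

end arith

end Cfsg.Agent.Lib.Helper44
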