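import Mathlib
import Cfsg.Agent.Lib.Helper44.SylArith

set_option autoImplicit false

namespace Cfsg.Agent.Lib.Helper44

theorem v2_finset_prod {ι : Type*} (s : Finset ι) (f : ι → ℕ) (h : ∀ i ∈ s, f i ≠ 0) :
    padicValNat 2 (∏ i ∈ s, f i) = ∑ i ∈ s, padicValNat 2 (f i) := by
  classical
  have : Fact (Nat.Prime 2) := ⟨Nat.prime_two⟩
  induction s using Finset.induction_on with
  | empty => simp
  | insert a s ha ih =>
    rw [Finset.prod_insert ha, Finset.sum_insert ha,
      padicValNat.mul (h a (Finset.mem_insert_self a s))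
        (Finset.prod_ne_zero_iff.mpr (fun i hi => h i (Finset.mem_insert_of_mem hi))),
      ih (fun i hi => h i (Finset.mem_insert_of_mem hi))]

theorem v2_card_GL_aux (q : ℕ) (hq : q % 2 = 1) (hq3 : 3 ≤ q) (n : ℕ) :
    padicValNat 2 (∏ i : Fin n, (q ^ n - q ^ (i : ℕ))) =
      ∑ j ∈ Finset.range n, padicValNat 2 (q ^ (j + 1) - 1) := by
  have : Fact (Nat.Prime 2) := ⟨Nat.prime_two⟩
  rw [Fin.prod_univ_eq_prod_range (fun i => q ^ n - q ^ i) n, v2_finset_prod]
  · rw [← Finset.sum_range_reflect]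
    apply Finset.sum_congr rfl
    intro j hj
    rw [Finset.mem_range] at hj
    have e : q ^ n - q ^ (n - 1 - j) = q ^ (n - 1 - j) * (q ^ (j + 1) - 1) := by
      have h1 : n = (n - 1 - j) + (j + 1) := by omega
      conv_lhs => rw [h1, pow_add]
      rw [Nat.mul_sub, mul_one]
      congr 2
      omega
    have h2 : q ^ (j + 1) - 1 ≠ 0 := by
      have := Nat.one_lt_pow (n := j + 1) (by omega) (by omega : 1 < q)
      omega
    rw [e, padicValNat.mul (pow_ne_zero _ (by omega)) h2, v2_odd _ (odd_pow_mod q _ hq), zero_add]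
  · intro i hi
    rw [Finset.mem_range] at hi
    have := Nat.pow_lt_pow_right (by omega : 1 < q) hi
    omega

theorem v2_sum_even (q : ℕ) (hq : q % 2 = 1) (hq3 : 3 ≤ q) (m : ℕ) :
    ∑ j ∈ Finset.range (2 * m), padicValNat 2 (q ^ (j + 1) - 1) =
      m * (2 * padicValNat 2 (q - 1) + padicValNat 2 (q + 1)) + padicValNat 2 m.factorial := by
  have : Fact (Nat.Prime 2) := ⟨Nat.prime_two⟩
  induction m with
  | zero => simp
  | succ m ih =>
    have e : 2 * (m + 1) = 2 * m + 1 + 1 := by ring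
    rw [e, Finset.sum_range_succ, Finset.sum_range_succ, ih,
      v2_pow_sub_one_odd q (2 * m + 1) hq hq3 (by omega)]
    have e2 : 2 * m + 1 + 1 = 2 * (m + 1) := by ring
    rw [e2, v2_pow_even q (m + 1) hq hq3 (by omega), Nat.factorial_succ,
      padicValNat.mul (by omega) (Nat.factorial_ne_zero m)]
    ring

theorem v2_card_GL_even (q : ℕ) (hq : q % 2 = 1) (hq3 : 3 ≤ q) (m : ℕ) :
    padicValNat 2 (∏ i : Fin (2 * m), (q ^ (2 * m) - q ^ (i : ℕ))) =
      m * (2 * padicValNat 2 (q - 1) + padicValNat 2 (q + 1)) + padicValNat 2 m.factorial := by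
  rw [v2_card_GL_aux q hq hq3, v2_sum_even q hq hq3]

theorem v2_card_GL_odd (q : ℕ) (hq : q % 2 = 1) (hq3 : 3 ≤ q) (m : ℕ) :
    padicValNat 2 (∏ i : Fin (2 * m + 1), (q ^ (2 * m + 1) - q ^ (i : ℕ))) =
      m * (2 * padicValNat 2 (q - 1) + padicValNat 2 (q + 1)) + padicValNat 2 m.factorial +
        padicValNat 2 (q - 1) := by
  rw [v2_card_GL_aux q hq hq3, Finset.sum_range_succ, v2_sum_even q hq hq3,
    v2_pow_sub_one_odd q (2 * m + 1) hq hq3 (by omega)]

end Cfsg.Agent.Lib.Helper44
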