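import Mathlib
import Cfsg.Agent.Lib.Helper44.RealGen

set_option autoImplicit false

namespace Cfsg.Agent.Lib.Helper44

open scoped commutatorElement

/-- A subgroup generated by elements whose squares lie in its derived subgroup has an
abelianisation of exponent two. -/
theorem sqInComm_of_gen {G : Type*} [Group G] (P : Subgroup G) (X : Set G)
    (hX : P ≤ Subgroup.closure X) (hXP : X ⊆ P)
    (hsq : ∀ x ∈ X, x * x ∈ ⁅P, P⁆) : SqInComm ↥P := by
  intro x
  let f : ↥P →* Abelianization ↥P := (powMonoidHom 2).comp Abelianization.of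
  have hker : ∀ z : ↥P, f z = 1 ↔ z ^ 2 ∈ commutator ↥P := by
    intro z
    show (Abelianization.of z) ^ 2 = 1 ↔ _
    rw [← map_pow, ← MonoidHom.mem_ker, Abelianization.ker_of]
  rw [← hker]
  have hle : Subgroup.closure X ≤ (f.ker).map P.subtype := by
    rw [Subgroup.closure_le]
    intro z hz
    have hzP : z ∈ P := hXP hz
    refine ⟨⟨z, hzP⟩, ?_, rfl⟩
    show f ⟨z, hzP⟩ = 1
    rw [hker]
    have h1 := hsq z hz
    rw [← Subgroup.map_subtype_commutator] at h1
    obtain ⟨w, hw, hwz⟩ := h1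
    have : w = (⟨z, hzP⟩ : ↥P) ^ 2 := by
      apply Subtype.ext
      rw [pow_two]
      exact hwz
    rw [← this]
    exact hw
  obtain ⟨x', hx', hxx⟩ := hle (hX x.2)
  have : x' = x := Subtype.ext hxx
  rw [← this]; exact hx'

/-- The image of the derived subgroup of `H` under a homomorphism with range inside `P` lies in
the derived subgroup of `P`. -/
theorem map_commutator_le {G H : Type*} [Group G] [Group H] (φ : H →* G) (P : Subgroup G)
    (hφ : φ.range ≤ P) {h : H} (hh : h ∈ commutator H) : φ h ∈ ⁅P, P⁆ := by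
  have h1 : φ h ∈ (commutator H).map φ := Subgroup.mem_map_of_mem φ hh
  rw [commutator_def, Subgroup.map_commutator, ← MonoidHom.range_eq_map] at h1
  exact Subgroup.commutator_mono hφ hφ h1

section ext

variable {G : Type*} [Group G]

theorem inv_conj_mem_of_conj_mem (T : Subgroup G) (n : G) (hn2 : n * n ∈ T)
    (hnorm : ∀ t ∈ T, n * t * n⁻¹ ∈ T) (t : G) (ht : t ∈ T) : n⁻¹ * t * n ∈ T := by
  have e : n⁻¹ * t * n = (n * n)⁻¹ * (n * t * n⁻¹) * (n * n) := by group
  rw [e]
  exact T.mul_mem (T.mul_mem (T.inv_mem hn2) (hnorm t ht)) hn2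

/-- The extension `T ∪ T n⁻¹` of a subgroup `T` by an element `n` normalising `T` with
`n² ∈ T`. -/
def normExt (T : Subgroup G) (n : G) (hn2 : n * n ∈ T) (hnorm : ∀ t ∈ T, n * t * n⁻¹ ∈ T) :
    Subgroup G where
  carrier := {g | g ∈ T ∨ g * n ∈ T}
  one_mem' := Or.inl T.one_mem
  mul_mem' := by
    rintro g h (hg | hg) (hh | hh)
    · exact Or.inl (T.mul_mem hg hh)
    · right
      rw [mul_assoc]
      exact T.mul_mem hg hh
    · right
      have e : g * h * n = (g * n) * (n⁻¹ * h * n) := by group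
      rw [e]
      exact T.mul_mem hg (inv_conj_mem_of_conj_mem T n hn2 hnorm h hh)
    · left
      have e : g * h = (g * n) * (n⁻¹ * (h * n) * n) * (n * n)⁻¹ := by group
      rw [e]
      exact T.mul_mem (T.mul_mem hg (inv_conj_mem_of_conj_mem T n hn2 hnorm (h * n) hh))
        (T.inv_mem hn2)
  inv_mem' := by
    rintro g (hg | hg)
    · exact Or.inl (T.inv_mem hg)
    · right
      have e : g⁻¹ * n = (n * (g * n)⁻¹ * n⁻¹) * (n * n) := by group
      rw [e]
      exact T.mul_mem (hnorm _ (T.inv_mem hg)) hn2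

theorem mem_normExt (T : Subgroup G) (n : G) (hn2 : n * n ∈ T)
    (hnorm : ∀ t ∈ T, n * t * n⁻¹ ∈ T) (g : G) :
    g ∈ normExt T n hn2 hnorm ↔ g ∈ T ∨ g * n ∈ T := Iff.rfl

theorem le_normExt (T : Subgroup G) (n : G) (hn2 : n * n ∈ T)
    (hnorm : ∀ t ∈ T, n * t * n⁻¹ ∈ T) : T ≤ normExt T n hn2 hnorm := fun _ h => Or.inl h

theorem card_normExt (T : Subgroup G) (n : G) (hn2 : n * n ∈ T)
    (hnorm : ∀ t ∈ T, n * t * n⁻¹ ∈ T) (hn : n ∉ T) :
    Nat.card ↥(normExt T n hn2 hnorm) = Nat.card ↥T * 2 := by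
  have hidx : (T.subgroupOf (normExt T n hn2 hnorm)).index = 2 := by
    rw [Subgroup.index_eq_two_iff]
    refine ⟨⟨n, Or.inr hn2⟩, ?_⟩
    rintro ⟨b, hb⟩
    rw [Subgroup.mem_subgroupOf, Subgroup.mem_subgroupOf]
    show Xor (b * n ∈ T) (b ∈ T)
    rcases hb with hb | hb
    · right
      refine ⟨hb, fun h => hn ?_⟩
      have e : n = b⁻¹ * (b * n) := by group
      rw [e]
      exact T.mul_mem (T.inv_mem hb) h
    · left
      refine ⟨hb, fun h => hn ?_⟩
      have e : n = b⁻¹ * (b * n) := by group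
      rw [e]
      exact T.mul_mem (T.inv_mem h) hb
  rw [← Subgroup.card_mul_index (T.subgroupOf (normExt T n hn2 hnorm)), hidx,
    Nat.card_congr (Subgroup.subgroupOfEquivOfLe (le_normExt T n hn2 hnorm)).toEquiv]

end ext

end Cfsg.Agent.Lib.Helper44
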