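import Mathlib
import Cfsg.Prelude.Def_Classical
import Cfsg.Agent.Lib.Helper44.DiagModel
import Cfsg.Agent.Lib.Helper44.SqGen

set_option autoImplicit false

namespace Cfsg.Agent.Lib.Helper44

open Matrix
open scoped commutatorElement

section glmodel

set_option linter.unusedSectionVars false

variable {F : Type*} [Field F] (T L : Type) [Fintype T] [DecidableEq T] [Fintype L]
  [DecidableEq L] (A : Subgroup (GL (Fin 2) F))

/-- Coercion of the abstract base group to matrices. -/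
def coeA : (T → ↥A) × (L → ℤˣ) →* (T → Matrix (Fin 2) (Fin 2) F) × (L → F) where
  toFun p := (fun t => ((p.1 t : GL (Fin 2) F) : Matrix (Fin 2) (Fin 2) F),
    fun l => (((p.2 l : ℤˣ) : ℤ) : F))
  map_one' := by
    refine Prod.ext (funext fun t => ?_) (funext fun l => ?_)
    · rfl
    · simp
  map_mul' p q := by
    refine Prod.ext (funext fun t => ?_) (funext fun l => ?_)
    · rfl
    · simp

/-- The base group in `GL`. -/
def βA : (T → ↥A) × (L → ℤˣ) →* GL ((Fin 2 × T) ⊕ L) F :=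
  ((bmatHom T L).comp (coeA T L A)).toHomUnits

theorem βA_val (p : (T → ↥A) × (L → ℤˣ)) :
    ((βA T L A p : GL ((Fin 2 × T) ⊕ L) F) : Matrix ((Fin 2 × T) ⊕ L) ((Fin 2 × T) ⊕ L) F)
      = bmat T L (fun t => ((p.1 t : GL (Fin 2) F) : Matrix (Fin 2) (Fin 2) F))
          (fun l => (((p.2 l : ℤˣ) : ℤ) : F)) := rfl

/-- Permutations of the planes, in `GL`. -/
def πG : Equiv.Perm T →* GL ((Fin 2 × T) ⊕ L) F := (pmatGL F).comp (blockPerm T L)

theorem πG_val (σ : Equiv.Perm T) :
    ((πG T L σ : GL ((Fin 2 × T) ⊕ L) F) : Matrix ((Fin 2 × T) ⊕ L) ((Fin 2 × T) ⊕ L) F)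
      = pmat (blockPerm T L σ) := rfl

theorem glmodel_conj (σ : Equiv.Perm T) (d : T → ↥A) (e : L → ℤˣ) :
    (πG T L σ : GL ((Fin 2 × T) ⊕ L) F) * βA T L A (d, e) * (πG T L σ)⁻¹ =
      βA T L A (d ∘ σ.symm, e) := by
  rw [mul_inv_eq_iff_eq_mul]
  apply Units.ext
  show (pmat (blockPerm T L σ) : Matrix ((Fin 2 × T) ⊕ L) ((Fin 2 × T) ⊕ L) F) *
      bmat T L (fun t => ((d t : GL (Fin 2) F) : Matrix (Fin 2) (Fin 2) F))
        (fun l => (((e l : ℤˣ) : ℤ) : F)) =
    bmat T L (fun t => ((d (σ.symm t) : GL (Fin 2) F) : Matrix (Fin 2) (Fin 2) F))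
        (fun l => (((e l : ℤˣ) : ℤ) : F)) * pmat (blockPerm T L σ)
  ext i j
  rw [pmat_mul_apply, mul_pmat_apply]
  rcases i with ⟨a, t⟩ | l <;> rcases j with ⟨b, u⟩ | l'
  · simp only [blockPerm_symm_inl, blockPerm_inl, bmat, Matrix.fromBlocks_apply₁₁,
      Matrix.blockDiagonal_apply]
    by_cases h : t = σ u
    · have : σ.symm t = u := by rw [h]; simp
      simp [h]
    · have : σ.symm t ≠ u := fun h' => h (by rw [← h']; simp)
      simp [h, this]
  · rfl
  · rfl
  · rfl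

theorem βA_injective (h2 : (2 : F) ≠ 0) : Function.Injective (βA T L A) := by
  intro p q h
  have hm : bmat T L (fun t => ((p.1 t : GL (Fin 2) F) : Matrix (Fin 2) (Fin 2) F))
        (fun l => (((p.2 l : ℤˣ) : ℤ) : F)) =
      bmat T L (fun t => ((q.1 t : GL (Fin 2) F) : Matrix (Fin 2) (Fin 2) F))
        (fun l => (((q.2 l : ℤˣ) : ℤ) : F)) :=
    congrArg (fun g : GL ((Fin 2 × T) ⊕ L) F => (g :
      Matrix ((Fin 2 × T) ⊕ L) ((Fin 2 × T) ⊕ L) F)) h
  rw [bmat, bmat, Matrix.fromBlocks_inj] at hm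
  obtain ⟨h1, -, -, h4⟩ := hm
  have h1' := Matrix.blockDiagonal_injective h1
  have h4' := Matrix.diagonal_injective h4
  refine Prod.ext (funext fun t => ?_) (funext fun l => ?_)
  · exact Subtype.ext (Units.ext (congrFun h1' t))
  · have h5 : (((p.2 l : ℤˣ) : ℤ) : F) = (((q.2 l : ℤˣ) : ℤ) : F) := congrFun h4' l
    rcases Int.units_eq_one_or (p.2 l) with hp | hp <;>
      rcases Int.units_eq_one_or (q.2 l) with hq | hq
    · rw [hp, hq]
    · exfalso
      rw [hp, hq] at h5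
      simp at h5
      apply h2
      linear_combination h5
    · exfalso
      rw [hp, hq] at h5
      simp at h5
      apply h2
      linear_combination -h5
    · rw [hp, hq]

theorem πG_injective : Function.Injective (πG T L (F := F)) := by
  intro σ τ h
  have h3 := pmatGL_injective h
  ext t
  have := congrArg (fun ρ : Equiv.Perm ((Fin 2 × T) ⊕ L) => ρ (Sum.inl (0, t))) h3
  simp only [blockPerm_inl] at this
  exact (Prod.mk.inj (Sum.inl.inj this)).2

theorem glmodel_disjoint (S : Subgroup (Equiv.Perm T)) :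
    (βA T L A).range ⊓ S.map (πG T L) = ⊥ := by
  rw [eq_bot_iff]
  rintro x ⟨⟨a, rfl⟩, ⟨σ, -, hσ⟩⟩
  rw [Subgroup.mem_bot]
  have hm : (pmat (blockPerm T L σ) : Matrix ((Fin 2 × T) ⊕ L) ((Fin 2 × T) ⊕ L) F) =
      bmat T L (fun t => ((a.1 t : GL (Fin 2) F) : Matrix (Fin 2) (Fin 2) F))
        (fun l => (((a.2 l : ℤˣ) : ℤ) : F)) :=
    congrArg (fun g : GL ((Fin 2 × T) ⊕ L) F => (g :
      Matrix ((Fin 2 × T) ⊕ L) ((Fin 2 × T) ⊕ L) F)) hσ
  have h1 : σ = 1 := by
    ext t
    by_contra hne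
    have := congrFun (congrFun hm (Sum.inl (0, σ t))) (Sum.inl (0, t))
    simp only [pmat, blockPerm_inl, if_true, bmat, Matrix.fromBlocks_apply₁₁,
      Matrix.blockDiagonal_apply] at this
    have hne' : ¬ σ t = t := hne
    rw [if_neg hne'] at this
    exact one_ne_zero this
  rw [← hσ, h1, map_one]

theorem det_bmat (d : T → Matrix (Fin 2) (Fin 2) F) (e : L → F) :
    (bmat T L d e).det = (∏ t, (d t).det) * ∏ l, e l := by
  unfold bmat
  rw [Matrix.det_fromBlocks_zero₂₁, Matrix.det_blockDiagonal, Matrix.det_diagonal]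

theorem det_βA (p : (T → ↥A) × (L → ℤˣ)) :
    ((Matrix.GeneralLinearGroup.det (βA T L A p) : Fˣ) : F) =
      (∏ t, ((p.1 t : GL (Fin 2) F) : Matrix (Fin 2) (Fin 2) F).det) *
        ∏ l, (((p.2 l : ℤˣ) : ℤ) : F) :=
  det_bmat T L _ _

theorem det_βA_single (t : T) (b : ↥A) :
    Matrix.GeneralLinearGroup.det (βA T L A (Pi.mulSingle t b, 1)) =
      Matrix.GeneralLinearGroup.det (b : GL (Fin 2) F) := by
  apply Units.ext
  rw [det_βA]
  show (∏ s, (((Pi.mulSingle t b : T → ↥A) s : GL (Fin 2) F) : Matrix (Fin 2) (Fin 2) F).det) *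
    ∏ l : L, (((1 : ℤˣ) : ℤ) : F) = _
  rw [Finset.prod_eq_single t]
  · simp
  · intro s _ hs
    rw [Pi.mulSingle_eq_of_ne hs]
    simp
  · intro h
    exact absurd (Finset.mem_univ t) h

theorem det_βA_snd (e : L → ℤˣ) :
    ((Matrix.GeneralLinearGroup.det (βA T L A (1, e)) : Fˣ) : F) =
      ∏ l, (((e l : ℤˣ) : ℤ) : F) := by
  rw [det_βA]
  simp

theorem πG_mem_commutator (σ : Equiv.Perm T) :
    (πG T L σ : GL ((Fin 2 × T) ⊕ L) F) ∈ commutator (GL ((Fin 2 × T) ⊕ L) F) := by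
  have hinv : ∀ τ : Equiv.Perm T, τ * τ = 1 →
      (πG T L τ : GL ((Fin 2 × T) ⊕ L) F) ∈ commutator (GL ((Fin 2 × T) ⊕ L) F) := by
    intro τ hτ
    have e1 : (πG T L τ : GL ((Fin 2 × T) ⊕ L) F) =
        ⁅pmatGL F (halfPerm T L τ), pmatGL F (jPerm T L)⁆ := by
      show pmatGL F (blockPerm T L τ) = ⁅pmatGL F (halfPerm T L τ), pmatGL F (jPerm T L)⁆
      rw [blockPerm_eq_commutator T L τ hτ, map_commutatorElement]
    rw [e1, commutator_def]
    exact Subgroup.commutator_mem_commutator (Subgroup.mem_top _) (Subgroup.mem_top _)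
  have hmem : σ ∈ Subgroup.closure {σ : Equiv.Perm T | σ.IsSwap} := by
    rw [Equiv.Perm.closure_isSwap]
    trivial
  have hle : Subgroup.closure {σ : Equiv.Perm T | σ.IsSwap} ≤
      (commutator (GL ((Fin 2 × T) ⊕ L) F)).comap (πG T L) := by
    rw [Subgroup.closure_le]
    rintro τ ⟨x, y, -, rfl⟩
    exact hinv _ (Equiv.swap_mul_self x y)
  exact hle hmem

theorem det_πG (σ : Equiv.Perm T) :
    Matrix.GeneralLinearGroup.det (πG T L σ : GL ((Fin 2 × T) ⊕ L) F) = 1 :=
  Abelianization.commutator_subset_ker _ (πG_mem_commutator T L σ)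

end glmodel

section reindex

variable {F : Type*} [Field F] {ι κ : Type*} [Fintype ι] [DecidableEq ι] [Fintype κ]
  [DecidableEq κ]

/-- `SL` on `ι` into `GL` on an equivalent index type. -/
def slToGL (ε : ι ≃ κ) : Matrix.SpecialLinearGroup ι F →* GL κ F :=
  (Units.map (Matrix.reindexAlgEquiv F F ε).toMulEquiv.toMonoidHom).comp
    Matrix.SpecialLinearGroup.toGL

theorem slToGL_val (ε : ι ≃ κ) (g : Matrix.SpecialLinearGroup ι F) :
    ((slToGL ε g : GL κ F) : Matrix κ κ F) = Matrix.reindexAlgEquiv F F ε g.1 := rfl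

theorem slToGL_injective (ε : ι ≃ κ) : Function.Injective (slToGL (F := F) ε) := by
  intro g h hgh
  have h1 := congrArg (fun x : GL κ F => (x : Matrix κ κ F)) hgh
  simp only [slToGL_val] at h1
  exact Subtype.ext ((Matrix.reindexAlgEquiv F F ε).injective h1)

theorem slToGL_range (ε : ι ≃ κ) :
    (slToGL (F := F) ε).range = (Matrix.GeneralLinearGroup.det (n := κ) (R := F)).ker := by
  ext g
  constructor
  · rintro ⟨t, rfl⟩
    rw [MonoidHom.mem_ker]
    apply Units.ext
    show (Matrix.reindexAlgEquiv F F ε t.1).det = 1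
    rw [Matrix.det_reindexAlgEquiv]
    exact t.2
  · intro hg
    rw [MonoidHom.mem_ker] at hg
    have hdet : ((g : GL κ F) : Matrix κ κ F).det = 1 := by
      have := congrArg Units.val hg
      exact this
    refine ⟨⟨(Matrix.reindexAlgEquiv F F ε).symm (g : Matrix κ κ F), ?_⟩, ?_⟩
    · have h1 := Matrix.det_reindexAlgEquiv F F ε
        ((Matrix.reindexAlgEquiv F F ε).symm (g : Matrix κ κ F))
      rw [AlgEquiv.apply_symm_apply] at h1
      rw [← h1, hdet]
    · apply Units.ext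
      show Matrix.reindexAlgEquiv F F ε ((Matrix.reindexAlgEquiv F F ε).symm (g : Matrix κ κ F)) = _
      exact AlgEquiv.apply_symm_apply _ _

/-- `SL` as the kernel of the determinant on `GL` of an equivalent index type. -/
noncomputable def slEquivKer (ε : ι ≃ κ) :
    Matrix.SpecialLinearGroup ι F ≃*
      ↥(Matrix.GeneralLinearGroup.det (n := κ) (R := F)).ker :=
  (MonoidHom.ofInjective (slToGL_injective ε)).trans (MulEquiv.subgroupCongr (slToGL_range ε))

theorem card_GL_reindex [Fintype F] (ε : ι ≃ κ) : Nat.card (GL κ F) = Nat.card (GL ι F) :=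
  (Nat.card_congr (Units.mapEquiv (Matrix.reindexAlgEquiv F F ε).toMulEquiv).toEquiv).symm

end reindex

end Cfsg.Agent.Lib.Helper44
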