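import Mathlib
import Cfsg.Agent.Lib.Helper44.RealGen

set_option autoImplicit false

namespace Cfsg.Agent.Lib.Helper44

section quat

variable {G : Type*} [Group G]

theorem inv_conj_of_conj (T : Subgroup G) (n : G) (hinv : ∀ t ∈ T, n * t * n⁻¹ = t⁻¹)
    (t : G) (ht : t ∈ T) : n⁻¹ * t * n = t⁻¹ := by
  have h := hinv t⁻¹ (T.inv_mem ht)
  rw [inv_inv] at h
  calc n⁻¹ * t * n = n⁻¹ * (n * t⁻¹ * n⁻¹) * n := by rw [h]
    _ = t⁻¹ := by group

/-- The extension `T ∪ T n⁻¹` of a subgroup `T` by an element `n` inverting `T` with `n² ∈ T`. -/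
def quatExt (T : Subgroup G) (n : G) (hn2 : n * n ∈ T) (hinv : ∀ t ∈ T, n * t * n⁻¹ = t⁻¹) :
    Subgroup G where
  carrier := {g | g ∈ T ∨ g * n ∈ T}
  one_mem' := Or.inl T.one_mem
  mul_mem' := by
    rintro g h (hg | hg) (hh | hh)
    · exact Or.inl (T.mul_mem hg hh)
    · right
      rw [mul_assoc]
      exact T.mul_mem hg hh
    · right
      have e : g * h * n = (g * n) * (n⁻¹ * h * n) := by group
      rw [e, inv_conj_of_conj T n hinv h hh]
      exact T.mul_mem hg (T.inv_mem hh)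
    · left
      have e : g * h = (g * n) * (n⁻¹ * (h * n) * n) * (n * n)⁻¹ := by group
      rw [e, inv_conj_of_conj T n hinv (h * n) hh]
      exact T.mul_mem (T.mul_mem hg (T.inv_mem hh)) (T.inv_mem hn2)
  inv_mem' := by
    rintro g (hg | hg)
    · exact Or.inl (T.inv_mem hg)
    · right
      have e : g⁻¹ * n = (n * (g * n)⁻¹ * n⁻¹) * (n * n) := by group
      rw [e, hinv _ (T.inv_mem hg), inv_inv]
      exact T.mul_mem hg hn2

theorem mem_quatExt (T : Subgroup G) (n : G) (hn2 : n * n ∈ T)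
    (hinv : ∀ t ∈ T, n * t * n⁻¹ = t⁻¹) (g : G) :
    g ∈ quatExt T n hn2 hinv ↔ g ∈ T ∨ g * n ∈ T := Iff.rfl

theorem le_quatExt (T : Subgroup G) (n : G) (hn2 : n * n ∈ T)
    (hinv : ∀ t ∈ T, n * t * n⁻¹ = t⁻¹) : T ≤ quatExt T n hn2 hinv := fun _ h => Or.inl h

theorem card_quatExt (T : Subgroup G) (n : G) (hn2 : n * n ∈ T)
    (hinv : ∀ t ∈ T, n * t * n⁻¹ = t⁻¹) (hn : n ∉ T) :
    Nat.card ↥(quatExt T n hn2 hinv) = Nat.card ↥T * 2 := by
  have hidx : (T.subgroupOf (quatExt T n hn2 hinv)).index = 2 := by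
    rw [Subgroup.index_eq_two_iff]
    refine ⟨⟨n, Or.inr hn2⟩, ?_⟩
    rintro ⟨b, hb⟩
    rw [Subgroup.mem_subgroupOf, Subgroup.mem_subgroupOf]
    show Xor (b * n ∈ T) (b ∈ T)
    rcases hb with hb | hb
    · right
      refine ⟨hb, fun h => hn ?_⟩
      have e : n = b⁻¹ * (b * n) := by group
      rw [e]
      exact T.mul_mem (T.inv_mem hb) h
    · left
      refine ⟨hb, fun h => hn ?_⟩
      have e : n = b⁻¹ * (b * n) := by group
      rw [e]
      exact T.mul_mem (T.inv_mem h) hb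
  rw [← Subgroup.card_mul_index (T.subgroupOf (quatExt T n hn2 hinv)), hidx,
    Nat.card_congr (Subgroup.subgroupOfEquivOfLe (le_quatExt T n hn2 hinv)).toEquiv]

/-- Every element of the quaternion-like extension is conjugate to its inverse inside it. -/
theorem real_quatExt (T : Subgroup G) (n : G) (hn2 : n * n ∈ T)
    (hinv : ∀ t ∈ T, n * t * n⁻¹ = t⁻¹) (hcomm : ∀ s ∈ T, ∀ t ∈ T, s * t = t * s)
    (j : G) (hj : j ∈ T) (hjn : j * j = n * n) (g : G) (hg : g ∈ quatExt T n hn2 hinv) :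
    ∃ y ∈ quatExt T n hn2 hinv, y * g * y⁻¹ = g⁻¹ := by
  rcases hg with hg | hg
  · exact ⟨n, Or.inr hn2, hinv g hg⟩
  · refine ⟨j, Or.inl hj, ?_⟩
    have h1 : n⁻¹ * j⁻¹ * n = j := by
      have := inv_conj_of_conj T n hinv j⁻¹ (T.inv_mem hj)
      rwa [inv_inv] at this
    have h2 : n * (g * n)⁻¹ * n⁻¹ = g * n := by
      have := hinv (g * n)⁻¹ (T.inv_mem hg)
      rwa [inv_inv] at this
    calc j * g * j⁻¹ = j * (g * n) * n⁻¹ * j⁻¹ := by group
      _ = (g * n) * j * n⁻¹ * j⁻¹ := by rw [hcomm j hj (g * n) hg]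
      _ = (g * n) * j * (n⁻¹ * j⁻¹ * n) * n⁻¹ := by group
      _ = (g * n) * (j * j) * n⁻¹ := by rw [h1]; group
      _ = (g * n) * (n * n) * n⁻¹ := by rw [hjn]
      _ = (g * n) * n := by group
      _ = (n * (g * n)⁻¹ * n⁻¹) * n := by rw [h2]
      _ = g⁻¹ := by group

end quat

/-- In a finite commutative group some subgroup of order the `2`-part contains all elements of
order dividing four. -/
theorem exists_sylow_of_comm {A : Type*} [Group A] [Finite A] (hcomm : ∀ a b : A, a * b = b * a) :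
    ∃ T₂ : Subgroup A, Nat.card T₂ = 2 ^ padicValNat 2 (Nat.card A) ∧
      ∀ a : A, a ^ 4 = 1 → a ∈ T₂ := by
  have : Fact (Nat.Prime 2) := ⟨Nat.prime_two⟩
  obtain ⟨P⟩ : Nonempty (Sylow 2 A) := inferInstance
  refine ⟨P, by rw [Sylow.card_eq_multiplicity, Nat.factorization_def _ Nat.prime_two], ?_⟩
  intro a ha
  have hz : IsPGroup 2 ↥(Subgroup.zpowers a) := by
    rintro ⟨x, hx⟩
    obtain ⟨k, rfl⟩ := Subgroup.mem_zpowers_iff.mp hx
    refine ⟨2, Subtype.ext ?_⟩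
    show (a ^ k) ^ (2 ^ 2) = 1
    rw [← zpow_natCast, ← zpow_mul, mul_comm, zpow_mul, zpow_natCast]
    norm_num
    rw [ha, one_zpow]
  have hN : (P : Subgroup A).Normal :=
    ⟨fun x hx g => by rw [hcomm g x, mul_inv_cancel_right]; exact hx⟩
  have hsup : IsPGroup 2 ↥(Subgroup.zpowers a ⊔ (P : Subgroup A)) :=
    hz.to_sup_of_normal_right P.isPGroup'
  have h1 := P.is_maximal' hsup le_sup_right
  have h2 : a ∈ Subgroup.zpowers a ⊔ (P : Subgroup A) :=
    (le_sup_left : Subgroup.zpowers a ≤ _) (Subgroup.mem_zpowers a)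
  rwa [h1] at h2

end Cfsg.Agent.Lib.Helper44
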