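import Mathlib
import Cfsg.Prelude.Def_Classical
import Cfsg.Agent.Lib.Helper44.DiagModel

set_option autoImplicit false

namespace Cfsg.Agent.Lib.Helper44

open Matrix
open scoped commutatorElement

/-- The Sylow `2`-subgroups of the commutator subgroup of the isometry group of the model form
`⟨1, …, 1⟩ ⊥ ⟨cL⟩` have abelianisation of exponent two, as soon as the `2`-part of the order of
the isometry group is the expected one. -/
theorem model_sylow {F : Type*} [Field F] [Fintype F] (h2 : (2 : F) ≠ 0)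
    (T L : Type) [Fintype T] [DecidableEq T] [Fintype L] [DecidableEq L] (cL : L → F)
    (ht : 2 ≤ Fintype.card T)
    (hcard : padicValNat 2 (Nat.card ↥(OM T L cL)) =
      padicValNat 2 (Nat.card ↥(O2 F)) * Fintype.card T + Fintype.card L +
        padicValNat 2 (Fintype.card T).factorial) :
    ∀ P : Sylow 2 ↥(commutator ↥(OM T L cL)),
      SqInComm ↥(P : Subgroup ↥(commutator ↥(OM T L cL))) := by
  classical
  have : Fact (Nat.Prime 2) := ⟨Nat.prime_two⟩
  have hfinM : Finite ↥(OM T L cL) := inferInstance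
  have hfin2 : Finite ↥(O2 F) := inferInstance
  obtain ⟨D⟩ : Nonempty (Sylow 2 ↥(O2 F)) := inferInstance
  obtain ⟨r, hrD, hr⟩ := sylow_O2_exists_refl h2 D
  obtain ⟨S, hScard, hSgen⟩ := exists_sylow_perm (Fintype.card T) T rfl
  obtain ⟨t₀, t₁, h01⟩ := Fintype.exists_pair_of_one_lt_card (by omega : 1 < Fintype.card T)
  obtain ⟨inc, hincdef⟩ : ∃ inc : (T → ↥(D : Subgroup ↥(O2 F))) × (L → ℤˣ) →*
      (T → ↥(O2 F)) × (L → ℤˣ), inc =
      (((D : Subgroup ↥(O2 F)).subtype.compLeft T)).prodMap (MonoidHom.id (L → ℤˣ)) := ⟨_, rfl⟩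
  have hincapp : ∀ (d : T → ↥(D : Subgroup ↥(O2 F))) (e : L → ℤˣ),
      inc (d, e) = (fun t => (d t : ↥(O2 F)), e) := by
    intro d e
    rw [hincdef]
    rfl
  have hinc : Function.Injective inc := by
    rintro ⟨d, e⟩ ⟨d', e'⟩ h
    rw [hincapp, hincapp] at h
    have h1 := (Prod.mk.inj h).1
    have h2' := (Prod.mk.inj h).2
    refine Prod.ext (funext fun t => Subtype.ext ?_) h2'
    exact congrFun h1 t
  have hβinj : Function.Injective ((βO T L h2 cL).comp inc) :=
    (βO_injective T L h2 cL).comp hinc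
  have hconj : ∀ (σ : Equiv.Perm T) (d : T → ↥(D : Subgroup ↥(O2 F))) (e : L → ℤˣ),
      πO T L cL σ * ((βO T L h2 cL).comp inc) (d, e) * (πO T L cL σ)⁻¹ =
        ((βO T L h2 cL).comp inc) (d ∘ σ.symm, e) := by
    intro σ d e
    rw [MonoidHom.comp_apply, MonoidHom.comp_apply, hincapp, hincapp]
    exact model_conj T L h2 cL σ (fun t => (d t : ↥(O2 F))) e
  have hnorm : ∀ k ∈ S.map (πO T L cL), ∀ h ∈ ((βO T L h2 cL).comp inc).range,
      k * h * k⁻¹ ∈ ((βO T L h2 cL).comp inc).range := by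
    rintro _ ⟨σ, -, rfl⟩ _ ⟨⟨d, e⟩, rfl⟩
    exact ⟨(d ∘ σ.symm, e), (hconj σ d e).symm⟩
  have hdisj : ((βO T L h2 cL).comp inc).range ⊓ S.map (πO T L cL) = ⊥ :=
    model_disjoint T L h2 cL inc S
  have hcD : Nat.card ↥(D : Subgroup ↥(O2 F)) = 2 ^ padicValNat 2 (Nat.card ↥(O2 F)) := by
    rw [Sylow.card_eq_multiplicity, Nat.factorization_def _ Nat.prime_two]
  have hcW : Nat.card ↥(((βO T L h2 cL).comp inc).range ⊔ S.map (πO T L cL)) =
      2 ^ padicValNat 2 (Nat.card ↥(OM T L cL)) := by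
    rw [card_sup_of_normalizes _ _ hnorm hdisj, card_range_of_inj _ hβinj,
      Subgroup.card_map_of_injective (πO_injective T L cL), hScard, Nat.card_prod, Nat.card_fun,
      Nat.card_fun, hcD, hcard]
    simp only [Nat.card_eq_fintype_card, Fintype.card_units_int]
    rw [← pow_mul, ← pow_add, ← pow_add]
  have hWp : IsPGroup 2 ↥(((βO T L h2 cL).comp inc).range ⊔ S.map (πO T L cL)) :=
    IsPGroup.of_card hcW
  have hidx : Odd (((βO T L h2 cL).comp inc).range ⊔ S.map (πO T L cL)).index := by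
    have h1 := Subgroup.card_mul_index (((βO T L h2 cL).comp inc).range ⊔ S.map (πO T L cL))
    rw [hcW] at h1
    by_contra hodd
    rw [Nat.not_odd_iff_even] at hodd
    obtain ⟨k, hk⟩ := hodd
    have h3 : 2 ^ (padicValNat 2 (Nat.card ↥(OM T L cL)) + 1) ∣ Nat.card ↥(OM T L cL) := by
      refine Dvd.intro k ?_
      calc 2 ^ (padicValNat 2 (Nat.card ↥(OM T L cL)) + 1) * k
          = 2 ^ padicValNat 2 (Nat.card ↥(OM T L cL)) * (k + k) := by ring
        _ = 2 ^ padicValNat 2 (Nat.card ↥(OM T L cL)) *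
            (((βO T L h2 cL).comp inc).range ⊔ S.map (πO T L cL)).index := by rw [hk]
        _ = Nat.card ↥(OM T L cL) := h1
    exact pow_succ_padicValNat_not_dvd (Nat.card_pos.ne') h3
  apply sylow_sqInComm (commutator ↥(OM T L cL)) _ hWp hidx
  refine wreath_sqInComm ((βO T L h2 cL).comp inc) (πO T L cL) S hconj ?_ ⟨r, hrD⟩ ?_ ?_ hSgen
    (πO_mem_commutator T L cL) t₀ t₁ h01
  · intro e
    funext l
    exact Int.units_sq (e l)
  · exact Subtype.ext (O2_sq_of_det h2 r hr)
  · intro y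
    rcases O2_dihedral h2 r y.1 hr with h | h
    · left
      exact Subtype.ext h
    · right
      exact Subtype.ext h

end Cfsg.Agent.Lib.Helper44
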