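import Mathlib
import Cfsg.Prelude.Def_Classical
import Cfsg.Agent.Lib.Helper44.SylModel
import Cfsg.Agent.Lib.Helper44.SylArith
import Cfsg.Agent.S0286
import Cfsg.Agent.S0287
import Cfsg.Agent.S0288

set_option autoImplicit false

namespace Cfsg.Agent.Lib.Helper44

open Matrix

section main

variable {F : Type*} [Field F] [Fintype F]

theorem two_ne_zero_of_odd_card'' (hF : Odd (Fintype.card F)) : (2 : F) ≠ 0 := by
  apply Ring.two_ne_zero
  intro hc
  have := FiniteField.even_card_of_char_two hc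
  rw [Nat.odd_iff] at hF
  omega

theorem isSquare_mul_of_nonsq (a b : F) (ha : ¬ IsSquare a) (hb : ¬ IsSquare b) :
    IsSquare (a * b) := by
  classical
  have h1 := quadraticChar_neg_one_iff_not_isSquare.mpr ha
  have h2 := quadraticChar_neg_one_iff_not_isSquare.mpr hb
  have ha0 : a ≠ 0 := fun h => ha ⟨0, by simp [h]⟩
  have hb0 : b ≠ 0 := fun h => hb ⟨0, by simp [h]⟩
  rw [← quadraticChar_one_iff_isSquare (mul_ne_zero ha0 hb0), map_mul, h1, h2]
  norm_num

theorem card_facts (hF : Odd (Fintype.card F)) :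
    Fintype.card F % 2 = 1 ∧ 3 ≤ Fintype.card F := by
  have h1 : Fintype.card F % 2 = 1 := Nat.odd_iff.mp hF
  have h2 := Fintype.one_lt_card (α := F)
  exact ⟨h1, by omega⟩

/-- Transfer from the model to an isometric form. -/
theorem sylow_of_model (h2 : (2 : F) ≠ 0) {ι : Type} [Fintype ι] [DecidableEq ι]
    (Q : (ι → F) → F) (k l : ℕ) (cL : Fin l → F) (hk : 2 ≤ k)
    (hiso : QIso Q (dQ (modelC (Fin k) (Fin l) cL)))
    (hcard : padicValNat 2 (Nat.card ↥(Cfsg.isometryGroup F Q)) =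
      padicValNat 2 (Nat.card ↥(O2 F)) * k + l + padicValNat 2 k.factorial) :
    ∀ P : Sylow 2 ↥(Cfsg.Omega F Q), SqInComm ↥(P : Subgroup ↥(Cfsg.Omega F Q)) := by
  obtain ⟨e⟩ := hiso.isometryGroup_equiv
  have hfin : Finite ↥(Cfsg.isometryGroup F Q) := inferInstance
  have hc : Nat.card ↥(OM (Fin k) (Fin l) cL) = Nat.card ↥(Cfsg.isometryGroup F Q) :=
    (Nat.card_congr e.toEquiv).symm
  have hm := model_sylow h2 (Fin k) (Fin l) cL (by simpa using hk)
    (by rw [hc, hcard]; simp)
  exact sylow_sqInComm_of_mulEquiv (commutatorEquiv e) hm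

theorem v2_card_O2 (hF : Odd (Fintype.card F)) (h2 : (2 : F) ≠ 0) :
    padicValNat 2 (Nat.card ↥(O2 F)) =
      padicValNat 2 (Fintype.card F - 1) + padicValNat 2 (Fintype.card F + 1) := by
  obtain ⟨hq, hq3⟩ := card_facts hF
  by_cases h : IsSquare (-1 : F)
  · have h4 : Fintype.card F % 4 = 1 := by
      have := FiniteField.isSquare_neg_one_iff.mp h
      omega
    rw [card_O2_of_sq hF h2 h, v2_two_mul _ (by omega),
      v2_of_mod_four (Fintype.card F + 1) (by omega)]
    ring
  · have h4 : Fintype.card F % 4 = 3 := by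
      by_contra h'
      exact h (FiniteField.isSquare_neg_one_iff.mpr h')
    rw [card_O2_of_not_sq hF h2 h, v2_two_mul _ (by omega),
      v2_of_mod_four (Fintype.card F - 1) (by omega)]

theorem isSquare_neg_one_pow_iff_odd (hF : Odd (Fintype.card F)) (m : ℕ) :
    IsSquare ((-1 : F) ^ m) ↔ (m % 2 = 0 ∨ Fintype.card F % 4 = 1) := by
  obtain ⟨hq, hq3⟩ := card_facts hF
  rcases Nat.mod_two_eq_zero_or_one m with hm | hm
  · have : (-1 : F) ^ m = 1 := Even.neg_one_pow (Nat.even_iff.mpr hm)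
    rw [this]
    simp [hm]
  · have : (-1 : F) ^ m = -1 := Odd.neg_one_pow (Nat.odd_iff.mpr hm)
    rw [this, FiniteField.isSquare_neg_one_iff]
    omega

/-- `Ω_{2m+1}(q)`, `q` odd. -/
theorem sylow_odd (hF : Odd (Fintype.card F)) (m : ℕ) (hm : 2 ≤ m) :
    ∀ P : Sylow 2 ↥(Cfsg.Omega F (Cfsg.quadFormOdd m F)),
      SqInComm ↥(P : Subgroup ↥(Cfsg.Omega F (Cfsg.quadFormOdd m F))) := by
  have h2 := two_ne_zero_of_odd_card'' hF
  obtain ⟨hq, hq3⟩ := card_facts hF
  apply sylow_of_model h2 _ m 1 (fun _ => (-1 : F) ^ m) hm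
  · refine (odd_iso h2 m).trans (dQ_classify hF _ _ ?_ ?_ ?_ ?_ 1 one_ne_zero ?_)
    · rintro (i | i | i) <;> simp
    · rintro (i | i) <;> simp [modelC]
    · simp
      ring
    · simp
    · simp [modelC, Fintype.prod_sum_type]
  · rw [Cfsg.Agent.S0286.result rfl hF m, v2_card_odd _ m hq hq3, v2_card_O2 hF h2]

/-- `Ω⁺_{2m}(q)`, `q` odd. -/
theorem sylow_plus (hF : Odd (Fintype.card F)) (m : ℕ) (hm : 1 ≤ m) (hm' : Even m ∨ 4 ≤ m) :
    ∀ P : Sylow 2 ↥(Cfsg.Omega F (Cfsg.quadFormPlus m F)),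
      SqInComm ↥(P : Subgroup ↥(Cfsg.Omega F (Cfsg.quadFormPlus m F))) := by
  have h2 := two_ne_zero_of_odd_card'' hF
  obtain ⟨hq, hq3⟩ := card_facts hF
  by_cases hsq : IsSquare ((-1 : F) ^ m)
  · have hcond := (isSquare_neg_one_pow_iff_odd hF m).mp hsq
    obtain ⟨w, hw⟩ := hsq
    have hw0 : w ≠ 0 := by
      rintro rfl
      have : (-1 : F) ^ m ≠ 0 := pow_ne_zero _ (by simp)
      exact this (by rw [hw]; simp)
    have hm2 : 2 ≤ m := by
      rcases hm' with h | h
      · obtain ⟨j, rfl⟩ := h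
        omega
      · omega
    apply sylow_of_model h2 _ m 0 (fun i => i.elim0) hm2
    · refine (plus_iso h2 m).trans (dQ_classify hF _ _ ?_ ?_ ?_ ?_ w hw0 ?_)
      · rintro (i | i) <;> simp
      · rintro (i | i)
        · simp [modelC]
        · exact i.elim0
      · simp
        ring
      · simp
        omega
      · simp only [modelC, Fintype.prod_sum_type, Sum.elim_inl, Sum.elim_inr,
          Finset.prod_const_one, Finset.prod_const, Finset.card_univ, Fintype.card_fin, one_mul,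
          Finset.univ_eq_empty, Finset.prod_empty, mul_one]
        rw [hw]
        ring
    · rw [Cfsg.Agent.S0287.result rfl m hm, v2_card_plus_A _ m hq hq3 hm hcond, v2_card_O2 hF h2]
  · have hcond : ¬ (m % 2 = 0 ∨ Fintype.card F % 4 = 1) := fun h =>
      hsq ((isSquare_neg_one_pow_iff_odd hF m).mpr h)
    have hmodd : m % 2 = 1 := by omega
    have hq4 : Fintype.card F % 4 = 3 := by omega
    have hm4 : 4 ≤ m := by
      rcases hm' with h | h
      · rw [Nat.even_iff] at h
        omega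
      · exact h
    apply sylow_of_model h2 _ (m - 1) 2 ![1, (-1 : F) ^ m] (by omega)
    · refine (plus_iso h2 m).trans (dQ_classify hF _ _ ?_ ?_ ?_ ?_ 1 one_ne_zero ?_)
      · rintro (i | i) <;> simp
      · rintro (i | i)
        · simp [modelC]
        · fin_cases i <;> simp [modelC]
      · simp
        omega
      · simp
        omega
      · simp [modelC, Fintype.prod_sum_type, Fin.prod_univ_two]
    · rw [Cfsg.Agent.S0287.result rfl m hm, v2_card_plus_B _ m hq hq3 hmodd hq4,
        v2_card_O2 hF h2]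

/-- `Ω⁻_{2m}(q)`, `q` odd. -/
theorem sylow_minus (hF : Odd (Fintype.card F)) (m : ℕ) (hm : 3 ≤ m) (a b : F)
    (hab : ∀ z₁ z₂ : F, z₁ ^ 2 + a * z₁ * z₂ + b * z₂ ^ 2 = 0 → z₁ = 0 ∧ z₂ = 0) :
    ∀ P : Sylow 2 ↥(Cfsg.Omega F (Cfsg.quadFormMinus (m - 1) F a b)),
      SqInComm ↥(P : Subgroup ↥(Cfsg.Omega F (Cfsg.quadFormMinus (m - 1) F a b))) := by
  have h2 := two_ne_zero_of_odd_card'' hF
  have h4 : (4 : F) ≠ 0 := by
    have : (4 : F) = 2 * 2 := by norm_num
    rw [this]
    exact mul_ne_zero h2 h2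
  obtain ⟨hq, hq3⟩ := card_facts hF
  -- `-β` is not a square
  have hβ : ¬ IsSquare (-(b - a ^ 2 / 4)) := by
    rintro ⟨w, hw⟩
    have h5 : a ^ 2 / 4 * 4 = a ^ 2 := div_mul_cancel₀ _ h4
    have := hab (2 * w - a) 2 (by linear_combination (-4) * hw + h5)
    exact h2 this.2
  have hβ0 : b - a ^ 2 / 4 ≠ 0 := by
    intro h
    apply hβ
    rw [h]
    exact ⟨0, by simp⟩
  have hδ : (-1 : F) ^ (m - 1) * (b - a ^ 2 / 4) = (-1 : F) ^ m * (-(b - a ^ 2 / 4)) := by
    obtain ⟨n, rfl⟩ : ∃ n, m = n + 1 := ⟨m - 1, by omega⟩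
    rw [Nat.add_sub_cancel, pow_succ]
    ring
  have hδ0 : (-1 : F) ^ (m - 1) * (b - a ^ 2 / 4) ≠ 0 :=
    mul_ne_zero (pow_ne_zero _ (by simp)) hβ0
  by_cases hsq : IsSquare ((-1 : F) ^ (m - 1) * (b - a ^ 2 / 4))
  · -- then `(-1)^m` is not a square
    have hns : ¬ IsSquare ((-1 : F) ^ m) := by
      rintro ⟨u, hu⟩
      have hu0 : u ≠ 0 := by
        rintro rfl
        have : (-1 : F) ^ m ≠ 0 := pow_ne_zero _ (by simp)
        exact this (by rw [hu]; simp)
      obtain ⟨w, hw⟩ := hsq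
      apply hβ
      refine ⟨w / u, ?_⟩
      rw [hδ, hu] at hw
      rw [div_mul_div_comm, ← hw, mul_div_cancel_left₀ _ (mul_ne_zero hu0 hu0)]
    have hcond : ¬ (m % 2 = 0 ∨ Fintype.card F % 4 = 1) := fun h =>
      hns ((isSquare_neg_one_pow_iff_odd hF m).mpr h)
    have hmodd : m % 2 = 1 := by omega
    have hq4 : Fintype.card F % 4 = 3 := by omega
    obtain ⟨w, hw⟩ := hsq
    have hw0 : w ≠ 0 := by
      rintro rfl
      exact hδ0 (by rw [hw]; simp)
    apply sylow_of_model h2 _ m 0 (fun i => i.elim0) (by omega)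
    · refine (minus_iso h2 (m - 1) a b).trans (dQ_classify hF _ _ ?_ ?_ ?_ ?_ w hw0 ?_)
      · rintro ((i | i) | i)
        · simp
        · simp
        · fin_cases i
          · simp
          · simpa using hβ0
      · rintro (i | i)
        · simp [modelC]
        · exact i.elim0
      · simp
        omega
      · simp
      · simp only [modelC, Fintype.prod_sum_type, Sum.elim_inl, Sum.elim_inr,
          Finset.prod_const_one, Finset.prod_const, Finset.card_univ, Fintype.card_fin, one_mul,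
          Finset.univ_eq_empty, Finset.prod_empty, mul_one, Fin.prod_univ_two,
          Matrix.cons_val_zero, Matrix.cons_val_one]
        rw [hw]
        ring
    · rw [Cfsg.Agent.S0288.result rfl m (by omega) a b hab, v2_card_minus_A _ m hq hq3 hmodd hq4,
        v2_card_O2 hF h2]
  · have hcond : m % 2 = 0 ∨ Fintype.card F % 4 = 1 := by
      by_contra hc
      have hns : ¬ IsSquare ((-1 : F) ^ m) := fun h => hc ((isSquare_neg_one_pow_iff_odd hF m).mp h)
      apply hsq
      rw [hδ]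
      exact isSquare_mul_of_nonsq _ _ hns hβ
    apply sylow_of_model h2 _ (m - 1) 2 ![1, (-1 : F) ^ (m - 1) * (b - a ^ 2 / 4)] (by omega)
    · refine (minus_iso h2 (m - 1) a b).trans (dQ_classify hF _ _ ?_ ?_ ?_ ?_ 1 one_ne_zero ?_)
      · rintro ((i | i) | i)
        · simp
        · simp
        · fin_cases i
          · simp
          · simpa using hβ0
      · rintro (i | i)
        · simp [modelC]
        · fin_cases i
          · simp [modelC]
          · simpa [modelC] using hδ0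
      · simp
        omega
      · simp
      · simp [modelC, Fintype.prod_sum_type, Fin.prod_univ_two]
    · rw [Cfsg.Agent.S0288.result rfl m (by omega) a b hab, v2_card_minus_B _ m hq hq3 hcond,
        v2_card_O2 hF h2]

end main

end Cfsg.Agent.Lib.Helper44
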