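import Mathlib
import Cfsg.Prelude.Def_Classical
import Cfsg.Agent.Lib.Helper44.QuatExt
import Cfsg.Agent.Lib.Helper44.SylMain

set_option autoImplicit false

namespace Cfsg.Agent.Lib.Helper44

open Matrix

section sl2

variable {F : Type*} [Field F]

/-- The rotation-like matrices `[[a, -b], [b, a]]` of determinant one. -/
def rotT (F : Type*) [Field F] : Subgroup (Matrix.SpecialLinearGroup (Fin 2) F) where
  carrier := {g | g.1 0 0 = g.1 1 1 ∧ g.1 0 1 = - g.1 1 0}
  one_mem' := by simp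
  mul_mem' := by
    rintro g h ⟨h1, h2⟩ ⟨h3, h4⟩
    show (g * h).1 0 0 = (g * h).1 1 1 ∧ (g * h).1 0 1 = - (g * h).1 1 0
    simp only [Matrix.SpecialLinearGroup.coe_mul, Matrix.mul_apply, Fin.sum_univ_two]
    constructor
    · rw [h1, h2, h3, h4]; ring
    · rw [h1, h2, h3, h4]; ring
  inv_mem' := by
    rintro g ⟨h1, h2⟩
    show (g⁻¹).1 0 0 = (g⁻¹).1 1 1 ∧ (g⁻¹).1 0 1 = - (g⁻¹).1 1 0
    simp only [Matrix.SpecialLinearGroup.coe_inv, Matrix.adjugate_fin_two]
    constructor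
    · simp [h1]
    · simp [h2]

theorem mem_rotT (g : Matrix.SpecialLinearGroup (Fin 2) F) :
    g ∈ rotT F ↔ g.1 0 0 = g.1 1 1 ∧ g.1 0 1 = - g.1 1 0 := Iff.rfl

theorem rotT_comm (s t : Matrix.SpecialLinearGroup (Fin 2) F) (hs : s ∈ rotT F)
    (ht : t ∈ rotT F) : s * t = t * s := by
  obtain ⟨h1, h2⟩ := hs
  obtain ⟨h3, h4⟩ := ht
  apply Subtype.ext
  ext i j
  fin_cases i <;> fin_cases j <;>
    simp only [Matrix.SpecialLinearGroup.coe_mul, Matrix.mul_apply, Fin.sum_univ_two,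
      Fin.zero_eta, Fin.mk_one] <;> (try rw [h1]) <;> (try rw [h2]) <;> (try rw [h3]) <;>
    (try rw [h4]) <;> ring

/-- The element `J = [[0, -1], [1, 0]]`. -/
def jSL (F : Type*) [Field F] : Matrix.SpecialLinearGroup (Fin 2) F :=
  ⟨!![0, -1; 1, 0], by simp [Matrix.det_fin_two]⟩

theorem jSL_mem : jSL F ∈ rotT F := by
  rw [mem_rotT]
  simp [jSL]

/-- The element `n = [[x, y], [y, -x]]`, `x² + y² = -1`. -/
def nSL (x y : F) (h : x ^ 2 + y ^ 2 = -1) : Matrix.SpecialLinearGroup (Fin 2) F :=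
  ⟨!![x, y; y, -x], by rw [Matrix.det_fin_two_of]; linear_combination -h⟩

theorem nSL_sq (x y : F) (h : x ^ 2 + y ^ 2 = -1) : jSL F * jSL F = nSL x y h * nSL x y h := by
  apply Subtype.ext
  rw [Matrix.SpecialLinearGroup.coe_mul, Matrix.SpecialLinearGroup.coe_mul]
  show (!![0, -1; 1, 0] : Matrix (Fin 2) (Fin 2) F) * !![0, -1; 1, 0] =
    !![x, y; y, -x] * !![x, y; y, -x]
  rw [Matrix.mul_fin_two, Matrix.mul_fin_two]
  have e1 : x * x + y * y = -1 := by linear_combination h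
  have e2 : y * y + -x * -x = -1 := by linear_combination h
  have e3 : x * y + y * -x = 0 := by ring
  have e4 : y * x + -x * y = 0 := by ring
  rw [e1, e2, e3, e4]
  simp

theorem jSL_pow (F : Type*) [Field F] : jSL F ^ 4 = 1 := by
  apply Subtype.ext
  have h2 : ((jSL F ^ 2 : Matrix.SpecialLinearGroup (Fin 2) F) : Matrix (Fin 2) (Fin 2) F) = -1 := by
    rw [pow_two, Matrix.SpecialLinearGroup.coe_mul]
    show (!![0, -1; 1, 0] : Matrix (Fin 2) (Fin 2) F) * !![0, -1; 1, 0] = -1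
    rw [Matrix.mul_fin_two]
    ext i j
    fin_cases i <;> fin_cases j <;> simp
  have e : jSL F ^ 4 = jSL F ^ 2 * jSL F ^ 2 := by rw [← pow_add]
  rw [e, Matrix.SpecialLinearGroup.coe_mul, h2]
  simp

theorem nSL_conj (x y : F) (h : x ^ 2 + y ^ 2 = -1) (t : Matrix.SpecialLinearGroup (Fin 2) F)
    (ht : t ∈ rotT F) : nSL x y h * t * (nSL x y h)⁻¹ = t⁻¹ := by
  obtain ⟨h1, h2⟩ := ht
  have hd : t.1 0 0 * t.1 1 1 - t.1 0 1 * t.1 1 0 = 1 := by
    have := t.2
    rwa [Matrix.det_fin_two] at this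
  have key : t * nSL x y h * t = nSL x y h := by
    apply Subtype.ext
    rw [Matrix.SpecialLinearGroup.coe_mul, Matrix.SpecialLinearGroup.coe_mul]
    have et : t.1 = !![t.1 1 1, - t.1 1 0; t.1 1 0, t.1 1 1] := by
      conv_lhs => rw [Matrix.eta_fin_two t.1, h1, h2]
    rw [h1, h2] at hd
    show t.1 * !![x, y; y, -x] * t.1 = !![x, y; y, -x]
    rw [et, Matrix.mul_fin_two, Matrix.mul_fin_two]
    have a1 : (t.1 1 1 * x + -t.1 1 0 * y) * t.1 1 1 + (t.1 1 1 * y + -t.1 1 0 * -x) * t.1 1 0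
        = x := by linear_combination x * hd
    have a2 : (t.1 1 1 * x + -t.1 1 0 * y) * -t.1 1 0 + (t.1 1 1 * y + -t.1 1 0 * -x) * t.1 1 1
        = y := by linear_combination y * hd
    have a3 : (t.1 1 0 * x + t.1 1 1 * y) * t.1 1 1 + (t.1 1 0 * y + t.1 1 1 * -x) * t.1 1 0
        = y := by linear_combination y * hd
    have a4 : (t.1 1 0 * x + t.1 1 1 * y) * -t.1 1 0 + (t.1 1 0 * y + t.1 1 1 * -x) * t.1 1 1
        = -x := by linear_combination (-x) * hd
    rw [a1, a2, a3, a4]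
  calc nSL x y h * t * (nSL x y h)⁻¹ = t⁻¹ * (t * nSL x y h * t) * (nSL x y h)⁻¹ := by group
    _ = t⁻¹ := by rw [key]; group

theorem nSL_not_mem (h2 : (2 : F) ≠ 0) (x y : F) (h : x ^ 2 + y ^ 2 = -1) :
    nSL x y h ∉ rotT F := by
  rintro ⟨h1, h3⟩
  change x = -x at h1
  change y = -y at h3
  have hx : x = 0 := by
    have : (2 : F) * x = 0 := by linear_combination h1
    rcases mul_eq_zero.mp this with h' | h'
    · exact absurd h' h2
    · exact h'
  have hy : y = 0 := by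
    have : (2 : F) * y = 0 := by linear_combination h3
    rcases mul_eq_zero.mp this with h' | h'
    · exact absurd h' h2
    · exact h'
  rw [hx, hy] at h
  have : (1 : F) = 0 := by linear_combination h
  exact one_ne_zero this

theorem rot_orth_aux (a b : F) (h : a * a + b * b = 1) :
    (!![a, -b; b, a] : Matrix (Fin 2) (Fin 2) F)ᵀ * !![a, -b; b, a] = 1 := by
  ext i j
  fin_cases i <;> fin_cases j <;> simp [Matrix.mul_apply, Fin.sum_univ_two] <;>
    first | linear_combination h | ring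

theorem rot_orth (t : Matrix.SpecialLinearGroup (Fin 2) F) (ht : t ∈ rotT F) :
    (t.1)ᵀ * t.1 = 1 := by
  obtain ⟨h1, h2⟩ := ht
  have hd : t.1 0 0 * t.1 1 1 - t.1 0 1 * t.1 1 0 = 1 := by
    have := t.2
    rwa [Matrix.det_fin_two] at this
  rw [h1, h2] at hd
  have et : t.1 = !![t.1 1 1, - t.1 1 0; t.1 1 0, t.1 1 1] := by
    conv_lhs => rw [Matrix.eta_fin_two t.1, h1, h2]
  rw [et]
  exact rot_orth_aux _ _ (by linear_combination hd)

/-- The rotation subgroup inside the orthogonal group of the plane. -/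
def rotToO2 (F : Type*) [Field F] : ↥(rotT F) →* ↥(O2 F) :=
  ((Matrix.SpecialLinearGroup.toGL (n := Fin 2) (R := F)).comp (rotT F).subtype).codRestrict
    (O2 F) (fun t => by
      apply mem_isometryGroup_of_transpose
      show (t.1.1)ᵀ * diagonal (fun _ => (1 : F)) * t.1.1 = diagonal (fun _ => 1)
      rw [Matrix.diagonal_one, Matrix.mul_one]
      exact rot_orth t.1 t.2)

theorem rotToO2_injective : Function.Injective (rotToO2 F) := by
  intro s t h
  have h1 : Matrix.SpecialLinearGroup.toGL s.1 = Matrix.SpecialLinearGroup.toGL t.1 :=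
    congrArg Subtype.val h
  exact Subtype.ext (Matrix.SpecialLinearGroup.toGL_injective h1)

theorem rotToO2_range (h2 : (2 : F) ≠ 0) : (rotToO2 F).range = (detO2 (F := F)).ker := by
  ext g
  constructor
  · rintro ⟨t, rfl⟩
    rw [MonoidHom.mem_ker]
    apply Units.ext
    rw [detO2_val]
    exact t.1.2
  · intro hg
    rw [MonoidHom.mem_ker] at hg
    have hdet : ((g : GL (Fin 2) F) : Matrix (Fin 2) (Fin 2) F).det = 1 := by
      rw [← detO2_val, hg]; rfl
    have horth := O2_orth h2 g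
    obtain ⟨M, hM⟩ : ∃ M : Matrix (Fin 2) (Fin 2) F,
      M = ((g : GL (Fin 2) F) : Matrix (Fin 2) (Fin 2) F) := ⟨_, rfl⟩
    rw [← hM] at hdet horth
    have E1 : M 0 0 * M 0 0 + M 1 0 * M 1 0 = 1 := by
      have := congrFun (congrFun horth 0) 0
      simpa [Matrix.mul_apply, Fin.sum_univ_two] using this
    have E2 : M 0 0 * M 0 1 + M 1 0 * M 1 1 = 0 := by
      have := congrFun (congrFun horth 0) 1
      simpa [Matrix.mul_apply, Fin.sum_univ_two] using this
    have E3 : M 0 1 * M 0 1 + M 1 1 * M 1 1 = 1 := by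
      have := congrFun (congrFun horth 1) 1
      simpa [Matrix.mul_apply, Fin.sum_univ_two] using this
    have E4 : M 0 0 * M 1 1 - M 0 1 * M 1 0 = 1 := by rwa [Matrix.det_fin_two] at hdet
    have ha : M 0 0 = M 1 1 := by
      linear_combination (-(M 0 0)) * E4 - M 1 0 * E2 + M 1 1 * E1
    have hb : M 0 1 = - M 1 0 := by
      linear_combination (-(M 0 1)) * E4 + M 1 1 * E2 - M 1 0 * E3
    refine ⟨⟨⟨M, hdet⟩, ha, hb⟩, Subtype.ext (Units.ext ?_)⟩
    exact hM

theorem card_rotT [Fintype F] (h2 : (2 : F) ≠ 0) :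
    Nat.card ↥(rotT F) * 2 = Nat.card ↥(O2 F) := by
  have h1 : Nat.card ↥(rotT F) = Nat.card ↥(detO2 (F := F)).ker := by
    rw [← rotToO2_range h2, card_range_of_inj _ rotToO2_injective]
  have h3 : (detO2 (F := F)).ker.index = 2 := by
    rw [Subgroup.index_eq_two_iff]
    obtain ⟨r, hr⟩ := exists_det_neg_one h2
    refine ⟨r, fun b => ?_⟩
    have hne : (-1 : Fˣ) ≠ 1 := by
      intro h
      have h5 := congrArg Units.val h
      simp only [Units.val_neg, Units.val_one] at h5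
      apply h2
      linear_combination -h5
    rw [MonoidHom.mem_ker, MonoidHom.mem_ker, map_mul, hr]
    rcases detO2_cases h2 b with hb | hb
    · right
      rw [hb]
      exact ⟨rfl, by simpa using hne⟩
    · left
      rw [hb]
      exact ⟨by simp, hne⟩
  rw [h1]
  have h4 := Subgroup.card_mul_index (detO2 (F := F)).ker
  rwa [h3] at h4

/-- A quaternion-like `2`-subgroup of `SL₂(q)` of the full `2`-part order in which every element
is conjugate to its inverse. -/
theorem exists_quat [Fintype F] (hF : Odd (Fintype.card F)) :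
    ∃ Q : Subgroup (Matrix.SpecialLinearGroup (Fin 2) F),
      Nat.card Q =
        2 ^ (padicValNat 2 (Fintype.card F - 1) + padicValNat 2 (Fintype.card F + 1)) ∧
      ∀ g ∈ Q, ∃ y ∈ Q, y * g * y⁻¹ = g⁻¹ := by
  classical
  have h2 := two_ne_zero_of_odd_card'' hF
  have hfin : Finite (Matrix.SpecialLinearGroup (Fin 2) F) :=
    inferInstanceAs (Finite {A : Matrix (Fin 2) (Fin 2) F // A.det = 1})
  obtain ⟨T₂, hT₂c, hT₂⟩ := exists_sylow_of_comm (A := ↥(rotT F))
    (fun a b => Subtype.ext (rotT_comm a.1 b.1 a.2 b.2))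
  obtain ⟨x, y, hxy⟩ : ∃ x y : F, x ^ 2 + y ^ 2 = -1 := by
    obtain ⟨x, y, h⟩ := exists_binary_rep hF (1 : F) 1 (-1) one_ne_zero one_ne_zero
    exact ⟨x, y, by linear_combination h⟩
  obtain ⟨T, hTdef⟩ : ∃ T : Subgroup (Matrix.SpecialLinearGroup (Fin 2) F),
    T = T₂.map (rotT F).subtype := ⟨_, rfl⟩
  have hTle : T ≤ rotT F := by
    rw [hTdef]
    exact Subgroup.map_subtype_le T₂
  have hjT : jSL F ∈ T := by
    rw [hTdef]
    exact ⟨⟨jSL F, jSL_mem⟩, hT₂ _ (Subtype.ext (jSL_pow F)), rfl⟩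
  have hn2 : nSL x y hxy * nSL x y hxy ∈ T := by
    rw [← nSL_sq]
    exact T.mul_mem hjT hjT
  have hinv : ∀ t ∈ T, nSL x y hxy * t * (nSL x y hxy)⁻¹ = t⁻¹ :=
    fun t ht => nSL_conj x y hxy t (hTle ht)
  refine ⟨quatExt T _ hn2 hinv, ?_, ?_⟩
  · rw [card_quatExt T _ hn2 hinv (fun h => nSL_not_mem h2 x y hxy (hTle h)), hTdef,
      Subgroup.card_map_of_injective (Subgroup.subtype_injective _), hT₂c]
    have hc := card_rotT (F := F) h2
    have hv := v2_card_O2 hF h2
    rw [← hc] at hv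
    have h3 : padicValNat 2 (Nat.card ↥(rotT F) * 2) = padicValNat 2 (Nat.card ↥(rotT F)) + 1 := by
      rw [mul_comm, v2_two_mul _ Nat.card_pos.ne']
      ring
    rw [← hv, h3, pow_succ]
  · intro g hg
    exact real_quatExt T _ hn2 hinv (fun s hs t ht => rotT_comm s t (hTle hs) (hTle ht))
      (jSL F) hjT (nSL_sq x y hxy) g hg

end sl2

end Cfsg.Agent.Lib.Helper44
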