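import Mathlib
import Cfsg.Prelude.Def_Classical
import Cfsg.Agent.Lib.Helper44.SL2Quat
import Cfsg.Agent.Lib.Helper44.SqGen

set_option autoImplicit false

namespace Cfsg.Agent.Lib.Helper44

open Matrix
open scoped commutatorElement

section sd

variable {F : Type*} [Field F]

/-- `J` in `GL₂`. -/
def jGL (F : Type*) [Field F] : GL (Fin 2) F := Matrix.SpecialLinearGroup.toGL (jSL F)

theorem jGL_val : ((jGL F : GL (Fin 2) F) : Matrix (Fin 2) (Fin 2) F) = !![0, -1; 1, 0] := rfl

theorem jGL_pow (F : Type*) [Field F] : jGL F ^ 4 = 1 := by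
  unfold jGL
  rw [← map_pow, jSL_pow, map_one]

theorem det_jGL (F : Type*) [Field F] : Matrix.GeneralLinearGroup.det (jGL F) = 1 := by
  apply Units.ext
  show ((jGL F : GL (Fin 2) F) : Matrix (Fin 2) (Fin 2) F).det = 1
  rw [jGL_val]
  simp [Matrix.det_fin_two]

/-- The rotation-like subgroup of `GL₂`: the centraliser of `J`. -/
def rotG (F : Type*) [Field F] : Subgroup (GL (Fin 2) F) := Subgroup.centralizer {jGL F}

theorem mem_rotG (g : GL (Fin 2) F) :
    g ∈ rotG F ↔ g.1 0 0 = g.1 1 1 ∧ g.1 0 1 = - g.1 1 0 := by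
  unfold rotG
  rw [Subgroup.mem_centralizer_iff]
  constructor
  · intro h
    have h1 := h (jGL F) rfl
    have h2 : (!![0, -1; 1, 0] : Matrix (Fin 2) (Fin 2) F) * g.1 = g.1 * !![0, -1; 1, 0] :=
      congrArg Units.val h1
    have e00 := congrFun (congrFun h2 1) 0
    have e11 := congrFun (congrFun h2 1) 1
    simp [Matrix.mul_apply, Fin.sum_univ_two] at e00 e11
    exact ⟨e00, e11⟩
  · rintro ⟨h1, h2⟩ k hk
    rw [Set.mem_singleton_iff] at hk
    subst hk
    apply Units.ext
    show (!![0, -1; 1, 0] : Matrix (Fin 2) (Fin 2) F) * g.1 = g.1 * !![0, -1; 1, 0]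
    ext i j
    fin_cases i <;> fin_cases j <;> simp [Matrix.mul_apply, Fin.sum_univ_two, h1, h2]

theorem jGL_mem : jGL F ∈ rotG F := by
  unfold rotG
  rw [Subgroup.mem_centralizer_iff]
  intro k hk
  rw [Set.mem_singleton_iff] at hk
  rw [hk]

theorem rotG_comm (s t : GL (Fin 2) F) (hs : s ∈ rotG F) (ht : t ∈ rotG F) : s * t = t * s := by
  rw [mem_rotG] at hs ht
  obtain ⟨h1, h2⟩ := hs
  obtain ⟨h3, h4⟩ := ht
  apply Units.ext
  show s.1 * t.1 = t.1 * s.1
  ext i j
  fin_cases i <;> fin_cases j <;>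
    simp only [Matrix.mul_apply, Fin.sum_univ_two, Fin.zero_eta, Fin.mk_one] <;>
    (try rw [h1]) <;> (try rw [h2]) <;> (try rw [h3]) <;> (try rw [h4]) <;> ring

/-- The reflection `diag(1, -1)`. -/
def rGL (F : Type*) [Field F] : GL (Fin 2) F :=
  ⟨!![1, 0; 0, -1], !![1, 0; 0, -1], by
    rw [Matrix.mul_fin_two]
    ext i j
    fin_cases i <;> fin_cases j <;> simp, by
    rw [Matrix.mul_fin_two]
    ext i j
    fin_cases i <;> fin_cases j <;> simp⟩

theorem rGL_val : ((rGL F : GL (Fin 2) F) : Matrix (Fin 2) (Fin 2) F) = !![1, 0; 0, -1] := rfl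

theorem rGL_mul_self (F : Type*) [Field F] : rGL F * rGL F = 1 := by
  apply Units.ext
  exact (rGL F).3

theorem rGL_inv (F : Type*) [Field F] : (rGL F)⁻¹ = rGL F :=
  inv_eq_of_mul_eq_one_left (rGL_mul_self F)

theorem det_rGL (F : Type*) [Field F] : Matrix.GeneralLinearGroup.det (rGL F) = -1 := by
  apply Units.ext
  show ((rGL F : GL (Fin 2) F) : Matrix (Fin 2) (Fin 2) F).det = ((-1 : Fˣ) : F)
  rw [rGL_val]
  simp [Matrix.det_fin_two]

theorem rGL_not_mem (h2 : (2 : F) ≠ 0) : rGL F ∉ rotG F := by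
  rw [mem_rotG]
  rintro ⟨h1, -⟩
  change (1 : F) = -1 at h1
  apply h2
  linear_combination h1

/-- `r c r c = det c` for rotation-like `c`. -/
theorem rGL_conj_aux (c : GL (Fin 2) F) (hc : c ∈ rotG F) :
    ((rGL F * c * rGL F * c : GL (Fin 2) F) : Matrix (Fin 2) (Fin 2) F) =
      !![c.1.det, 0; 0, c.1.det] := by
  rw [mem_rotG] at hc
  obtain ⟨h1, h2⟩ := hc
  have et : c.1 = !![c.1 1 1, - c.1 1 0; c.1 1 0, c.1 1 1] := by
    conv_lhs => rw [Matrix.eta_fin_two c.1, h1, h2]
  show (!![1, 0; 0, -1] : Matrix (Fin 2) (Fin 2) F) * c.1 * !![1, 0; 0, -1] * c.1 = _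
  rw [et, Matrix.mul_fin_two, Matrix.mul_fin_two, Matrix.mul_fin_two, Matrix.det_fin_two_of]
  congr 1
  · ext i j
    fin_cases i <;> fin_cases j <;> simp <;> ring

theorem rGL_conj_of_det_one (c : GL (Fin 2) F) (hc : c ∈ rotG F)
    (hd : Matrix.GeneralLinearGroup.det c = 1) : rGL F * c * (rGL F)⁻¹ = c⁻¹ := by
  have hd' : c.1.det = 1 := congrArg Units.val hd
  have key : rGL F * c * rGL F * c = 1 := by
    apply Units.ext
    rw [rGL_conj_aux c hc, hd']
    ext i j
    fin_cases i <;> fin_cases j <;> simp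
  rw [rGL_inv]
  exact eq_inv_of_mul_eq_one_left key

theorem rGL_conj_of_det_neg_one (c : GL (Fin 2) F) (hc : c ∈ rotG F)
    (hd : Matrix.GeneralLinearGroup.det c = -1) :
    rGL F * c * (rGL F)⁻¹ = jGL F * jGL F * c⁻¹ := by
  have hd' : c.1.det = -1 := by
    have := congrArg Units.val hd
    simpa using this
  have key : rGL F * c * rGL F * c = jGL F * jGL F := by
    apply Units.ext
    rw [rGL_conj_aux c hc, hd']
    show _ = (!![0, -1; 1, 0] : Matrix (Fin 2) (Fin 2) F) * !![0, -1; 1, 0]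
    rw [Matrix.mul_fin_two]
    ext i j
    fin_cases i <;> fin_cases j <;> simp
  rw [rGL_inv, ← key]
  group

theorem card_rotG [Fintype F] (hns : ¬ IsSquare (-1 : F)) :
    Nat.card ↥(rotG F) = Fintype.card F ^ 2 - 1 := by
  classical
  have hdet : ∀ a b : F, (a, b) ≠ (0, 0) → a * a + b * b ≠ 0 := by
    intro a b hab h0
    by_cases hb : b = 0
    · subst hb
      have : a = 0 := by
        have : a * a = 0 := by linear_combination h0
        exact mul_self_eq_zero.mp this
      exact hab (by rw [this])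
    · apply hns
      refine ⟨a / b, ?_⟩
      field_simp
      linear_combination -h0
  let f : ↥(rotG F) → {p : F × F // p ≠ (0, 0)} := fun g =>
    ⟨(g.1.1 1 1, g.1.1 1 0), by
      intro h
      have h1 : g.1.1 1 1 = 0 := (Prod.mk.inj h).1
      have h2 : g.1.1 1 0 = 0 := (Prod.mk.inj h).2
      obtain ⟨h3, h4⟩ := (mem_rotG g.1).mp g.2
      have hz : g.1.1 = 0 := by
        rw [Matrix.eta_fin_two g.1.1, h3, h4, h1, h2]
        ext i j
        fin_cases i <;> fin_cases j <;> simp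
      exact Units.ne_zero g.1 hz⟩
  have hf : Function.Bijective f := by
    constructor
    · intro g g' h
      have h1 : g.1.1 1 1 = g'.1.1 1 1 := (Prod.mk.inj (congrArg Subtype.val h)).1
      have h2 : g.1.1 1 0 = g'.1.1 1 0 := (Prod.mk.inj (congrArg Subtype.val h)).2
      obtain ⟨h3, h4⟩ := (mem_rotG g.1).mp g.2
      obtain ⟨h5, h6⟩ := (mem_rotG g'.1).mp g'.2
      apply Subtype.ext
      apply Units.ext
      rw [Matrix.eta_fin_two g.1.1, Matrix.eta_fin_two g'.1.1, h3, h4, h5, h6, h1, h2]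
    · rintro ⟨⟨a, b⟩, hab⟩
      have hd : (!![a, -b; b, a] : Matrix (Fin 2) (Fin 2) F).det ≠ 0 := by
        rw [Matrix.det_fin_two_of]
        have := hdet a b hab
        intro h
        apply this
        linear_combination h
      refine ⟨⟨Matrix.GeneralLinearGroup.mkOfDetNeZero !![a, -b; b, a] hd, ?_⟩, ?_⟩
      · rw [mem_rotG]
        constructor
        · rfl
        · show -b = -b
          rfl
      · rfl
  rw [Nat.card_congr (Equiv.ofBijective f hf), Nat.card_eq_fintype_card, Fintype.card_subtype,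
    Finset.filter_ne', Finset.card_erase_of_mem (Finset.mem_univ _), Finset.card_univ,
    Fintype.card_prod, pow_two]

theorem two_elt_units [Fintype F] (hq4 : Fintype.card F % 4 = 3) (d : Fˣ) (k : ℕ)
    (h : d ^ (2 ^ k) = 1) : d = 1 ∨ d = -1 := by
  classical
  have h1 : d ^ (Fintype.card F - 1) = 1 := by
    rw [← Fintype.card_units]
    exact pow_card_eq_one
  obtain ⟨u, hu⟩ : ∃ u, Fintype.card F - 1 = 2 * u := ⟨(Fintype.card F - 1) / 2, by omega⟩
  have hu1 : u % 2 = 1 := by omega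
  have h3 : (d ^ 2) ^ u = 1 := by rw [← pow_mul, ← hu]; exact h1
  have h4 : (d ^ 2) ^ (2 ^ k) = 1 := by rw [← pow_mul, mul_comm, pow_mul, h, one_pow]
  have h5 : (d ^ 2) ^ Nat.gcd (2 ^ k) u = 1 := pow_gcd_eq_one.mpr ⟨h4, h3⟩
  have hcop : Nat.gcd (2 ^ k) u = 1 := by
    apply Nat.Coprime.pow_left
    rw [Nat.coprime_comm]
    exact Nat.odd_iff.mpr hu1 |>.coprime_two_right
  rw [hcop, pow_one] at h5
  have h6 : (d : F) * (d : F) = 1 := by
    have := congrArg Units.val h5
    simpa [pow_two] using this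
  rcases mul_self_eq_one_iff.mp h6 with h7 | h7
  · left
    exact Units.ext h7
  · right
    apply Units.ext
    rw [h7]
    simp

/-- A semidihedral-like `2`-subgroup of `GL₂(q)`, `q ≡ 3 (mod 4)`, of the full `2`-part order,
with a reflection `r` such that all squares are products of commutators `[r, a]`, `det a = 1`. -/
theorem exists_sd [Fintype F] (hF : Odd (Fintype.card F)) (hq4 : Fintype.card F % 4 = 3) :
    ∃ (A : Subgroup (GL (Fin 2) F)) (r : ↥A),
      Nat.card ↥A =
        2 ^ (padicValNat 2 (Fintype.card F - 1) + padicValNat 2 (Fintype.card F + 1) + 1) ∧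
      Matrix.GeneralLinearGroup.det (r : GL (Fin 2) F) = -1 ∧
      (∀ x : ↥A, Matrix.GeneralLinearGroup.det (x : GL (Fin 2) F) = 1 ∨
        Matrix.GeneralLinearGroup.det (x : GL (Fin 2) F) = -1) ∧
      (∀ x : ↥A, x * x ∈ Subgroup.closure {y : ↥A | ∃ a : ↥A,
        Matrix.GeneralLinearGroup.det (a : GL (Fin 2) F) = 1 ∧ y = ⁅r, a⁆}) := by
  classical
  have h2 := two_ne_zero_of_odd_card'' hF
  obtain ⟨hq, hq3⟩ := card_facts hF
  have hns : ¬ IsSquare (-1 : F) := by
    rw [FiniteField.isSquare_neg_one_iff]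
    omega
  have hfin : Finite (GL (Fin 2) F) := inferInstance
  obtain ⟨T₂, hT₂c, hT₂⟩ := exists_sylow_of_comm (A := ↥(rotG F))
    (fun a b => Subtype.ext (rotG_comm a.1 b.1 a.2 b.2))
  obtain ⟨C, hCdef⟩ : ∃ C : Subgroup (GL (Fin 2) F), C = T₂.map (rotG F).subtype := ⟨_, rfl⟩
  have hCle : C ≤ rotG F := by
    rw [hCdef]
    exact Subgroup.map_subtype_le T₂
  have hJC : jGL F ∈ C := by
    rw [hCdef]
    exact ⟨⟨jGL F, jGL_mem⟩, hT₂ _ (Subtype.ext (jGL_pow F)), rfl⟩
  have hCc : Nat.card ↥C =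
      2 ^ (padicValNat 2 (Fintype.card F - 1) + padicValNat 2 (Fintype.card F + 1)) := by
    rw [hCdef, Subgroup.card_map_of_injective (Subgroup.subtype_injective _), hT₂c,
      card_rotG hns]
    congr 1
    have e : Fintype.card F ^ 2 - 1 = (Fintype.card F - 1) * (Fintype.card F + 1) := by
      obtain ⟨k, hk⟩ : ∃ k, Fintype.card F = k + 1 := ⟨Fintype.card F - 1, by omega⟩
      rw [hk]
      simp only [Nat.add_sub_cancel]
      rw [Nat.sub_eq_iff_eq_add (Nat.one_le_pow _ _ (by omega))]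
      ring
    have : Fact (Nat.Prime 2) := ⟨Nat.prime_two⟩
    rw [e, padicValNat.mul (by omega) (by omega)]
  have hCdet : ∀ c ∈ C, Matrix.GeneralLinearGroup.det c = 1 ∨
      Matrix.GeneralLinearGroup.det c = -1 := by
    intro c hc
    apply two_elt_units hq4 _
      (padicValNat 2 (Fintype.card F - 1) + padicValNat 2 (Fintype.card F + 1))
    rw [← map_pow]
    have h3 : (⟨c, hc⟩ : ↥C) ^ Nat.card ↥C = 1 := pow_card_eq_one'
    rw [hCc] at h3
    have h4 : c ^ 2 ^ (padicValNat 2 (Fintype.card F - 1) + padicValNat 2 (Fintype.card F + 1))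
        = 1 := congrArg Subtype.val h3
    rw [h4, map_one]
  have hr2 : rGL F * rGL F ∈ C := by
    rw [rGL_mul_self]
    exact C.one_mem
  have hnorm : ∀ t ∈ C, rGL F * t * (rGL F)⁻¹ ∈ C := by
    intro t ht
    rcases hCdet t ht with hd | hd
    · rw [rGL_conj_of_det_one t (hCle ht) hd]
      exact C.inv_mem ht
    · rw [rGL_conj_of_det_neg_one t (hCle ht) hd]
      exact C.mul_mem (C.mul_mem hJC hJC) (C.inv_mem ht)
  have hrn : rGL F ∉ C := fun h => rGL_not_mem h2 (hCle h)
  obtain ⟨A, hAdef⟩ : ∃ A : Subgroup (GL (Fin 2) F), A = normExt C (rGL F) hr2 hnorm :=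
    ⟨_, rfl⟩
  have hmemA : ∀ g, g ∈ A ↔ g ∈ C ∨ g * rGL F ∈ C := by
    rw [hAdef]
    exact fun g => Iff.rfl
  have hAc : Nat.card ↥A =
      2 ^ (padicValNat 2 (Fintype.card F - 1) + padicValNat 2 (Fintype.card F + 1) + 1) := by
    rw [hAdef, card_normExt C _ hr2 hnorm hrn, hCc, pow_succ]
  have hJ4 : (jGL F * jGL F)⁻¹ = jGL F * jGL F := by
    apply inv_eq_of_mul_eq_one_left
    have := jGL_pow F
    rw [← this]
    simp only [pow_succ, pow_zero, one_mul, mul_assoc]
  refine ⟨A, ⟨rGL F, (hmemA _).mpr (Or.inr hr2)⟩, hAc, det_rGL F, ?_, ?_⟩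
  · intro x
    rcases (hmemA x.1).mp x.2 with hx | hx
    · exact hCdet _ hx
    · have h3 := hCdet _ hx
      rw [map_mul, det_rGL] at h3
      rcases h3 with h3 | h3
      · right
        rw [mul_neg_one] at h3
        exact neg_eq_iff_eq_neg.mp h3
      · left
        rw [mul_neg_one] at h3
        exact neg_injective h3
  · obtain ⟨r', hr'⟩ : ∃ r' : ↥A, r' = ⟨rGL F, (hmemA _).mpr (Or.inr hr2)⟩ := ⟨_, rfl⟩
    rw [← hr']
    have hr'v : (r' : GL (Fin 2) F) = rGL F := by rw [hr']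
    obtain ⟨jA, hjA⟩ : ∃ jA : ↥A, (jA : GL (Fin 2) F) = jGL F :=
      ⟨⟨jGL F, (hmemA _).mpr (Or.inl hJC)⟩, rfl⟩
    have hnegK : jA * jA ∈ Subgroup.closure {y : ↥A | ∃ a : ↥A,
        Matrix.GeneralLinearGroup.det (a : GL (Fin 2) F) = 1 ∧ y = ⁅r', a⁆} := by
      have e : jA * jA = ⁅r', jA⁆ := by
        apply Subtype.ext
        show (jA : GL (Fin 2) F) * (jA : GL (Fin 2) F) =
          ⁅(r' : GL (Fin 2) F), (jA : GL (Fin 2) F)⁆
        rw [hjA, hr'v, commutatorElement_def,
          rGL_conj_of_det_one (jGL F) jGL_mem (det_jGL F), ← _root_.mul_inv_rev, hJ4]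
      rw [e]
      exact Subgroup.subset_closure ⟨jA, by rw [hjA]; exact det_jGL F, rfl⟩
    intro x
    rcases (hmemA x.1).mp x.2 with hx | hx
    · rcases hCdet x.1 hx with hd | hd
      · have e : ⁅r', x⁆ = (x * x)⁻¹ := by
          apply Subtype.ext
          show ⁅(r' : GL (Fin 2) F), (x : GL (Fin 2) F)⁆ =
            ((x : GL (Fin 2) F) * (x : GL (Fin 2) F))⁻¹
          rw [hr'v, commutatorElement_def, rGL_conj_of_det_one x.1 (hCle hx) hd, _root_.mul_inv_rev]
        have h3 : ⁅r', x⁆ ∈ Subgroup.closure {y : ↥A | ∃ a : ↥A,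
            Matrix.GeneralLinearGroup.det (a : GL (Fin 2) F) = 1 ∧ y = ⁅r', a⁆} :=
          Subgroup.subset_closure ⟨x, hd, rfl⟩
        rw [e] at h3
        exact (Subgroup.inv_mem_iff _).mp h3
      · have hda : Matrix.GeneralLinearGroup.det ((x * r' : ↥A) : GL (Fin 2) F) = 1 := by
          show Matrix.GeneralLinearGroup.det ((x : GL (Fin 2) F) * (r' : GL (Fin 2) F)) = 1
          rw [map_mul, hd, hr'v, det_rGL]
          simp
        have h3 : ⁅r', x * r'⁆ ∈ Subgroup.closure {y : ↥A | ∃ a : ↥A,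
            Matrix.GeneralLinearGroup.det (a : GL (Fin 2) F) = 1 ∧ y = ⁅r', a⁆} :=
          Subgroup.subset_closure ⟨x * r', hda, rfl⟩
        have e : (x * x)⁻¹ = (jA * jA)⁻¹ * ⁅r', x * r'⁆ := by
          apply Subtype.ext
          show ((x : GL (Fin 2) F) * (x : GL (Fin 2) F))⁻¹ =
            ((jA : GL (Fin 2) F) * (jA : GL (Fin 2) F))⁻¹ *
              ⁅(r' : GL (Fin 2) F), (x : GL (Fin 2) F) * (r' : GL (Fin 2) F)⁆
          rw [hjA, hr'v]
          have e1 : ⁅rGL F, x.1 * rGL F⁆ = (rGL F * x.1 * (rGL F)⁻¹) * x.1⁻¹ := by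
            rw [commutatorElement_def]
            group
          rw [e1, rGL_conj_of_det_neg_one x.1 (hCle hx) hd]
          group
        have h4 := Subgroup.mul_mem _ (Subgroup.inv_mem _ hnegK) h3
        rw [← e] at h4
        exact (Subgroup.inv_mem_iff _).mp h4
    · have e : x.1 * x.1 = (x.1 * rGL F) * (rGL F * (x.1 * rGL F) * (rGL F)⁻¹) := by
        have h3 := rGL_mul_self F
        calc x.1 * x.1 = x.1 * (rGL F * rGL F) * x.1 := by rw [h3, mul_one]
          _ = (x.1 * rGL F) * (rGL F * (x.1 * rGL F) * (rGL F)⁻¹) := by group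
      rcases hCdet (x.1 * rGL F) hx with hd | hd
      · rw [rGL_conj_of_det_one _ (hCle hx) hd, mul_inv_cancel] at e
        have e' : x * x = 1 := Subtype.ext e
        rw [e']
        exact Subgroup.one_mem _
      · rw [rGL_conj_of_det_neg_one _ (hCle hx) hd] at e
        have hc : (x.1 * rGL F) * (jGL F * jGL F) = (jGL F * jGL F) * (x.1 * rGL F) :=
          rotG_comm _ _ (hCle hx) (Subgroup.mul_mem _ jGL_mem jGL_mem)
        have e2 : x.1 * x.1 = jGL F * jGL F := by
          rw [e]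
          calc (x.1 * rGL F) * (jGL F * jGL F * (x.1 * rGL F)⁻¹)
              = ((x.1 * rGL F) * (jGL F * jGL F)) * (x.1 * rGL F)⁻¹ := by group
            _ = jGL F * jGL F := by rw [hc]; group
        have e' : x * x = jA * jA := by
          apply Subtype.ext
          show (x : GL (Fin 2) F) * (x : GL (Fin 2) F) =
            (jA : GL (Fin 2) F) * (jA : GL (Fin 2) F)
          rw [hjA]
          exact e2
        rw [e']
        exact hnegK

end sd

end Cfsg.Agent.Lib.Helper44
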