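import Mathlib
import Cfsg.Prelude.Def_Classical
import Cfsg.Agent.Lib.Helper44.GLModel
import Cfsg.Agent.Lib.Helper44.SDGroup
import Cfsg.Agent.Lib.Helper44.GLArith

set_option autoImplicit false

namespace Cfsg.Agent.Lib.Helper44

open Matrix
open scoped commutatorElement

theorem odd_index_of_card {G : Type*} [Group G] [Finite G] (W : Subgroup G)
    (hcW : Nat.card ↥W = 2 ^ padicValNat 2 (Nat.card G)) : Odd W.index := by
  have : Fact (Nat.Prime 2) := ⟨Nat.prime_two⟩
  have h1 := Subgroup.card_mul_index W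
  rw [hcW] at h1
  by_contra hodd
  rw [Nat.not_odd_iff_even] at hodd
  obtain ⟨k, hk⟩ := hodd
  have h3 : 2 ^ (padicValNat 2 (Nat.card G) + 1) ∣ Nat.card G := by
    refine Dvd.intro k ?_
    calc 2 ^ (padicValNat 2 (Nat.card G) + 1) * k
        = 2 ^ padicValNat 2 (Nat.card G) * (k + k) := by ring
      _ = 2 ^ padicValNat 2 (Nat.card G) * W.index := by rw [hk]
      _ = Nat.card G := h1
  exact pow_succ_padicValNat_not_dvd (Nat.card_pos.ne') h3

theorem prod_comm_fst {G H : Type*} [Group G] [Group H] (a b : G × H) :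
    ⁅a, b⁆.1 = ⁅a.1, b.1⁆ := rfl

theorem prod_comm_snd {G H : Type*} [Group G] [Group H] (a b : G × H) :
    ⁅a, b⁆.2 = ⁅a.2, b.2⁆ := rfl

theorem pi_comm_apply {ι : Type*} {G : Type*} [Group G] (a b : ι → G) (i : ι) :
    ⁅a, b⁆ i = ⁅a i, b i⁆ := rfl

/-- A commutator at one coordinate is a commutator in the product. -/
theorem single_comm {T : Type*} [DecidableEq T] {G E : Type*} [Group G] [Group E] (t : T)
    (r b : G) (g : T → G) (e' : E) (hgt : g t = r) :
    ((Pi.mulSingle t ⁅r, b⁆, 1) : (T → G) × E) = ⁅(g, e'), (Pi.mulSingle t b, 1)⁆ := by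
  refine Prod.ext ?_ ?_
  · rw [prod_comm_fst]
    funext s
    rw [pi_comm_apply]
    by_cases hs : s = t
    · subst hs
      simp [hgt]
    · simp [Pi.mulSingle_eq_of_ne hs]
  · rw [prod_comm_snd]
    simp

/-- The wreath-product model in `GL`, intersected with the kernel of the determinant: if the
base group `A ≤ GL₂(F)` has all squares in the group generated by the commutators `[r, b]`,
`det b = 1`, and `r` can be completed to a determinant-one element at every position, then the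
Sylow `2`-subgroups of the kernel of the determinant have abelianisation of exponent two. -/
theorem gl_model {F : Type*} [Field F] [Fintype F] (h2 : (2 : F) ≠ 0)
    (T L : Type) [Fintype T] [DecidableEq T] [Fintype L] [DecidableEq L]
    (A : Subgroup (GL (Fin 2) F)) (r : ↥A) (a : ℕ) (hA : Nat.card ↥A = 2 ^ a)
    (hsq : ∀ x : ↥A, x * x ∈ Subgroup.closure {y : ↥A | ∃ b : ↥A,
      Matrix.GeneralLinearGroup.det (b : GL (Fin 2) F) = 1 ∧ y = ⁅r, b⁆})
    (hρ : ∀ t : T, ∃ (g : T → ↥A) (e : L → ℤˣ), g t = r ∧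
      Matrix.GeneralLinearGroup.det (βA T L A (g, e)) = 1)
    (hcard : padicValNat 2 (Nat.card (GL ((Fin 2 × T) ⊕ L) F)) =
      a * Fintype.card T + Fintype.card L + padicValNat 2 (Fintype.card T).factorial) :
    ∀ P : Sylow 2 ↥(Matrix.GeneralLinearGroup.det (n := (Fin 2 × T) ⊕ L) (R := F)).ker,
      SqInComm ↥(P : Subgroup ↥(Matrix.GeneralLinearGroup.det (n := (Fin 2 × T) ⊕ L)
        (R := F)).ker) := by
  classical
  have : Fact (Nat.Prime 2) := ⟨Nat.prime_two⟩
  obtain ⟨S, hScard, hSgen⟩ := exists_sylow_perm (Fintype.card T) T rfl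
  obtain ⟨β, hβdef⟩ : ∃ β : (T → ↥A) × (L → ℤˣ) →* GL ((Fin 2 × T) ⊕ L) F,
    β = βA T L A := ⟨_, rfl⟩
  obtain ⟨π, hπdef⟩ : ∃ π : Equiv.Perm T →* GL ((Fin 2 × T) ⊕ L) F, π = πG T L := ⟨_, rfl⟩
  have hnorm : ∀ k ∈ S.map π, ∀ h ∈ β.range, k * h * k⁻¹ ∈ β.range := by
    rintro _ ⟨σ, -, rfl⟩ _ ⟨⟨d, e⟩, rfl⟩
    refine ⟨(d ∘ σ.symm, e), ?_⟩
    rw [hβdef, hπdef]
    exact (glmodel_conj T L A σ d e).symm
  have hdisj : β.range ⊓ S.map π = ⊥ := by
    rw [hβdef, hπdef]
    exact glmodel_disjoint T L A S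
  have hβinj : Function.Injective β := by
    rw [hβdef]
    exact βA_injective T L A h2
  have hπinj : Function.Injective π := by
    rw [hπdef]
    exact πG_injective T L
  have hcW : Nat.card ↥(β.range ⊔ S.map π) =
      2 ^ padicValNat 2 (Nat.card (GL ((Fin 2 × T) ⊕ L) F)) := by
    rw [card_sup_of_normalizes _ _ hnorm hdisj, card_range_of_inj _ hβinj,
      Subgroup.card_map_of_injective hπinj, hScard, Nat.card_prod, Nat.card_fun,
      Nat.card_fun, hA, hcard]
    simp only [Nat.card_eq_fintype_card, Fintype.card_units_int]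
    rw [← pow_mul, ← pow_add, ← pow_add]
  have hWp : IsPGroup 2 ↥(β.range ⊔ S.map π) := IsPGroup.of_card hcW
  have hidx : Odd (β.range ⊔ S.map π).index := odd_index_of_card _ hcW
  have hπN : ∀ σ, π σ ∈ (Matrix.GeneralLinearGroup.det (n := (Fin 2 × T) ⊕ L) (R := F)).ker := by
    intro σ
    rw [hπdef, MonoidHom.mem_ker]
    exact det_πG T L σ
  apply sylow_sqInComm _ _ hWp hidx
  have hInv := hSgen.map π
  obtain ⟨P, hPdef⟩ : ∃ P : Subgroup (GL ((Fin 2 × T) ⊕ L) F), P = (β.range ⊔ S.map π) ⊓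
    (Matrix.GeneralLinearGroup.det (n := (Fin 2 × T) ⊕ L) (R := F)).ker := ⟨_, rfl⟩
  rw [← hPdef]
  have hPmem : ∀ g, g ∈ P ↔ g ∈ β.range ⊔ S.map π ∧
      Matrix.GeneralLinearGroup.det g = 1 := by
    rw [hPdef]
    exact fun g => Iff.rfl
  have hπN' : ∀ σ, Matrix.GeneralLinearGroup.det (π σ) = 1 := by
    intro σ
    rw [hπdef]
    exact det_πG T L σ
  refine sqInComm_of_gen P
    ({g | g ∈ β.range ∧ Matrix.GeneralLinearGroup.det g = 1} ∪
      {τ | τ ∈ S.map π ∧ τ ^ 2 = 1}) ?_ ?_ ?_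
  · intro g hg
    obtain ⟨hgW, hgN⟩ := (hPmem g).mp hg
    obtain ⟨h, hh, k, hk, rfl⟩ := mem_sup_of_normalizes _ _ hnorm hgW
    have hkN : Matrix.GeneralLinearGroup.det k = 1 := by
      obtain ⟨σ, -, rfl⟩ := hk
      exact hπN' σ
    have hhN : Matrix.GeneralLinearGroup.det h = 1 := by
      rw [map_mul, hkN, mul_one] at hgN
      exact hgN
    apply Subgroup.mul_mem
    · exact Subgroup.subset_closure (Or.inl ⟨hh, hhN⟩)
    · exact (hInv.trans (Subgroup.closure_mono (fun x hx => Or.inr hx))) hk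
  · rintro g (⟨hg, hgN⟩ | ⟨hg, -⟩)
    · exact (hPmem g).mpr ⟨(le_sup_left : β.range ≤ _) hg, hgN⟩
    · refine (hPmem g).mpr ⟨(le_sup_right : S.map π ≤ _) hg, ?_⟩
      obtain ⟨σ, -, rfl⟩ := hg
      exact hπN' σ
  · rintro x (⟨⟨⟨f, e⟩, rfl⟩, hxN⟩ | ⟨hx, hx2⟩)
    · have e1 : β (f, e) * β (f, e) = β (f * f, 1) := by
        rw [← map_mul]
        congr 1
        refine Prod.ext rfl ?_
        funext l
        exact Int.units_mul_self (e l)
      rw [e1]
      have hM : Subgroup.pi Set.univ (fun _ : T => Subgroup.closure {y : ↥A | ∃ b : ↥A,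
            Matrix.GeneralLinearGroup.det (b : GL (Fin 2) F) = 1 ∧ y = ⁅r, b⁆}) ≤
          (⁅P, P⁆).comap (β.comp (MonoidHom.inl _ _)) := by
        rw [Subgroup.pi_le_iff]
        intro t
        rw [Subgroup.map_le_iff_le_comap, Subgroup.closure_le]
        rintro y ⟨b, hb, rfl⟩
        change β (Pi.mulSingle t ⁅r, b⁆, 1) ∈ ⁅P, P⁆
        obtain ⟨g, e', hgt, hdet⟩ := hρ t
        have e2 : β (Pi.mulSingle t ⁅r, b⁆, 1) = ⁅β (g, e'), β (Pi.mulSingle t b, 1)⁆ := by
          rw [← map_commutatorElement, single_comm t r b g e' hgt]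
        rw [e2]
        apply Subgroup.commutator_mem_commutator
        · refine (hPmem _).mpr ⟨(le_sup_left : β.range ≤ _) ⟨_, rfl⟩, ?_⟩
          rw [hβdef]
          exact hdet
        · refine (hPmem _).mpr ⟨(le_sup_left : β.range ≤ _) ⟨_, rfl⟩, ?_⟩
          rw [hβdef, det_βA_single]
          exact hb
      exact hM (fun t _ => hsq (f t))
    · have : x * x = 1 := by rwa [pow_two] at hx2
      rw [this]
      exact Subgroup.one_mem _

section apps

variable {F : Type*} [Field F] [Fintype F]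

theorem finite_SL (n : Type*) [Fintype n] [DecidableEq n] :
    Finite (Matrix.SpecialLinearGroup n F) :=
  inferInstanceAs (Finite {A : Matrix n n F // A.det = 1})

/-- `SL_{2m+1}(q)`, `q ≡ 3 (mod 4)`. -/
theorem sylow_sl_odd (hF : Odd (Fintype.card F)) (hq4 : Fintype.card F % 4 = 3) (m : ℕ) :
    ∀ P : Sylow 2 (Matrix.SpecialLinearGroup (Fin (2 * m + 1)) F),
      SqInComm ↥(P : Subgroup (Matrix.SpecialLinearGroup (Fin (2 * m + 1)) F)) := by
  classical
  have h2 := two_ne_zero_of_odd_card'' hF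
  obtain ⟨hq, hq3⟩ := card_facts hF
  obtain ⟨A, r, hAc, hrdet, hAdet, hAsq⟩ := exists_sd hF hq4
  have hfin := finite_SL (F := F) (Fin (2 * m + 1))
  have hce : Fintype.card (Fin (2 * m + 1)) = Fintype.card ((Fin 2 × Fin m) ⊕ Fin 1) := by
    simp
  obtain ⟨ε⟩ : Nonempty (Fin (2 * m + 1) ≃ (Fin 2 × Fin m) ⊕ Fin 1) :=
    ⟨Fintype.equivOfCardEq hce⟩
  apply sylow_sqInComm_of_mulEquiv (slEquivKer ε)
  apply gl_model h2 (Fin m) (Fin 1) A r _ hAc hAsq
  · intro t
    refine ⟨Pi.mulSingle t r, fun _ => -1, by simp, ?_⟩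
    have e : ((Pi.mulSingle t r, fun _ => -1) : (Fin m → ↥A) × (Fin 1 → ℤˣ)) =
        (Pi.mulSingle t r, 1) * (1, fun _ => -1) := by
      refine Prod.ext ?_ ?_
      · simp
      · simp
    have h3 : Matrix.GeneralLinearGroup.det (βA (Fin m) (Fin 1) A (1, fun _ => -1)) = -1 := by
      apply Units.ext
      rw [det_βA_snd]
      simp
    rw [e, map_mul, map_mul, det_βA_single, hrdet, h3]
    simp
  · rw [card_GL_reindex ε, Matrix.card_GL_field, v2_card_GL_odd _ hq hq3 m]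
    have h1 : padicValNat 2 (Fintype.card F - 1) = 1 := v2_of_mod_four _ (by omega)
    rw [h1]
    simp only [Fintype.card_fin]
    ring

/-- `SL_{2m}(q)`, `q ≡ 3 (mod 4)`, `m ≥ 2`. -/
theorem sylow_sl_even_A (hF : Odd (Fintype.card F)) (hq4 : Fintype.card F % 4 = 3) (m : ℕ)
    (hm : 2 ≤ m) :
    ∀ P : Sylow 2 (Matrix.SpecialLinearGroup (Fin (2 * m)) F),
      SqInComm ↥(P : Subgroup (Matrix.SpecialLinearGroup (Fin (2 * m)) F)) := by
  classical
  have h2 := two_ne_zero_of_odd_card'' hF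
  obtain ⟨hq, hq3⟩ := card_facts hF
  obtain ⟨A, r, hAc, hrdet, hAdet, hAsq⟩ := exists_sd hF hq4
  have hfin := finite_SL (F := F) (Fin (2 * m))
  have hce : Fintype.card (Fin (2 * m)) = Fintype.card ((Fin 2 × Fin m) ⊕ Fin 0) := by
    simp
  obtain ⟨ε⟩ : Nonempty (Fin (2 * m) ≃ (Fin 2 × Fin m) ⊕ Fin 0) :=
    ⟨Fintype.equivOfCardEq hce⟩
  apply sylow_sqInComm_of_mulEquiv (slEquivKer ε)
  apply gl_model h2 (Fin m) (Fin 0) A r _ hAc hAsq
  · intro t
    have hnt : Nontrivial (Fin m) := Fin.nontrivial_iff_two_le.mpr hm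
    obtain ⟨t', ht'⟩ := exists_ne t
    refine ⟨Pi.mulSingle t r * Pi.mulSingle t' r, 1,
      by simp [Pi.mulSingle_eq_of_ne ht'.symm], ?_⟩
    have e : ((Pi.mulSingle t r * Pi.mulSingle t' r, 1) : (Fin m → ↥A) × (Fin 0 → ℤˣ)) =
        (Pi.mulSingle t r, 1) * (Pi.mulSingle t' r, 1) := by
      refine Prod.ext ?_ ?_
      · simp
      · simp
    rw [e, map_mul, map_mul, det_βA_single, det_βA_single, hrdet]
    simp
  · rw [card_GL_reindex ε, Matrix.card_GL_field, v2_card_GL_even _ hq hq3 m]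
    have h1 : padicValNat 2 (Fintype.card F - 1) = 1 := v2_of_mod_four _ (by omega)
    rw [h1]
    simp only [Fintype.card_fin]
    ring

end apps

end Cfsg.Agent.Lib.Helper44
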