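import Mathlib
import Cfsg.Agent.Lib.Helper44.SymSyl

set_option autoImplicit false

namespace Cfsg.Agent.Lib.Helper44

/-- Any two distinct points are interchanged by some element of the group. -/
def Swapping {T : Type*} (S : Subgroup (Equiv.Perm T)) : Prop :=
  ∀ i j : T, i ≠ j → ∃ τ ∈ S, τ i = j ∧ τ j = i

/-- The symmetric group of degree `2^k` has a Sylow `2`-subgroup generated by involutions in
which any two points are interchanged by some element. -/
theorem exists_sylow_perm_swap (k : ℕ) : ∀ (T : Type) [Fintype T] [DecidableEq T],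
    Fintype.card T = 2 ^ k →
    ∃ S : Subgroup (Equiv.Perm T), Nat.card S = 2 ^ padicValNat 2 (2 ^ k).factorial ∧
      InvGen S ∧ Swapping S := by
  induction k with
  | zero =>
    intro T _ _ hT
    refine ⟨⊥, by simp, invGen_of_exp_two _ (fun x hx => by rw [Subgroup.mem_bot.mp hx, one_pow]),
      ?_⟩
    intro i j hij
    exfalso
    have : Subsingleton T := Fintype.card_le_one_iff_subsingleton.mp (by rw [hT]; simp)
    exact hij (Subsingleton.elim i j)
  | succ k ih =>
    intro T _ _ hT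
    have : Fact (Nat.Prime 2) := ⟨Nat.prime_two⟩
    obtain ⟨S', hS'c, hS'g, hS's⟩ := ih (Fin (2 ^ k)) (by simp)
    have hcard : Fintype.card T = Fintype.card (Fin (2 ^ k) × Fin 2) := by
      rw [hT]
      simp only [Fintype.card_prod, Fintype.card_fin]
      ring
    obtain ⟨e⟩ : Nonempty (T ≃ Fin (2 ^ k) × Fin 2) := ⟨Fintype.equivOfCardEq hcard⟩
    obtain ⟨Cs, hCs⟩ : ∃ Cs : Subgroup (Equiv.Perm (Fin (2 ^ k) × Fin 2)),
      Cs = (pairSwapHom (Fin (2 ^ k))).range := ⟨_, rfl⟩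
    obtain ⟨Δ, hΔ⟩ : ∃ Δ : Subgroup (Equiv.Perm (Fin (2 ^ k) × Fin 2)),
      Δ = S'.map (pairPermHom (Fin (2 ^ k))) := ⟨_, rfl⟩
    have hnorm : ∀ k' ∈ Δ, ∀ h ∈ Cs, k' * h * k'⁻¹ ∈ Cs := by
      rw [hCs, hΔ]
      rintro _ ⟨σ, -, rfl⟩ _ ⟨f, rfl⟩
      exact ⟨_, (pairPerm_conj _ σ f).symm⟩
    have hdisj : Cs ⊓ Δ = ⊥ := by
      rw [hCs, hΔ, eq_bot_iff]
      rintro x ⟨⟨f, rfl⟩, ⟨σ, -, hσ⟩⟩
      rw [Subgroup.mem_bot]
      have h1 : σ = 1 := by
        ext t
        have := congrArg (fun p : Equiv.Perm (Fin (2 ^ k) × Fin 2) => (p (t, 0)).1) hσ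
        simp only [pairPermHom_apply, pairSwapHom_apply] at this
        rw [this]; rfl
      rw [← hσ, h1, map_one]
    have hcC : Nat.card Cs = 2 ^ (2 ^ k) := by
      rw [hCs, card_range_of_inj _ (pairSwapHom_injective (Fin (2 ^ k))),
        Nat.card_eq_fintype_card, Fintype.card_pi]
      simp [Fintype.card_perm]
    have hcΔ : Nat.card Δ = 2 ^ padicValNat 2 (2 ^ k).factorial := by
      rw [hΔ, Subgroup.card_map_of_injective (pairPermHom_injective (Fin (2 ^ k))), hS'c]
    have hc1 : Nat.card ↥(Cs ⊔ Δ) = 2 ^ padicValNat 2 (2 ^ (k + 1)).factorial := by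
      rw [card_sup_of_normalizes Cs Δ hnorm hdisj, hcC, hcΔ, ← pow_add]
      congr 1
      have h1 : padicValNat 2 (2 * 2 ^ k).factorial = padicValNat 2 (2 ^ k).factorial + 2 ^ k :=
        padicValNat_factorial_mul (2 ^ k)
      have e2 : 2 ^ (k + 1) = 2 * 2 ^ k := by ring
      rw [e2, h1]
      ring
    have hg1 : InvGen (Cs ⊔ Δ) := by
      apply InvGen.sup
      · apply invGen_of_exp_two
        rw [hCs]
        rintro _ ⟨f, rfl⟩
        rw [← map_pow]
        have : f ^ 2 = 1 := by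
          funext t
          rw [pow_two]
          exact perm_fin_two_sq (f t)
        rw [this, map_one]
      · rw [hΔ]
        exact hS'g.map _
    have hs1 : Swapping (Cs ⊔ Δ) := by
      rintro ⟨t, a⟩ ⟨u, b⟩ hne
      by_cases htu : t = u
      · subst htu
        refine ⟨pairSwapHom (Fin (2 ^ k)) (fun _ => Equiv.swap a b),
          (le_sup_left : Cs ≤ Cs ⊔ Δ) (by rw [hCs]; exact ⟨_, rfl⟩), ?_, ?_⟩
        · rw [pairSwapHom_apply, Equiv.swap_apply_left]
        · rw [pairSwapHom_apply, Equiv.swap_apply_right]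
      · obtain ⟨σ, hσ, h1, h2⟩ := hS's t u htu
        refine ⟨pairSwapHom (Fin (2 ^ k)) (fun _ => Equiv.swap a b) *
            pairPermHom (Fin (2 ^ k)) σ,
          Subgroup.mul_mem _ ((le_sup_left : Cs ≤ Cs ⊔ Δ) (by rw [hCs]; exact ⟨_, rfl⟩))
            ((le_sup_right : Δ ≤ Cs ⊔ Δ) (by rw [hΔ]; exact ⟨σ, hσ, rfl⟩)), ?_, ?_⟩
        · rw [Equiv.Perm.mul_apply, pairPermHom_apply, pairSwapHom_apply, h1,
            Equiv.swap_apply_left]
        · rw [Equiv.Perm.mul_apply, pairPermHom_apply, pairSwapHom_apply, h2,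
            Equiv.swap_apply_right]
    refine ⟨(Cs ⊔ Δ).map e.symm.permCongrHom.toMonoidHom, ?_, hg1.map _, ?_⟩
    · rw [Subgroup.card_map_of_injective e.symm.permCongrHom.injective, hc1]
    · intro i j hij
      have hne : e i ≠ e j := fun h => hij (e.injective h)
      obtain ⟨τ, hτ, h1, h2⟩ := hs1 (e i) (e j) hne
      refine ⟨e.symm.permCongrHom τ, ⟨τ, hτ, rfl⟩, ?_, ?_⟩
      · show e.symm (τ (e.symm.symm i)) = j
        rw [Equiv.symm_symm, h1, Equiv.symm_apply_apply]
      · show e.symm (τ (e.symm.symm j)) = i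
        rw [Equiv.symm_symm, h2, Equiv.symm_apply_apply]

end Cfsg.Agent.Lib.Helper44
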