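import Mathlib
import Cfsg.Prelude.Def_Classical
import Cfsg.Agent.Lib.Helper44.SDModel
import Cfsg.Agent.Lib.Helper44.SymSwap

set_option autoImplicit false

namespace Cfsg.Agent.Lib.Helper44

open Matrix
open scoped commutatorElement

section pure

set_option linter.unusedSectionVars false

variable {T : Type*} [Fintype T] [DecidableEq T] {B : Type*} [CommGroup B]

/-- The element with `ζ` at `i` and `ζ⁻¹` at `j`. -/
def eMap (i j : T) (ζ : B) : T → B := Pi.mulSingle i ζ * Pi.mulSingle j ζ⁻¹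

theorem mulSingle_comp_symm (τ : Equiv.Perm T) (i : T) (x : B) :
    (Pi.mulSingle i x : T → B) ∘ τ.symm = Pi.mulSingle (τ i) x := by
  funext t
  by_cases h : t = τ i
  · subst h
    simp
  · have h' : τ.symm t ≠ i := fun h' => h (by rw [← h']; simp)
    simp [Pi.mulSingle_eq_of_ne h, Pi.mulSingle_eq_of_ne h']

theorem eMap_comp_symm (τ : Equiv.Perm T) (i j : T) (ζ : B) (h1 : τ i = j) (h2 : τ j = i) :
    (eMap i j ζ⁻¹ : T → B) ∘ τ.symm = eMap i j ζ := by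
  unfold eMap
  show ((Pi.mulSingle i ζ⁻¹ : T → B) ∘ τ.symm) * ((Pi.mulSingle j ζ⁻¹⁻¹ : T → B) ∘ τ.symm) = _
  rw [mulSingle_comp_symm, mulSingle_comp_symm, h1, h2, inv_inv, mul_comm]

theorem eMap_inv (i j : T) (ζ : B) : (eMap i j ζ⁻¹ : T → B) = (eMap i j ζ)⁻¹ := by
  unfold eMap
  rw [mul_inv, ← Pi.mulSingle_inv, ← Pi.mulSingle_inv]

theorem eMap_mul (i j : T) (ζ ζ' : B) :
    (eMap i j (ζ * ζ') : T → B) = eMap i j ζ * eMap i j ζ' := by
  unfold eMap
  rw [mul_inv, Pi.mulSingle_mul, Pi.mulSingle_mul, mul_mul_mul_comm]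

theorem eMap_self (i : T) (ζ : B) : (eMap i i ζ : T → B) = 1 := by
  unfold eMap
  rw [← Pi.mulSingle_mul, mul_inv_cancel, Pi.mulSingle_one]

theorem prod_mulSingle (i : T) (x : B) : ∏ t, (Pi.mulSingle i x : T → B) t = x := by
  rw [Finset.prod_eq_single i]
  · simp
  · intro t _ ht
    exact Pi.mulSingle_eq_of_ne ht _
  · intro h
    exact absurd (Finset.mem_univ i) h

theorem prod_eMap_eq_one (i j : T) (ζ : B) : ∏ t, (eMap i j ζ : T → B) t = 1 := by
  unfold eMap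
  simp only [Pi.mul_apply]
  rw [Finset.prod_mul_distrib, prod_mulSingle, prod_mulSingle, mul_inv_cancel]

theorem prod_eMap (z : T → B) (hz : ∏ t, z t = 1) (i₀ : T) : z = ∏ i, eMap i i₀ (z i) := by
  funext t
  rw [Finset.prod_apply]
  simp only [eMap, Pi.mul_apply]
  rw [Finset.prod_mul_distrib, Finset.prod_eq_single t]
  · rw [Pi.mulSingle_eq_same]
    by_cases h : t = i₀
    · subst h
      simp only [Pi.mulSingle_eq_same]
      rw [Finset.prod_inv_distrib, hz, inv_one, mul_one]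
    · have : ∏ i, (Pi.mulSingle i₀ (z i)⁻¹ : T → B) t = 1 :=
        Finset.prod_eq_one (fun i _ => Pi.mulSingle_eq_of_ne h _)
      rw [this, mul_one]
  · intro i _ hi
    exact Pi.mulSingle_eq_of_ne (Ne.symm hi) _
  · intro h
    exact absurd (Finset.mem_univ t) h

end pure

section mono

variable {F : Type*} [Field F] {T : Type} [Fintype T] [DecidableEq T]

theorem pmat_diagonal' (σ : Equiv.Perm T) (a : T → F) :
    (pmat σ : Matrix T T F) * diagonal a = diagonal (a ∘ σ.symm) * pmat σ := by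
  ext i j
  rw [pmat_mul_apply, mul_pmat_apply]
  simp only [Matrix.diagonal_apply, Function.comp_apply]
  by_cases h : i = σ j
  · have : σ.symm i = j := by rw [h]; simp
    simp [h]
  · have : σ.symm i ≠ j := fun h' => h (by rw [← h']; simp)
    simp [h, this]

theorem det_pmat (σ : Equiv.Perm T) :
    (pmat σ : Matrix T T F).det = (((Equiv.Perm.sign σ : ℤˣ) : ℤ) : F) := by
  have h : (pmat σ : Matrix T T F) = (σ.permMatrix F)ᵀ := by
    ext i j
    simp only [pmat, Equiv.Perm.permMatrix, Matrix.transpose_apply, PEquiv.toMatrix_apply,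
      Equiv.toPEquiv_apply, Option.mem_def, Option.some.injEq]
    by_cases hij : i = σ j
    · simp [hij]
    · have : ¬ σ j = i := fun h' => hij h'.symm
      simp [hij, this]
  rw [h, Matrix.det_transpose, Matrix.det_permutation]

variable (Z : Subgroup Fˣ)

/-- Diagonal matrices with entries in `Z`. -/
def δG : (T → ↥Z) →* GL T F :=
  ((Matrix.diagonalRingHom T F).toMonoidHom.comp
    (((Units.coeHom F).comp Z.subtype).compLeft T)).toHomUnits

theorem δG_val (f : T → ↥Z) :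
    ((δG Z f : GL T F) : Matrix T T F) = diagonal (fun t => ((f t : Fˣ) : F)) := rfl

theorem δG_injective : Function.Injective (δG (T := T) Z) := by
  intro f g h
  have hm := congrArg (fun x : GL T F => (x : Matrix T T F)) h
  simp only [δG_val] at hm
  have h1 := Matrix.diagonal_injective hm
  funext t
  exact Subtype.ext (Units.ext (congrFun h1 t))

theorem mono_conj (σ : Equiv.Perm T) (f : T → ↥Z) :
    pmatGL F σ * δG Z f * (pmatGL F σ)⁻¹ = δG Z (f ∘ σ.symm) := by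
  rw [mul_inv_eq_iff_eq_mul]
  apply Units.ext
  show (pmat σ : Matrix T T F) * diagonal (fun t => ((f t : Fˣ) : F)) =
    diagonal (fun t => ((f (σ.symm t) : Fˣ) : F)) * pmat σ
  exact pmat_diagonal' σ _

theorem mono_disjoint (S : Subgroup (Equiv.Perm T)) :
    (δG (T := T) Z).range ⊓ S.map (pmatGL F) = ⊥ := by
  rw [eq_bot_iff]
  rintro x ⟨⟨a, rfl⟩, ⟨σ, -, hσ⟩⟩
  rw [Subgroup.mem_bot]
  have hm : (pmat σ : Matrix T T F) = diagonal (fun t => ((a t : Fˣ) : F)) :=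
    congrArg (fun g : GL T F => (g : Matrix T T F)) hσ
  have h1 : σ = 1 := by
    ext t
    by_contra hne
    have := congrFun (congrFun hm (σ t)) t
    simp only [pmat, if_true] at this
    have hne' : ¬ σ t = t := hne
    rw [Matrix.diagonal_apply_ne _ hne'] at this
    exact one_ne_zero this
  rw [← hσ, h1, map_one]

theorem det_δG (f : T → ↥Z) :
    Matrix.GeneralLinearGroup.det (δG Z f) = Z.subtype (∏ t, f t) := by
  apply Units.ext
  show (diagonal (fun t => ((f t : Fˣ) : F))).det = _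
  rw [Matrix.det_diagonal, map_prod, Units.coe_prod]
  rfl

theorem det_pmatGL_of_sign_one (σ : Equiv.Perm T) (h : Equiv.Perm.sign σ = 1) :
    Matrix.GeneralLinearGroup.det (pmatGL F σ) = 1 := by
  apply Units.ext
  show (pmat σ : Matrix T T F).det = _
  rw [det_pmat, h]
  simp

theorem det_pmatGL_of_sign_neg (σ : Equiv.Perm T) (h : Equiv.Perm.sign σ = -1) :
    Matrix.GeneralLinearGroup.det (pmatGL F σ) = -1 := by
  apply Units.ext
  show (pmat σ : Matrix T T F).det = _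
  rw [det_pmat, h]
  simp

/-- The monomial model: `q ≡ 1 (mod 4)`, degree a power of two. -/
theorem mono_model [Fintype F] (hF : Odd (Fintype.card F)) (hq4 : Fintype.card F % 4 = 1)
    (T : Type) [Fintype T] [DecidableEq T] (k : ℕ) (hT : Fintype.card T = 2 ^ k)
    (hcard : padicValNat 2 (Nat.card (GL T F)) =
      padicValNat 2 (Fintype.card F - 1) * 2 ^ k + padicValNat 2 (2 ^ k).factorial) :
    ∀ P : Sylow 2 ↥(Matrix.GeneralLinearGroup.det (n := T) (R := F)).ker,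
      SqInComm ↥(P : Subgroup ↥(Matrix.GeneralLinearGroup.det (n := T) (R := F)).ker) := by
  classical
  have : Fact (Nat.Prime 2) := ⟨Nat.prime_two⟩
  have h2 := two_ne_zero_of_odd_card'' hF
  obtain ⟨hq, hq3⟩ := card_facts hF
  obtain ⟨Z, hZc, hZ4⟩ := exists_sylow_of_comm (A := Fˣ) mul_comm
  have hZc' : Nat.card ↥Z = 2 ^ padicValNat 2 (Fintype.card F - 1) := by
    rw [hZc, Nat.card_eq_fintype_card, Fintype.card_units]
  have hneg : (-1 : Fˣ) ∈ Z := hZ4 _ (by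
    have : (-1 : Fˣ) ^ 4 = ((-1 : Fˣ) ^ 2) ^ 2 := by rw [← pow_mul]
    rw [this, neg_one_sq, one_pow])
  obtain ⟨w, hw⟩ : IsSquare (-1 : F) := FiniteField.isSquare_neg_one_iff.mpr (by omega)
  have hw0 : w ≠ 0 := by
    rintro rfl
    simp at hw
  obtain ⟨ζ, hζ⟩ : ∃ ζ : Fˣ, ζ * ζ = -1 :=
    ⟨Units.mk0 w hw0, Units.ext (by simp [← hw])⟩
  have hζZ : ζ ∈ Z := hZ4 ζ (by
    have : ζ ^ 4 = (ζ * ζ) ^ 2 := by rw [← pow_two, ← pow_mul]
    rw [this, hζ, neg_one_sq])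
  obtain ⟨S, hSc, hSg, hSs⟩ := exists_sylow_perm_swap k T hT
  obtain ⟨δ, hδdef⟩ : ∃ δ : (T → ↥Z) →* GL T F, δ = δG Z := ⟨_, rfl⟩
  obtain ⟨ρ, hρdef⟩ : ∃ ρ : Equiv.Perm T →* GL T F, ρ = pmatGL F := ⟨_, rfl⟩
  have hconj : ∀ (σ : Equiv.Perm T) (f : T → ↥Z), ρ σ * δ f * (ρ σ)⁻¹ = δ (f ∘ σ.symm) := by
    rw [hδdef, hρdef]
    exact mono_conj Z
  have hnorm : ∀ k' ∈ S.map ρ, ∀ h ∈ δ.range, k' * h * k'⁻¹ ∈ δ.range := by
    rintro _ ⟨σ, -, rfl⟩ _ ⟨f, rfl⟩
    exact ⟨_, (hconj σ f).symm⟩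
  have hdisj : δ.range ⊓ S.map ρ = ⊥ := by
    rw [hδdef, hρdef]
    exact mono_disjoint Z S
  have hδinj : Function.Injective δ := by
    rw [hδdef]
    exact δG_injective Z
  have hρinj : Function.Injective ρ := by
    rw [hρdef]
    exact pmatGL_injective
  have hcW : Nat.card ↥(δ.range ⊔ S.map ρ) = 2 ^ padicValNat 2 (Nat.card (GL T F)) := by
    rw [card_sup_of_normalizes _ _ hnorm hdisj, card_range_of_inj _ hδinj,
      Subgroup.card_map_of_injective hρinj, hSc, Nat.card_fun, hZc', hcard]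
    simp only [Nat.card_eq_fintype_card]
    rw [hT, ← pow_mul, ← pow_add]
  have hWp : IsPGroup 2 ↥(δ.range ⊔ S.map ρ) := IsPGroup.of_card hcW
  have hidx : Odd (δ.range ⊔ S.map ρ).index := odd_index_of_card _ hcW
  have hdetδ : ∀ f, Matrix.GeneralLinearGroup.det (δ f) = Z.subtype (∏ t, f t) := by
    rw [hδdef]
    exact det_δG Z
  have hdetρ1 : ∀ σ, Equiv.Perm.sign σ = 1 → Matrix.GeneralLinearGroup.det (ρ σ) = 1 := by
    rw [hρdef]
    exact det_pmatGL_of_sign_one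
  have hdetρ2 : ∀ σ, Equiv.Perm.sign σ = -1 → Matrix.GeneralLinearGroup.det (ρ σ) = -1 := by
    rw [hρdef]
    exact det_pmatGL_of_sign_neg
  apply sylow_sqInComm _ _ hWp hidx
  obtain ⟨P, hPdef⟩ : ∃ P : Subgroup (GL T F), P = (δ.range ⊔ S.map ρ) ⊓
    (Matrix.GeneralLinearGroup.det (n := T) (R := F)).ker := ⟨_, rfl⟩
  rw [← hPdef]
  have hPmem : ∀ g, g ∈ P ↔ g ∈ δ.range ⊔ S.map ρ ∧ Matrix.GeneralLinearGroup.det g = 1 := by
    rw [hPdef]
    exact fun g => Iff.rfl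
  obtain ⟨ζ', hζ'⟩ : ∃ ζ' : ↥Z, (ζ' : Fˣ) = ζ := ⟨⟨ζ, hζZ⟩, rfl⟩
  obtain ⟨n', hn'⟩ : ∃ n' : ↥Z, (n' : Fˣ) = -1 := ⟨⟨-1, hneg⟩, rfl⟩
  have hζn : ζ' * ζ' = n' := Subtype.ext (by
    show (ζ' : Fˣ) * (ζ' : Fˣ) = (n' : Fˣ)
    rw [hζ', hn', hζ])
  have hnn : n' * n' = 1 := Subtype.ext (by
    show (n' : Fˣ) * (n' : Fˣ) = 1
    rw [hn']
    simp)
  have hn'sub : Z.subtype n' = -1 := hn'
  -- squares of the elementary diagonal elements are commutators
  have hE : ∀ i j : T, i ≠ j → ∀ x : ↥Z, δ (eMap i j x) * δ (eMap i j x) ∈ ⁅P, P⁆ := by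
    intro i j hij x
    obtain ⟨τ, hτS, h1, h2⟩ := hSs i j hij
    have hp : ∃ w : T → ↥Z, δ w * ρ τ ∈ P := by
      rcases Int.units_eq_one_or (Equiv.Perm.sign τ) with hs | hs
      · refine ⟨1, (hPmem _).mpr ⟨?_, ?_⟩⟩
        · rw [map_one, one_mul]
          exact (le_sup_right : S.map ρ ≤ _) ⟨τ, hτS, rfl⟩
        · rw [map_one, one_mul]
          exact hdetρ1 τ hs
      · refine ⟨Pi.mulSingle i n', (hPmem _).mpr ⟨?_, ?_⟩⟩
        · exact Subgroup.mul_mem _ ((le_sup_left : δ.range ≤ _) ⟨_, rfl⟩)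
            ((le_sup_right : S.map ρ ≤ _) ⟨τ, hτS, rfl⟩)
        · rw [map_mul, hdetδ, hdetρ2 τ hs, prod_mulSingle, hn'sub]
          simp
    obtain ⟨w, hwP⟩ := hp
    have hdP : δ (eMap i j x⁻¹) ∈ P := by
      refine (hPmem _).mpr ⟨(le_sup_left : δ.range ≤ _) ⟨_, rfl⟩, ?_⟩
      rw [hdetδ, prod_eMap_eq_one, map_one]
    have e : δ (eMap i j x) * δ (eMap i j x) = ⁅δ w * ρ τ, δ (eMap i j x⁻¹)⁆ := by
      rw [commutatorElement_def]
      have e1 : δ w * ρ τ * δ (eMap i j x⁻¹) * (δ w * ρ τ)⁻¹ = δ (eMap i j x) := by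
        have e0 : δ w * ρ τ * δ (eMap i j x⁻¹) * (δ w * ρ τ)⁻¹ =
            δ w * (ρ τ * δ (eMap i j x⁻¹) * (ρ τ)⁻¹) * (δ w)⁻¹ := by group
        rw [e0, hconj, eMap_comp_symm τ i j x h1 h2, ← map_mul, ← map_inv, ← map_mul]
        congr 1
        rw [mul_comm w, mul_inv_cancel_right]
      rw [e1, ← map_inv, eMap_inv, inv_inv]
    rw [e]
    exact Subgroup.commutator_mem_commutator hwP hdP
  obtain ⟨X, hXdef⟩ : ∃ X : Set (GL T F), X =
    ({g | ∃ i j : T, i ≠ j ∧ ∃ x : ↥Z, g = δ (eMap i j x)} ∪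
     {g | ∃ τ ∈ S, τ * τ = 1 ∧ Equiv.Perm.sign τ = 1 ∧ g = ρ τ}) ∪
     {g | ∃ τ ∈ S, ∃ i : T, τ * τ = 1 ∧ τ i ≠ i ∧ Equiv.Perm.sign τ = -1 ∧
        g = δ (Pi.mulSingle i ζ' * Pi.mulSingle (τ i) ζ') * ρ τ} := ⟨_, rfl⟩
  have hXP : X ⊆ P := by
    rw [hXdef]
    rintro g ((⟨i, j, hij, x, rfl⟩ | ⟨τ, hτS, hτ2, hs, rfl⟩) | ⟨τ, hτS, i, hτ2, hi, hs, rfl⟩)
    · refine (hPmem _).mpr ⟨(le_sup_left : δ.range ≤ _) ⟨_, rfl⟩, ?_⟩
      rw [hdetδ, prod_eMap_eq_one, map_one]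
    · exact (hPmem _).mpr ⟨(le_sup_right : S.map ρ ≤ _) ⟨τ, hτS, rfl⟩, hdetρ1 τ hs⟩
    · refine (hPmem _).mpr ⟨Subgroup.mul_mem _ ((le_sup_left : δ.range ≤ _) ⟨_, rfl⟩)
        ((le_sup_right : S.map ρ ≤ _) ⟨τ, hτS, rfl⟩), ?_⟩
      rw [map_mul, hdetδ, hdetρ2 τ hs]
      simp only [Pi.mul_apply]
      rw [Finset.prod_mul_distrib, prod_mulSingle, prod_mulSingle, hζn, hn'sub]
      simp
  have step1 : ∀ z : T → ↥Z, ∏ t, z t = 1 → δ z ∈ Subgroup.closure X := by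
    intro z hz
    obtain ⟨i₀⟩ : Nonempty T := Fintype.card_pos_iff.mp (by rw [hT]; positivity)
    have hmem : ∏ i, eMap i i₀ (z i) ∈ (Subgroup.closure X).comap δ := by
      apply Subgroup.prod_mem
      intro i _
      rw [Subgroup.mem_comap]
      by_cases hi : i = i₀
      · rw [hi, eMap_self, map_one]
        exact Subgroup.one_mem _
      · apply Subgroup.subset_closure
        rw [hXdef]
        exact Or.inl (Or.inl ⟨i, i₀, hi, z i, rfl⟩)
    rw [prod_eMap z hz i₀]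
    exact hmem
  have step2 : ∀ σ ∈ Subgroup.closure {τ : Equiv.Perm T | τ ∈ S ∧ τ ^ 2 = 1},
      ∃ z : T → ↥Z, δ z * ρ σ ∈ Subgroup.closure X := by
    intro σ hσ
    induction hσ using Subgroup.closure_induction with
    | mem τ hτ =>
      obtain ⟨hτS, hτ2⟩ := hτ
      have hτ2' : τ * τ = 1 := by rwa [pow_two] at hτ2
      rcases Int.units_eq_one_or (Equiv.Perm.sign τ) with hs | hs
      · refine ⟨1, ?_⟩
        rw [map_one, one_mul]
        apply Subgroup.subset_closure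
        rw [hXdef]
        exact Or.inl (Or.inr ⟨τ, hτS, hτ2', hs, rfl⟩)
      · have hne : τ ≠ 1 := by
          rintro rfl
          simp at hs
        obtain ⟨i, hi⟩ : ∃ i, τ i ≠ i := by
          by_contra hcon
          push Not at hcon
          exact hne (Equiv.ext hcon)
        refine ⟨Pi.mulSingle i ζ' * Pi.mulSingle (τ i) ζ', Subgroup.subset_closure ?_⟩
        rw [hXdef]
        exact Or.inr ⟨τ, hτS, i, hτ2', hi, hs, rfl⟩
    | one =>
      refine ⟨1, ?_⟩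
      rw [map_one, map_one, one_mul]
      exact Subgroup.one_mem _
    | mul σ₁ σ₂ _ _ ih₁ ih₂ =>
      obtain ⟨z₁, h₁⟩ := ih₁
      obtain ⟨z₂, h₂⟩ := ih₂
      refine ⟨z₁ * (z₂ ∘ σ₁.symm), ?_⟩
      have e : δ (z₁ * (z₂ ∘ σ₁.symm)) * ρ (σ₁ * σ₂) = (δ z₁ * ρ σ₁) * (δ z₂ * ρ σ₂) := by
        rw [map_mul, map_mul, ← hconj]
        group
      rw [e]
      exact Subgroup.mul_mem _ h₁ h₂
    | inv σ₁ _ ih =>
      obtain ⟨z₁, h₁⟩ := ih
      refine ⟨z₁⁻¹ ∘ σ₁, ?_⟩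
      have e : δ (z₁⁻¹ ∘ σ₁) * ρ σ₁⁻¹ = (δ z₁ * ρ σ₁)⁻¹ := by
        have h3 := hconj σ₁⁻¹ z₁⁻¹
        have h4 : (z₁⁻¹ ∘ (σ₁⁻¹).symm) = z₁⁻¹ ∘ σ₁ := rfl
        rw [h4] at h3
        rw [← h3, map_inv, map_inv]
        group
      rw [e]
      exact Subgroup.inv_mem _ h₁
  refine sqInComm_of_gen P X ?_ hXP ?_
  · intro g hg
    obtain ⟨hgW, hgN⟩ := (hPmem g).mp hg
    obtain ⟨h, hh, k', hk, rfl⟩ := mem_sup_of_normalizes _ _ hnorm hgW
    obtain ⟨z, rfl⟩ := hh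
    obtain ⟨σ, hσS, rfl⟩ := hk
    obtain ⟨z', hz'⟩ := step2 σ (hSg hσS)
    have hz'P := (hPmem _).mp ((Subgroup.closure_le P).mpr hXP hz')
    have e : δ z * ρ σ = δ (z * z'⁻¹) * (δ z' * ρ σ) := by
      rw [map_mul, map_inv]
      group
    rw [e]
    refine Subgroup.mul_mem _ (step1 _ ?_) hz'
    have h5 : Matrix.GeneralLinearGroup.det (δ z) = Matrix.GeneralLinearGroup.det (δ z') := by
      have a1 := hgN
      have a2 := hz'P.2
      rw [map_mul] at a1 a2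
      exact mul_right_cancel (a1.trans a2.symm)
    rw [hdetδ, hdetδ] at h5
    have h6 : ∏ t, z t = ∏ t, z' t := Subtype.ext h5
    simp only [Pi.mul_apply, Pi.inv_apply]
    rw [Finset.prod_mul_distrib, Finset.prod_inv_distrib, h6, mul_inv_cancel]
  · rw [hXdef]
    rintro g ((⟨i, j, hij, x, rfl⟩ | ⟨τ, hτS, hτ2, hs, rfl⟩) | ⟨τ, hτS, i, hτ2, hi, hs, rfl⟩)
    · exact hE i j hij x
    · rw [← map_mul, hτ2, map_one]
      exact Subgroup.one_mem _
    · obtain ⟨w, hw⟩ : ∃ w : T → ↥Z, w = Pi.mulSingle i ζ' * Pi.mulSingle (τ i) ζ' := ⟨_, rfl⟩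
      rw [← hw]
      have hττ : τ (τ i) = i := by
        have := congrArg (fun p : Equiv.Perm T => p i) hτ2
        simpa using this
      have hwτ : w ∘ τ.symm = w := by
        rw [hw]
        show ((Pi.mulSingle i ζ' : T → ↥Z) ∘ τ.symm) *
          ((Pi.mulSingle (τ i) ζ' : T → ↥Z) ∘ τ.symm) = _
        rw [mulSingle_comp_symm, mulSingle_comp_symm, hττ, mul_comm]
      have e1 : δ w * ρ τ * (δ w * ρ τ) = δ (eMap i (τ i) ζ') * δ (eMap i (τ i) ζ') := by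
        have e0 : δ w * ρ τ * (δ w * ρ τ) = δ w * (ρ τ * δ w * (ρ τ)⁻¹) * (ρ τ * ρ τ) := by
          group
        rw [e0, hconj, hwτ, ← map_mul ρ, hτ2, map_one, mul_one, ← map_mul, ← map_mul]
        congr 1
        rw [← eMap_mul, hζn]
        unfold eMap
        have hninv : n'⁻¹ = n' := inv_eq_of_mul_eq_one_left hnn
        rw [hninv, hw, mul_mul_mul_comm, ← Pi.mulSingle_mul, ← Pi.mulSingle_mul, hζn]
      rw [e1]
      exact hE i (τ i) (Ne.symm hi) ζ'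

end mono

end Cfsg.Agent.Lib.Helper44
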