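import Mathlib
import Cfsg.Prelude.Def_Classical
import Cfsg.Agent.Lib.Helper44.SL2Quat
import Cfsg.Agent.S0245

set_option autoImplicit false

namespace Cfsg.Agent.Lib.Helper44

open Matrix

/-- A subgroup of `2`-power order equal to the `2`-part of the group order is a Sylow
`2`-subgroup; so if it has `SqInComm`, all Sylow `2`-subgroups have. -/
theorem sylow_sqInComm_of_card {G : Type*} [Group G] [Finite G] (W : Subgroup G)
    (hcW : Nat.card ↥W = 2 ^ padicValNat 2 (Nat.card G)) (h : SqInComm ↥W) :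
    ∀ P : Sylow 2 G, SqInComm ↥(P : Subgroup G) := by
  have : Fact (Nat.Prime 2) := ⟨Nat.prime_two⟩
  have hWp : IsPGroup 2 ↥W := IsPGroup.of_card hcW
  have hidx : ¬ 2 ∣ W.index := by
    have h1 := Subgroup.card_mul_index W
    rw [hcW] at h1
    rintro ⟨k, hk⟩
    have h3 : 2 ^ (padicValNat 2 (Nat.card G) + 1) ∣ Nat.card G := by
      refine Dvd.intro k ?_
      calc 2 ^ (padicValNat 2 (Nat.card G) + 1) * k
          = 2 ^ padicValNat 2 (Nat.card G) * (2 * k) := by ring
        _ = 2 ^ padicValNat 2 (Nat.card G) * W.index := by rw [hk]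
        _ = Nat.card G := h1
    exact pow_succ_padicValNat_not_dvd (Nat.card_pos.ne') h3
  exact sylow_sqInComm_of_one (hWp.toSylow hidx) h

section sp

variable {F : Type*} [Field F] {n : ℕ}

/-- Block matrix with four diagonal blocks. -/
def D4 (a b c d : Fin n → F) : Matrix (Fin n ⊕ Fin n) (Fin n ⊕ Fin n) F :=
  Matrix.fromBlocks (diagonal a) (diagonal b) (diagonal c) (diagonal d)

theorem D4_mul (a b c d a' b' c' d' : Fin n → F) :
    D4 a b c d * D4 a' b' c' d' =
      D4 (a * a' + b * c') (a * b' + b * d') (c * a' + d * c') (c * b' + d * d') := by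
  unfold D4
  rw [Matrix.fromBlocks_multiply]
  simp only [Matrix.diagonal_mul_diagonal, Matrix.diagonal_add]
  rfl

theorem D4_ext {a b c d a' b' c' d' : Fin n → F} (ha : a = a') (hb : b = b') (hc : c = c')
    (hd : d = d') : D4 a b c d = D4 a' b' c' d' := by
  subst ha hb hc hd
  rfl

theorem D4_one : D4 (1 : Fin n → F) 0 0 1 = 1 := by
  unfold D4
  rw [Matrix.diagonal_one', Matrix.diagonal_zero']
  exact Matrix.fromBlocks_one

theorem D4_J : D4 (0 : Fin n → F) (-1) 1 0 = Matrix.J (Fin n) F := by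
  unfold D4 Matrix.J
  rw [Matrix.diagonal_one', Matrix.diagonal_zero']
  congr 1
  ext i j
  by_cases h : i = j <;> simp [h]

theorem D4_transpose (a b c d : Fin n → F) : (D4 a b c d)ᵀ = D4 a c b d := by
  unfold D4
  rw [Matrix.fromBlocks_transpose]
  simp only [Matrix.diagonal_transpose]

theorem D4_mem (a b c d : Fin n → F) (h : ∀ i, a i * d i - b i * c i = 1) :
    D4 a b c d ∈ Matrix.symplecticGroup (Fin n) F := by
  rw [SymplecticGroup.mem_iff, ← D4_J, D4_transpose, D4_mul, D4_mul]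
  refine D4_ext ?_ ?_ ?_ ?_ <;> funext i <;>
    simp only [Pi.add_apply, Pi.mul_apply, Pi.zero_apply, Pi.one_apply, Pi.neg_apply]
  · ring
  · linear_combination -(h i)
  · linear_combination h i
  · ring

theorem D4_apply₁₁ (a b c d : Fin n → F) (i : Fin n) : D4 a b c d (Sum.inl i) (Sum.inl i) = a i := by
  simp [D4]

theorem D4_apply₁₂ (a b c d : Fin n → F) (i : Fin n) : D4 a b c d (Sum.inl i) (Sum.inr i) = b i := by
  simp [D4]

theorem D4_apply₂₁ (a b c d : Fin n → F) (i : Fin n) : D4 a b c d (Sum.inr i) (Sum.inl i) = c i := by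
  simp [D4]

theorem D4_apply₂₂ (a b c d : Fin n → F) (i : Fin n) : D4 a b c d (Sum.inr i) (Sum.inr i) = d i := by
  simp [D4]

/-- The base group `SL₂(F)ⁿ` inside `Sp_{2n}(F)`. -/
def spBase (n : ℕ) (F : Type*) [Field F] :
    (Fin n → Matrix.SpecialLinearGroup (Fin 2) F) →* ↥(Matrix.symplecticGroup (Fin n) F) where
  toFun f := ⟨D4 (fun i => (f i).1 0 0) (fun i => (f i).1 0 1) (fun i => (f i).1 1 0)
    (fun i => (f i).1 1 1), D4_mem _ _ _ _ (fun i => by
      have := (f i).2
      rwa [Matrix.det_fin_two] at this)⟩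
  map_one' := by
    apply Subtype.ext
    show D4 _ _ _ _ = 1
    rw [← D4_one]
    refine D4_ext ?_ ?_ ?_ ?_ <;> funext i <;> simp
  map_mul' f g := by
    apply Subtype.ext
    show D4 _ _ _ _ = D4 _ _ _ _ * D4 _ _ _ _
    rw [D4_mul]
    refine D4_ext ?_ ?_ ?_ ?_ <;> funext i <;> simp [Matrix.mul_apply, Fin.sum_univ_two]

theorem spBase_val (f : Fin n → Matrix.SpecialLinearGroup (Fin 2) F) :
    ((spBase n F f : ↥(Matrix.symplecticGroup (Fin n) F)) :
      Matrix (Fin n ⊕ Fin n) (Fin n ⊕ Fin n) F) =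
    D4 (fun i => (f i).1 0 0) (fun i => (f i).1 0 1) (fun i => (f i).1 1 0)
      (fun i => (f i).1 1 1) := rfl

theorem spBase_injective : Function.Injective (spBase n F) := by
  intro f g h
  have hm := congrArg (fun x : ↥(Matrix.symplecticGroup (Fin n) F) =>
    (x : Matrix (Fin n ⊕ Fin n) (Fin n ⊕ Fin n) F)) h
  simp only [spBase_val] at hm
  funext i
  apply Subtype.ext
  ext a b
  fin_cases a <;> fin_cases b
  · have := congrFun (congrFun hm (Sum.inl i)) (Sum.inl i)
    rwa [D4_apply₁₁, D4_apply₁₁] at this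
  · have := congrFun (congrFun hm (Sum.inl i)) (Sum.inr i)
    rwa [D4_apply₁₂, D4_apply₁₂] at this
  · have := congrFun (congrFun hm (Sum.inr i)) (Sum.inl i)
    rwa [D4_apply₂₁, D4_apply₂₁] at this
  · have := congrFun (congrFun hm (Sum.inr i)) (Sum.inr i)
    rwa [D4_apply₂₂, D4_apply₂₂] at this

theorem pmat_one' : (pmat (1 : Equiv.Perm (Fin n)) : Matrix (Fin n) (Fin n) F) = 1 :=
  (pmatHom F).map_one

theorem pmat_mul' (σ τ : Equiv.Perm (Fin n)) :
    (pmat (σ * τ) : Matrix (Fin n) (Fin n) F) = pmat σ * pmat τ :=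
  (pmatHom F).map_mul σ τ

theorem pmat_mul_transpose (σ : Equiv.Perm (Fin n)) :
    (pmat σ : Matrix (Fin n) (Fin n) F) * (pmat σ)ᵀ = 1 := by
  ext i j
  rw [pmat_mul_apply]
  simp only [Matrix.transpose_apply, pmat, Equiv.apply_symm_apply, Matrix.one_apply]
  by_cases h : i = j
  · simp [h]
  · have : ¬ j = i := fun h' => h h'.symm
    simp [h, this]

theorem pmat_diagonal (σ : Equiv.Perm (Fin n)) (a : Fin n → F) :
    (pmat σ : Matrix (Fin n) (Fin n) F) * diagonal a = diagonal (a ∘ σ.symm) * pmat σ := by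
  ext i j
  rw [pmat_mul_apply, mul_pmat_apply]
  simp only [Matrix.diagonal_apply, Function.comp_apply]
  by_cases h : i = σ j
  · have : σ.symm i = j := by rw [h]; simp
    simp [h]
  · have : σ.symm i ≠ j := fun h' => h (by rw [← h']; simp)
    simp [h, this]

/-- Permutation of the hyperbolic planes. -/
def spPerm (n : ℕ) (F : Type*) [Field F] :
    Equiv.Perm (Fin n) →* ↥(Matrix.symplecticGroup (Fin n) F) where
  toFun σ := ⟨Matrix.fromBlocks (pmat σ) 0 0 (pmat σ), by
    rw [SymplecticGroup.mem_iff, Matrix.J, Matrix.fromBlocks_transpose,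
      Matrix.fromBlocks_multiply, Matrix.fromBlocks_multiply]
    simp [pmat_mul_transpose]⟩
  map_one' := by
    apply Subtype.ext
    show Matrix.fromBlocks (pmat 1) 0 0 (pmat 1) = 1
    rw [pmat_one']
    exact Matrix.fromBlocks_one
  map_mul' σ τ := by
    apply Subtype.ext
    show Matrix.fromBlocks (pmat (σ * τ)) 0 0 (pmat (σ * τ)) =
      Matrix.fromBlocks (pmat σ) 0 0 (pmat σ) * Matrix.fromBlocks (pmat τ) 0 0 (pmat τ)
    rw [Matrix.fromBlocks_multiply, pmat_mul']
    simp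

theorem spPerm_val (σ : Equiv.Perm (Fin n)) :
    ((spPerm n F σ : ↥(Matrix.symplecticGroup (Fin n) F)) :
      Matrix (Fin n ⊕ Fin n) (Fin n ⊕ Fin n) F) = Matrix.fromBlocks (pmat σ) 0 0 (pmat σ) := rfl

theorem spPerm_injective : Function.Injective (spPerm n F) := by
  intro σ τ h
  have hm := congrArg (fun x : ↥(Matrix.symplecticGroup (Fin n) F) =>
    (x : Matrix (Fin n ⊕ Fin n) (Fin n ⊕ Fin n) F)) h
  simp only [spPerm_val] at hm
  ext j
  have := congrFun (congrFun hm (Sum.inl (σ j))) (Sum.inl j)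
  simp only [Matrix.fromBlocks_apply₁₁, pmat, if_true] at this
  by_contra hne
  have hne' : ¬ σ j = τ j := fun h' => hne (by rw [h'])
  rw [if_neg hne'] at this
  exact one_ne_zero this

theorem sp_conj (σ : Equiv.Perm (Fin n)) (f : Fin n → Matrix.SpecialLinearGroup (Fin 2) F) :
    spPerm n F σ * spBase n F f * (spPerm n F σ)⁻¹ = spBase n F (f ∘ σ.symm) := by
  rw [mul_inv_eq_iff_eq_mul]
  apply Subtype.ext
  show Matrix.fromBlocks (pmat σ) 0 0 (pmat σ) * D4 _ _ _ _ =
    D4 _ _ _ _ * Matrix.fromBlocks (pmat σ) 0 0 (pmat σ)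
  unfold D4
  rw [Matrix.fromBlocks_multiply, Matrix.fromBlocks_multiply]
  simp only [zero_mul, mul_zero, add_zero, zero_add, pmat_diagonal]
  rfl

theorem sp_disjoint {A : Type*} [Group A] (f : A →* (Fin n → Matrix.SpecialLinearGroup (Fin 2) F))
    (S : Subgroup (Equiv.Perm (Fin n))) :
    ((spBase n F).comp f).range ⊓ S.map (spPerm n F) = ⊥ := by
  rw [eq_bot_iff]
  rintro x ⟨⟨a, rfl⟩, ⟨σ, -, hσ⟩⟩
  rw [Subgroup.mem_bot]
  have hm := congrArg (fun x : ↥(Matrix.symplecticGroup (Fin n) F) =>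
    (x : Matrix (Fin n ⊕ Fin n) (Fin n ⊕ Fin n) F)) hσ
  simp only [MonoidHom.comp_apply, spPerm_val, spBase_val] at hm
  have h1 : σ = 1 := by
    ext t
    by_contra hne
    have := congrFun (congrFun hm (Sum.inl (σ t))) (Sum.inl t)
    simp only [Matrix.fromBlocks_apply₁₁, pmat, if_true, D4, Matrix.diagonal_apply] at this
    have hne' : ¬ σ t = t := fun h' => hne (by rw [h']; rfl)
    rw [if_neg hne'] at this
    exact one_ne_zero this
  rw [← hσ, h1, map_one]

/-- Sylow `2`-subgroups of `Sp_{2n}(q)`, `q` odd, have abelianisation of exponent two. -/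
theorem sylow_sp [Fintype F] (hF : Odd (Fintype.card F)) (n : ℕ) :
    ∀ P : Sylow 2 ↥(Matrix.symplecticGroup (Fin n) F),
      SqInComm ↥(P : Subgroup ↥(Matrix.symplecticGroup (Fin n) F)) := by
  classical
  have : Fact (Nat.Prime 2) := ⟨Nat.prime_two⟩
  obtain ⟨hq, hq3⟩ := card_facts hF
  obtain ⟨Q, hQc, hQr⟩ := exists_quat hF
  obtain ⟨S, hSc, hSg⟩ := exists_sylow_perm n (Fin n) (by simp)
  obtain ⟨β, hβdef⟩ : ∃ β : (Fin n → ↥Q) →* ↥(Matrix.symplecticGroup (Fin n) F),
    β = (spBase n F).comp (Q.subtype.compLeft (Fin n)) := ⟨_, rfl⟩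
  have hβinj : Function.Injective β := by
    rw [hβdef]
    refine spBase_injective.comp ?_
    intro f g h
    funext i
    exact Subtype.ext (congrFun h i)
  have hconj : ∀ (σ : Equiv.Perm (Fin n)) (f : Fin n → ↥Q),
      spPerm n F σ * β f * (spPerm n F σ)⁻¹ = β (f ∘ σ.symm) := by
    intro σ f
    rw [hβdef]
    exact sp_conj σ _
  have hnorm : ∀ k ∈ S.map (spPerm n F), ∀ h ∈ β.range, k * h * k⁻¹ ∈ β.range := by
    rintro _ ⟨σ, -, rfl⟩ _ ⟨f, rfl⟩
    exact ⟨f ∘ σ.symm, (hconj σ f).symm⟩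
  have hdisj : β.range ⊓ S.map (spPerm n F) = ⊥ := by
    rw [hβdef]
    exact sp_disjoint _ S
  have hfin : Finite ↥(Matrix.symplecticGroup (Fin n) F) := inferInstance
  have hcard : padicValNat 2 (Nat.card ↥(Matrix.symplecticGroup (Fin n) F)) =
      n * (padicValNat 2 (Fintype.card F - 1) + padicValNat 2 (Fintype.card F + 1)) +
        padicValNat 2 n.factorial := by
    rw [Cfsg.Agent.S0245.result rfl n,
      padicValNat.mul (pow_ne_zero _ (by omega)) (prod_ne_zero' _ hq3 n),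
      v2_odd _ (odd_pow_mod _ _ hq), v2_prod _ hq hq3 n, zero_add]
  have hcW : Nat.card ↥(β.range ⊔ S.map (spPerm n F)) =
      2 ^ padicValNat 2 (Nat.card ↥(Matrix.symplecticGroup (Fin n) F)) := by
    rw [card_sup_of_normalizes _ _ hnorm hdisj, card_range_of_inj _ hβinj,
      Subgroup.card_map_of_injective spPerm_injective, hSc, Nat.card_fun, hQc, hcard]
    simp only [Nat.card_eq_fintype_card, Fintype.card_fin]
    rw [← pow_mul, ← pow_add]
    congr 1
    ring
  apply sylow_sqInComm_of_card _ hcW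
  have hInv := hSg.map (spPerm n F)
  refine sqInComm_of_real_gen _
    ((β.range : Set ↥(Matrix.symplecticGroup (Fin n) F)) ∪
      {τ | τ ∈ S.map (spPerm n F) ∧ τ ^ 2 = 1}) ?_ ?_ ?_
  · apply sup_le
    · exact fun x hx => Subgroup.subset_closure (Or.inl hx)
    · exact hInv.trans (Subgroup.closure_mono (fun x hx => Or.inr hx))
  · rintro x (hx | ⟨hx, -⟩)
    · exact (le_sup_left : β.range ≤ _) hx
    · exact (le_sup_right : S.map (spPerm n F) ≤ _) hx
  · rintro x (⟨f, rfl⟩ | ⟨hx, hx2⟩)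
    · have hch : ∀ i, ∃ y : ↥Q, y * f i * y⁻¹ = (f i)⁻¹ := by
        intro i
        obtain ⟨y, hy, hyf⟩ := hQr (f i).1 (f i).2
        exact ⟨⟨y, hy⟩, Subtype.ext hyf⟩
      choose y hy using hch
      refine ⟨β y, (le_sup_left : β.range ≤ _) ⟨y, rfl⟩, ?_⟩
      rw [← map_inv, ← map_mul, ← map_inv, ← map_mul]
      congr 1
      funext i
      exact hy i
    · refine ⟨1, Subgroup.one_mem _, ?_⟩
      rw [one_mul, inv_one, mul_one]
      exact (inv_eq_of_mul_eq_one_left (by rwa [pow_two] at hx2)).symm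

end sp

end Cfsg.Agent.Lib.Helper44
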