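import Mathlib
import Cfsg.Prelude.Def_Classical
import Cfsg.Prelude.Def_Transfer
import Cfsg.Agent.Lib.Helper44.SpSyl
import Cfsg.Agent.Lib.Helper44.SDModel

set_option autoImplicit false

namespace Cfsg.Agent.Lib.Helper44

open Matrix

section generic

/-- A subgroup of exponent two is elementary abelian. -/
theorem elemAb_of_exp_two {G : Type*} [Group G] (A : Subgroup G) (h : ∀ a ∈ A, a ^ 2 = 1) :
    Cfsg.IsElementaryAbelian 2 A := by
  refine ⟨⟨⟨?_⟩⟩, h⟩
  rintro ⟨a, ha⟩ ⟨b, hb⟩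
  apply Subtype.ext
  show a * b = b * a
  have h1 := h a ha
  have h2 := h b hb
  have h3 := h (a * b) (A.mul_mem ha hb)
  have ha' : a⁻¹ = a := inv_eq_of_mul_eq_one_left (by rw [← pow_two]; exact h1)
  have hb' : b⁻¹ = b := inv_eq_of_mul_eq_one_left (by rw [← pow_two]; exact h2)
  have hab : (a * b)⁻¹ = a * b := inv_eq_of_mul_eq_one_left (by rw [← pow_two]; exact h3)
  calc a * b = (a * b)⁻¹ := hab.symm
    _ = b⁻¹ * a⁻¹ := mul_inv_rev a b
    _ = b * a := by rw [ha', hb']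

/-- The normal `2`-rank of `G` is exactly `n`. -/
def NormalRank2 (G : Type*) [Group G] (n : ℕ) : Prop :=
  (∃ E : Subgroup G, E.Normal ∧ Cfsg.IsElementaryAbelian 2 E ∧ 2 ^ n ≤ Nat.card ↥E) ∧
    ∀ E : Subgroup G, E.Normal → Cfsg.IsElementaryAbelian 2 E → Nat.card ↥E ≤ 2 ^ n

theorem NormalRank2.of_mulEquiv {G G' : Type*} [Group G] [Group G'] {n : ℕ} (e : G ≃* G')
    (h : NormalRank2 G n) : NormalRank2 G' n := by
  obtain ⟨⟨E, hEn, ⟨-, hE2⟩, hEcard⟩, hub⟩ := h
  refine ⟨⟨E.map e.toMonoidHom, hEn.map _ e.surjective, elemAb_of_exp_two _ ?_, ?_⟩, ?_⟩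
  · rintro _ ⟨a, ha, rfl⟩
    rw [← map_pow, hE2 a ha, map_one]
  · rw [Subgroup.card_map_of_injective e.injective]
    exact hEcard
  · rintro E' hE'n ⟨-, hE'2⟩
    have h1 := hub (E'.comap e.toMonoidHom) (hE'n.comap _) (elemAb_of_exp_two _ (by
      intro a ha
      have h2 := hE'2 _ ha
      apply e.injective
      rw [map_pow, map_one]
      exact h2))
    have h3 : Nat.card ↥(E'.comap e.toMonoidHom) = Nat.card ↥E' := by
      have h4 : (E'.comap e.toMonoidHom).map e.toMonoidHom = E' :=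
        Subgroup.map_comap_eq_self_of_surjective e.surjective E'
      rw [← h4, Subgroup.card_map_of_injective e.injective, h4]
    rw [← h3]
    exact h1

/-- Criterion for the normal `2`-rank of a subgroup `W`, in terms of subgroups of the ambient
group. -/
theorem normalRank2_of {G : Type*} [Group G] [Finite G] (W E₀ : Subgroup G) (n : ℕ)
    (hle : E₀ ≤ W) (hn : ∀ w ∈ W, ∀ x ∈ E₀, w * x * w⁻¹ ∈ E₀) (hexp : ∀ x ∈ E₀, x ^ 2 = 1)
    (hcard : Nat.card ↥E₀ = 2 ^ n)
    (hub : ∀ E : Subgroup G, E ≤ W → (∀ w ∈ W, ∀ x ∈ E, w * x * w⁻¹ ∈ E) →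
      (∀ x ∈ E, x ^ 2 = 1) → E ≤ E₀) : NormalRank2 ↥W n := by
  refine ⟨⟨E₀.subgroupOf W, ⟨?_⟩, elemAb_of_exp_two _ ?_, ?_⟩, ?_⟩
  · rintro ⟨x, hx⟩ hxE ⟨w, hw⟩
    rw [Subgroup.mem_subgroupOf] at hxE ⊢
    exact hn w hw x hxE
  · rintro ⟨x, hx⟩ hxE
    rw [Subgroup.mem_subgroupOf] at hxE
    exact Subtype.ext (hexp x hxE)
  · rw [Nat.card_congr (Subgroup.subgroupOfEquivOfLe hle).toEquiv, hcard]
  · rintro E hEn ⟨-, hE2⟩
    have h1 : E.map W.subtype ≤ E₀ := by
      apply hub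
      · exact Subgroup.map_subtype_le E
      · rintro w hw _ ⟨x, hx, rfl⟩
        exact ⟨⟨w, hw⟩ * x * ⟨w, hw⟩⁻¹, hEn.conj_mem x hx ⟨w, hw⟩, rfl⟩
      · rintro _ ⟨x, hx, rfl⟩
        rw [← map_pow, hE2 x hx, map_one]
    rw [← Subgroup.card_map_of_injective (Subgroup.subtype_injective W), ← hcard]
    exact Subgroup.card_le_of_le h1

/-- A subgroup whose order is the full `2`-part is isomorphic to every Sylow `2`-subgroup. -/
theorem sylow_equiv_of_card {G : Type*} [Group G] [Finite G] (W : Subgroup G)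
    (hcW : Nat.card ↥W = 2 ^ padicValNat 2 (Nat.card G)) (S : Sylow 2 G) :
    Nonempty (↥W ≃* ↥(S : Subgroup G)) := by
  have : Fact (Nat.Prime 2) := ⟨Nat.prime_two⟩
  have hWp : IsPGroup 2 ↥W := IsPGroup.of_card hcW
  have hidx : ¬ 2 ∣ W.index := by
    have h := odd_index_of_card W hcW
    rw [Nat.odd_iff] at h
    omega
  exact ⟨Sylow.equiv (hWp.toSylow hidx) S⟩

/-- The homomorphism `ℤˣ → G` sending `-1` to an element `z` with `z² = 1`. -/
def signHom {G : Type*} [Group G] (z : G) (hz : z * z = 1) : ℤˣ →* G where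
  toFun u := if u = 1 then 1 else z
  map_one' := by simp
  map_mul' u v := by
    rcases Int.units_eq_one_or u with rfl | rfl <;> rcases Int.units_eq_one_or v with rfl | rfl <;>
      simp [hz]

theorem signHom_one {G : Type*} [Group G] (z : G) (hz : z * z = 1) : signHom z hz 1 = 1 :=
  map_one _

theorem signHom_neg_one {G : Type*} [Group G] (z : G) (hz : z * z = 1) :
    signHom z hz (-1) = z := by
  show (if (-1 : ℤˣ) = 1 then 1 else z) = z
  rw [if_neg (by decide)]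

theorem signHom_injective {G : Type*} [Group G] (z : G) (hz : z * z = 1) (hz1 : z ≠ 1) :
    Function.Injective (signHom z hz) := by
  intro u v h
  rcases Int.units_eq_one_or u with rfl | rfl <;> rcases Int.units_eq_one_or v with rfl | rfl
  · rfl
  · rw [signHom_one, signHom_neg_one] at h
    exact absurd h.symm hz1
  · rw [signHom_one, signHom_neg_one] at h
    exact absurd h hz1
  · rfl

/-- Normal `2`-rank of a wreath-like group `(Qᵐ × L) ⋊ Sy`: if the only "normal-compatible"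
involution of `Q` is the central `z`, `Q` has an element of order greater than two and `L` is
elementary abelian of order `2ˡ`, then the normal `2`-rank is `m + l`. -/
theorem wreath_normalRank {G Q L : Type*} [Group G] [Finite G] [Group Q] [Group L] (m l : ℕ)
    (β : (Fin m → Q) × L →* G) (π : Equiv.Perm (Fin m) →* G) (Sy : Subgroup (Equiv.Perm (Fin m)))
    (hβinj : Function.Injective β)
    (hconj : ∀ (σ : Equiv.Perm (Fin m)) (f : Fin m → Q) (u : L),
      π σ * β (f, u) * (π σ)⁻¹ = β (f ∘ σ.symm, u))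
    (hL : ∀ u : L, u * u = 1) (hLc : Nat.card L = 2 ^ l)
    (j z : Q) (hjj : j * j ≠ 1) (hzz : z * z = 1) (hz1 : z ≠ 1) (hzc : ∀ g : Q, z * g = g * z)
    (hinv : ∀ g : Q, g * g = 1 →
      (∀ y : Q, (y * g * y⁻¹ * g⁻¹) * (y * g * y⁻¹ * g⁻¹) = 1) → g = 1 ∨ g = z) :
    NormalRank2 ↥(β.range ⊔ Sy.map π) (m + l) := by
  classical
  have hnorm : ∀ k ∈ Sy.map π, ∀ h ∈ β.range, k * h * k⁻¹ ∈ β.range := by
    rintro _ ⟨σ, -, rfl⟩ _ ⟨⟨f, u⟩, rfl⟩
    exact ⟨(f ∘ σ.symm, u), (hconj σ f u).symm⟩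
  have hLinv : ∀ u : L, u⁻¹ = u := fun u => inv_eq_of_mul_eq_one_left (hL u)
  have hLcomm : ∀ u v : L, u * v = v * u := by
    intro u v
    calc u * v = (u * v)⁻¹ := (hLinv _).symm
      _ = v⁻¹ * u⁻¹ := mul_inv_rev u v
      _ = v * u := by rw [hLinv, hLinv]
  obtain ⟨s, hsdef⟩ : ∃ s : (Fin m → ℤˣ) × L →* G,
    s = β.comp (MonoidHom.prodMap ((signHom z hzz).compLeft (Fin m)) (MonoidHom.id L)) :=
    ⟨_, rfl⟩
  have hsβ : ∀ (ε : Fin m → ℤˣ) (u : L), s (ε, u) = β (fun i => signHom z hzz (ε i), u) := by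
    intro ε u
    rw [hsdef]
    rfl
  have hsinj : Function.Injective s := by
    rintro ⟨ε, u⟩ ⟨ε', u'⟩ h
    rw [hsβ, hsβ] at h
    have h' := hβinj h
    have h1 := congrArg Prod.fst h'
    have h2 : u = u' := congrArg Prod.snd h'
    refine Prod.ext ?_ h2
    funext i
    exact signHom_injective z hzz hz1 (congrFun h1 i)
  have hscomm : ∀ (ε : Fin m → ℤˣ) (u : L) (f : Fin m → Q) (v : L),
      β (f, v) * s (ε, u) * (β (f, v))⁻¹ = s (ε, u) := by
    intro ε u f v
    rw [hsβ, ← map_inv, ← map_mul, ← map_mul]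
    congr 1
    refine Prod.ext ?_ ?_
    · funext i
      show f i * signHom z hzz (ε i) * (f i)⁻¹ = signHom z hzz (ε i)
      rcases Int.units_eq_one_or (ε i) with h | h
      · rw [h, signHom_one, mul_one, mul_inv_cancel]
      · rw [h, signHom_neg_one, ← hzc, mul_assoc, mul_inv_cancel, mul_one]
    · show v * u * v⁻¹ = u
      rw [hLcomm v u, mul_assoc, mul_inv_cancel, mul_one]
  apply normalRank2_of _ s.range (m + l)
  · rintro _ ⟨⟨ε, u⟩, rfl⟩
    rw [hsβ]
    exact (le_sup_left : β.range ≤ _) ⟨_, rfl⟩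
  · rintro w hw _ ⟨⟨ε, u⟩, rfl⟩
    obtain ⟨_, ⟨⟨f, v⟩, rfl⟩, _, ⟨σ, -, rfl⟩, rfl⟩ := mem_sup_of_normalizes _ _ hnorm hw
    have h1 : π σ * s (ε, u) * (π σ)⁻¹ = s (ε ∘ σ.symm, u) := by
      rw [hsβ, hconj, hsβ]
      rfl
    refine ⟨(ε ∘ σ.symm, u), ?_⟩
    calc s (ε ∘ σ.symm, u) = β (f, v) * s (ε ∘ σ.symm, u) * (β (f, v))⁻¹ := (hscomm _ _ _ _).symm
      _ = β (f, v) * (π σ * s (ε, u) * (π σ)⁻¹) * (β (f, v))⁻¹ := by rw [h1]
      _ = _ := by group
  · rintro _ ⟨⟨ε, u⟩, rfl⟩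
    rw [← map_pow]
    have : (ε, u) ^ 2 = 1 := by
      refine Prod.ext ?_ ?_
      · funext i
        show ε i ^ 2 = 1
        rcases Int.units_eq_one_or (ε i) with h | h <;> rw [h] <;> rfl
      · show u ^ 2 = 1
        rw [pow_two]
        exact hL u
    rw [this, map_one]
  · rw [card_range_of_inj _ hsinj, Nat.card_prod, Nat.card_fun, hLc, pow_add]
    simp
  · intro E hEW hEn hE2 x hx
    obtain ⟨_, ⟨⟨f, u⟩, rfl⟩, _, ⟨σ, -, rfl⟩, rfl⟩ := mem_sup_of_normalizes _ _ hnorm (hEW hx)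
    have hσ : σ = 1 := by
      ext i
      by_contra hne
      have hne' : σ.symm i ≠ i := by
        intro h
        apply hne
        have := congrArg σ h
        rw [Equiv.apply_symm_apply] at this
        rw [← this]
        rfl
      have hg : β (Pi.mulSingle i j, 1) ∈ β.range ⊔ Sy.map π :=
        (le_sup_left : β.range ≤ _) ⟨_, rfl⟩
      have hc : β (Pi.mulSingle i j, 1) * (β (f, u) * π σ) * (β (Pi.mulSingle i j, 1))⁻¹ *
          (β (f, u) * π σ)⁻¹ ∈ E :=
        E.mul_mem (hEn _ hg _ hx) (E.inv_mem hx)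
      obtain ⟨p, hpdef⟩ : ∃ p : (Fin m → Q) × L,
        p = (Pi.mulSingle i j, 1) * (f, u) * ((Pi.mulSingle i j)⁻¹ ∘ σ.symm, 1) * (f, u)⁻¹ :=
        ⟨_, rfl⟩
      have hg' : β ((Pi.mulSingle i j)⁻¹, 1) = (β (Pi.mulSingle i j, 1))⁻¹ := by
        rw [← map_inv]
        congr 1
        rw [Prod.inv_mk, inv_one]
      have hceq : β (Pi.mulSingle i j, 1) * (β (f, u) * π σ) * (β (Pi.mulSingle i j, 1))⁻¹ *
          (β (f, u) * π σ)⁻¹ = β p := by
        rw [hpdef, map_mul, map_mul, map_mul, ← hconj, hg', map_inv]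
        group
      rw [hceq] at hc
      have h3 := hE2 _ hc
      rw [← map_pow, ← map_one β] at h3
      have h4 := hβinj h3
      rw [pow_two] at h4
      have h5 : p.1 i = j := by
        rw [hpdef]
        show (Pi.mulSingle i j : Fin m → Q) i * f i *
          ((Pi.mulSingle i j : Fin m → Q)⁻¹ (σ.symm i)) * (f i)⁻¹ = j
        rw [Pi.mulSingle_eq_same]
        show j * f i * ((Pi.mulSingle i j : Fin m → Q) (σ.symm i))⁻¹ * (f i)⁻¹ = j
        rw [Pi.mulSingle_eq_of_ne hne', inv_one, mul_one, mul_assoc, mul_inv_cancel, mul_one]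
      apply hjj
      have h6 : p.1 i * p.1 i = 1 := congrFun (congrArg Prod.fst h4) i
      rw [h5] at h6
      exact h6
    rw [hσ, map_one, mul_one] at hx ⊢
    have h3 := hE2 _ hx
    rw [← map_pow, ← map_one β] at h3
    have h3' := hβinj h3
    rw [pow_two] at h3'
    have h4 : ∀ i, f i * f i = 1 := fun i => congrFun (congrArg Prod.fst h3') i
    have h5 : ∀ i, f i = 1 ∨ f i = z := by
      intro i
      refine hinv _ (h4 i) ?_
      intro y
      have hg : β (Pi.mulSingle i y, 1) ∈ β.range ⊔ Sy.map π :=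
        (le_sup_left : β.range ≤ _) ⟨_, rfl⟩
      have hc : β (Pi.mulSingle i y, 1) * β (f, u) * (β (Pi.mulSingle i y, 1))⁻¹ *
          (β (f, u))⁻¹ ∈ E :=
        E.mul_mem (hEn _ hg _ hx) (E.inv_mem hx)
      obtain ⟨p, hpdef⟩ : ∃ p : (Fin m → Q) × L,
        p = (Pi.mulSingle i y, 1) * (f, u) * (Pi.mulSingle i y, 1)⁻¹ * (f, u)⁻¹ := ⟨_, rfl⟩
      have hceq : β (Pi.mulSingle i y, 1) * β (f, u) * (β (Pi.mulSingle i y, 1))⁻¹ *
          (β (f, u))⁻¹ = β p := by
        rw [hpdef, map_mul, map_mul, map_mul, map_inv, map_inv]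
      rw [hceq] at hc
      have h6 := hE2 _ hc
      rw [← map_pow, ← map_one β] at h6
      have h7 := hβinj h6
      rw [pow_two] at h7
      have h8 : p.1 i = y * f i * y⁻¹ * (f i)⁻¹ := by
        rw [hpdef]
        show (Pi.mulSingle i y : Fin m → Q) i * f i * ((Pi.mulSingle i y : Fin m → Q) i)⁻¹ *
          (f i)⁻¹ = _
        rw [Pi.mulSingle_eq_same]
      have h9 : p.1 i * p.1 i = 1 := congrFun (congrArg Prod.fst h7) i
      rw [h8] at h9
      exact h9
    refine ⟨(fun i => if f i = 1 then 1 else -1, u), ?_⟩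
    rw [hsβ]
    congr 1
    refine Prod.ext ?_ rfl
    funext i
    show signHom z hzz (if f i = 1 then 1 else -1) = f i
    by_cases h : f i = 1
    · rw [if_pos h, signHom_one, h]
    · rw [if_neg h, signHom_neg_one]
      exact ((h5 i).resolve_left h).symm

end generic

section sl2

variable {F : Type*} [Field F]

theorem jSL_sq_ne_one (h2 : (2 : F) ≠ 0) : jSL F * jSL F ≠ 1 := by
  intro h
  have h1 := congrArg (fun g : Matrix.SpecialLinearGroup (Fin 2) F => g.1 0 0) h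
  simp only [Matrix.SpecialLinearGroup.coe_mul, Matrix.mul_apply, Fin.sum_univ_two] at h1
  change (0 : F) * 0 + (-1) * 1 = 1 at h1
  apply h2
  linear_combination -h1

theorem jSL_sq_comm (g : Matrix.SpecialLinearGroup (Fin 2) F) :
    (jSL F * jSL F) * g = g * (jSL F * jSL F) := by
  have h1 : ((jSL F * jSL F : Matrix.SpecialLinearGroup (Fin 2) F) :
      Matrix (Fin 2) (Fin 2) F) = -1 := by
    rw [Matrix.SpecialLinearGroup.coe_mul]
    show (!![0, -1; 1, 0] : Matrix (Fin 2) (Fin 2) F) * !![0, -1; 1, 0] = -1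
    rw [Matrix.mul_fin_two]
    ext i j
    fin_cases i <;> fin_cases j <;> simp
  apply Subtype.ext
  show (jSL F * jSL F : Matrix.SpecialLinearGroup (Fin 2) F).1 * g.1 =
    g.1 * (jSL F * jSL F : Matrix.SpecialLinearGroup (Fin 2) F).1
  rw [h1]
  simp

/-- Involutions of `SL₂` in odd characteristic are central. -/
theorem sl2_sq_eq_one (h2 : (2 : F) ≠ 0) (g : Matrix.SpecialLinearGroup (Fin 2) F)
    (hg : g * g = 1) : g = 1 ∨ g = jSL F * jSL F := by
  have hm : g.1 * g.1 = 1 := by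
    have := congrArg (fun x : Matrix.SpecialLinearGroup (Fin 2) F => x.1) hg
    simpa using this
  have E00 : g.1 0 0 * g.1 0 0 + g.1 0 1 * g.1 1 0 = 1 := by
    have := congrFun (congrFun hm 0) 0
    simpa [Matrix.mul_apply, Fin.sum_univ_two] using this
  have E01 : g.1 0 0 * g.1 0 1 + g.1 0 1 * g.1 1 1 = 0 := by
    have := congrFun (congrFun hm 0) 1
    simpa [Matrix.mul_apply, Fin.sum_univ_two] using this
  have E10 : g.1 1 0 * g.1 0 0 + g.1 1 1 * g.1 1 0 = 0 := by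
    have := congrFun (congrFun hm 1) 0
    simpa [Matrix.mul_apply, Fin.sum_univ_two] using this
  have Ed : g.1 0 0 * g.1 1 1 - g.1 0 1 * g.1 1 0 = 1 := by
    have := g.2
    rwa [Matrix.det_fin_two] at this
  have hs : g.1 0 0 * (g.1 0 0 + g.1 1 1) = 2 := by linear_combination E00 + Ed
  have hne : g.1 0 0 + g.1 1 1 ≠ 0 := by
    intro h
    apply h2
    rw [← hs, h, mul_zero]
  have hb : g.1 0 1 = 0 := by
    have : g.1 0 1 * (g.1 0 0 + g.1 1 1) = 0 := by linear_combination E01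
    exact (mul_eq_zero.mp this).resolve_right hne
  have hc : g.1 1 0 = 0 := by
    have : g.1 1 0 * (g.1 0 0 + g.1 1 1) = 0 := by linear_combination E10
    exact (mul_eq_zero.mp this).resolve_right hne
  rw [hb] at E00 Ed
  have ha2 : g.1 0 0 * g.1 0 0 = 1 := by linear_combination E00
  have hd : g.1 1 1 = g.1 0 0 := by
    have ha0 : g.1 0 0 ≠ 0 := by
      intro h
      rw [h] at ha2
      simp at ha2
    have : g.1 0 0 * (g.1 1 1 - g.1 0 0) = 0 := by linear_combination Ed - ha2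
    have h3 := (mul_eq_zero.mp this).resolve_left ha0
    linear_combination h3
  rcases mul_self_eq_one_iff.mp ha2 with ha | ha
  · left
    apply Subtype.ext
    rw [Matrix.eta_fin_two g.1, hb, hc, hd, ha]
    show _ = (1 : Matrix (Fin 2) (Fin 2) F)
    ext i j
    fin_cases i <;> fin_cases j <;> simp
  · right
    apply Subtype.ext
    rw [Matrix.eta_fin_two g.1, hb, hc, hd, ha, Matrix.SpecialLinearGroup.coe_mul]
    show _ = (!![0, -1; 1, 0] : Matrix (Fin 2) (Fin 2) F) * !![0, -1; 1, 0]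
    rw [Matrix.mul_fin_two]
    ext i j
    fin_cases i <;> fin_cases j <;> simp

/-- The quaternion-like Sylow `2`-subgroup of `SL₂(q)`, with `J` in it. -/
theorem exists_quat' [Fintype F] (hF : Odd (Fintype.card F)) :
    ∃ Q : Subgroup (Matrix.SpecialLinearGroup (Fin 2) F),
      Nat.card Q =
        2 ^ (padicValNat 2 (Fintype.card F - 1) + padicValNat 2 (Fintype.card F + 1)) ∧
      jSL F ∈ Q := by
  classical
  have h2 := two_ne_zero_of_odd_card'' hF
  have hfin : Finite (Matrix.SpecialLinearGroup (Fin 2) F) :=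
    inferInstanceAs (Finite {A : Matrix (Fin 2) (Fin 2) F // A.det = 1})
  obtain ⟨T₂, hT₂c, hT₂⟩ := exists_sylow_of_comm (A := ↥(rotT F))
    (fun a b => Subtype.ext (rotT_comm a.1 b.1 a.2 b.2))
  obtain ⟨x, y, hxy⟩ : ∃ x y : F, x ^ 2 + y ^ 2 = -1 := by
    obtain ⟨x, y, h⟩ := exists_binary_rep hF (1 : F) 1 (-1) one_ne_zero one_ne_zero
    exact ⟨x, y, by linear_combination h⟩
  obtain ⟨T, hTdef⟩ : ∃ T : Subgroup (Matrix.SpecialLinearGroup (Fin 2) F),
    T = T₂.map (rotT F).subtype := ⟨_, rfl⟩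
  have hTle : T ≤ rotT F := by
    rw [hTdef]
    exact Subgroup.map_subtype_le T₂
  have hjT : jSL F ∈ T := by
    rw [hTdef]
    exact ⟨⟨jSL F, jSL_mem⟩, hT₂ _ (Subtype.ext (jSL_pow F)), rfl⟩
  have hn2 : nSL x y hxy * nSL x y hxy ∈ T := by
    rw [← nSL_sq]
    exact T.mul_mem hjT hjT
  have hinv : ∀ t ∈ T, nSL x y hxy * t * (nSL x y hxy)⁻¹ = t⁻¹ :=
    fun t ht => nSL_conj x y hxy t (hTle ht)
  refine ⟨quatExt T _ hn2 hinv, ?_, Or.inl hjT⟩
  rw [card_quatExt T _ hn2 hinv (fun h => nSL_not_mem h2 x y hxy (hTle h)), hTdef,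
    Subgroup.card_map_of_injective (Subgroup.subtype_injective _), hT₂c]
  have hc := card_rotT (F := F) h2
  have hv := v2_card_O2 hF h2
  rw [← hc] at hv
  have h3 : padicValNat 2 (Nat.card ↥(rotT F) * 2) = padicValNat 2 (Nat.card ↥(rotT F)) + 1 := by
    rw [mul_comm, v2_two_mul _ Nat.card_pos.ne']
    ring
  rw [← hv, h3, pow_succ]

end sl2

section sp

variable {F : Type*} [Field F]

/-- The normal `2`-rank of a Sylow `2`-subgroup of `Sp_{2n}(q)`, `q` odd, is `n`. -/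
theorem sp_normalRank [Fintype F] (hF : Odd (Fintype.card F)) (n : ℕ)
    (S : Sylow 2 ↥(Matrix.symplecticGroup (Fin n) F)) :
    NormalRank2 ↥(S : Subgroup ↥(Matrix.symplecticGroup (Fin n) F)) n := by
  classical
  have : Fact (Nat.Prime 2) := ⟨Nat.prime_two⟩
  have h2 := two_ne_zero_of_odd_card'' hF
  obtain ⟨hq, hq3⟩ := card_facts hF
  obtain ⟨Q, hQc, hjQ⟩ := exists_quat' hF
  obtain ⟨Sy, hSc, -⟩ := exists_sylow_perm n (Fin n) (by simp)
  obtain ⟨β, hβdef⟩ : ∃ β : (Fin n → ↥Q) →* ↥(Matrix.symplecticGroup (Fin n) F),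
    β = (spBase n F).comp (Q.subtype.compLeft (Fin n)) := ⟨_, rfl⟩
  have hβinj : Function.Injective β := by
    rw [hβdef]
    refine spBase_injective.comp ?_
    intro f g h
    funext i
    exact Subtype.ext (congrFun h i)
  have hconj : ∀ (σ : Equiv.Perm (Fin n)) (f : Fin n → ↥Q),
      spPerm n F σ * β f * (spPerm n F σ)⁻¹ = β (f ∘ σ.symm) := by
    intro σ f
    rw [hβdef]
    exact sp_conj σ _
  have hnorm : ∀ k ∈ Sy.map (spPerm n F), ∀ h ∈ β.range, k * h * k⁻¹ ∈ β.range := by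
    rintro _ ⟨σ, -, rfl⟩ _ ⟨f, rfl⟩
    exact ⟨f ∘ σ.symm, (hconj σ f).symm⟩
  have hdisj : β.range ⊓ Sy.map (spPerm n F) = ⊥ := by
    rw [hβdef]
    exact sp_disjoint _ Sy
  have hfin : Finite ↥(Matrix.symplecticGroup (Fin n) F) := inferInstance
  have hcard : padicValNat 2 (Nat.card ↥(Matrix.symplecticGroup (Fin n) F)) =
      n * (padicValNat 2 (Fintype.card F - 1) + padicValNat 2 (Fintype.card F + 1)) +
        padicValNat 2 n.factorial := by
    rw [Cfsg.Agent.S0245.result rfl n,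
      padicValNat.mul (pow_ne_zero _ (by omega)) (prod_ne_zero' _ hq3 n),
      v2_odd _ (odd_pow_mod _ _ hq), v2_prod _ hq hq3 n, zero_add]
  have hcW : Nat.card ↥(β.range ⊔ Sy.map (spPerm n F)) =
      2 ^ padicValNat 2 (Nat.card ↥(Matrix.symplecticGroup (Fin n) F)) := by
    rw [card_sup_of_normalizes _ _ hnorm hdisj, card_range_of_inj _ hβinj,
      Subgroup.card_map_of_injective spPerm_injective, hSc, Nat.card_fun, hQc, hcard]
    simp only [Nat.card_eq_fintype_card, Fintype.card_fin]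
    rw [← pow_mul, ← pow_add]
    congr 1
    ring
  obtain ⟨e⟩ := sylow_equiv_of_card _ hcW S
  refine NormalRank2.of_mulEquiv e ?_
  -- the central involution
  obtain ⟨j, hjdef⟩ : ∃ j : ↥Q, j = ⟨jSL F, hjQ⟩ := ⟨_, rfl⟩
  have hjval : (j : Matrix.SpecialLinearGroup (Fin 2) F) = jSL F := by rw [hjdef]
  have hjj : j * j ≠ 1 := by
    intro h
    apply jSL_sq_ne_one h2
    have := congrArg (Subtype.val) h
    rw [Subgroup.coe_mul, hjval] at this
    exact this
  obtain ⟨z, hzdef⟩ : ∃ z : ↥Q, z = j * j := ⟨_, rfl⟩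
  have hzval : (z : Matrix.SpecialLinearGroup (Fin 2) F) = jSL F * jSL F := by
    rw [hzdef, Subgroup.coe_mul, hjval]
  have hzz : z * z = 1 := by
    apply Subtype.ext
    rw [Subgroup.coe_mul, hzval]
    have := jSL_pow F
    rw [show (4 : ℕ) = 2 + 2 from rfl, pow_add, pow_two] at this
    exact this
  have hz1 : z ≠ 1 := by
    rw [hzdef]
    exact hjj
  have hzc : ∀ g : ↥Q, z * g = g * z := by
    intro g
    apply Subtype.ext
    rw [Subgroup.coe_mul, Subgroup.coe_mul, hzval]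
    exact jSL_sq_comm _
  have hinv : ∀ g : ↥Q, g * g = 1 →
      (∀ y : ↥Q, (y * g * y⁻¹ * g⁻¹) * (y * g * y⁻¹ * g⁻¹) = 1) → g = 1 ∨ g = z := by
    intro g hg _
    have h6 : g.1 * g.1 = 1 := by
      have := congrArg Subtype.val hg
      rw [Subgroup.coe_mul] at this
      exact this
    rcases sl2_sq_eq_one h2 _ h6 with h | h
    · left
      exact Subtype.ext h
    · right
      apply Subtype.ext
      rw [h, hzval]
  have key := wreath_normalRank n 0 (β.comp (MonoidHom.fst (Fin n → ↥Q) Unit)) (spPerm n F) Sy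
    (by
      rintro ⟨f, u⟩ ⟨g, v⟩ h
      exact Prod.ext (hβinj h) rfl)
    (fun σ f u => hconj σ f) (fun u => rfl) (by simp) j z hjj hzz hz1 hzc hinv
  have hr : (β.comp (MonoidHom.fst (Fin n → ↥Q) Unit)).range = β.range := by
    ext x
    constructor
    · rintro ⟨⟨f, u⟩, rfl⟩
      exact ⟨f, rfl⟩
    · rintro ⟨f, rfl⟩
      exact ⟨(f, ()), rfl⟩
  rw [hr] at key
  exact key

end sp

end Cfsg.Agent.Lib.Helper44
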