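import Mathlib
import Cfsg.Prelude.Def_Classical
import Cfsg.Prelude.Def_Transfer
import Cfsg.Agent.Lib.Helper44.SpRank
import Cfsg.Agent.Lib.Helper44.MonoModel
import Cfsg.Agent.Lib.Helper44.GLArith

set_option autoImplicit false

namespace Cfsg.Agent.Lib.Helper44

open Matrix

section generic

/-- Transport of the normal `2`-rank from a model subgroup of full `2`-part order (inside an
isomorphic copy of the group) to every Sylow `2`-subgroup. -/
theorem normalRank2_sylow_of_model {G G' : Type*} [Group G] [Finite G] [Group G'] (e : G' ≃* G)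
    (W : Subgroup G') (hcW : Nat.card ↥W = 2 ^ padicValNat 2 (Nat.card G)) (n : ℕ)
    (h : NormalRank2 ↥W n) (S : Sylow 2 G) : NormalRank2 ↥(S : Subgroup G) n := by
  have hc : Nat.card ↥(W.map e.toMonoidHom) = 2 ^ padicValNat 2 (Nat.card G) := by
    rw [Subgroup.card_map_of_injective e.injective, hcW]
  obtain ⟨e'⟩ := sylow_equiv_of_card _ hc S
  exact NormalRank2.of_mulEquiv e'
    (NormalRank2.of_mulEquiv (W.equivMapOfInjective e.toMonoidHom e.injective) h)

/-- `wreath_normalRank` without the extra elementary abelian factor. -/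
theorem wreath_normalRank' {G Q : Type*} [Group G] [Finite G] [Group Q] (m : ℕ)
    (β : (Fin m → Q) →* G) (π : Equiv.Perm (Fin m) →* G) (Sy : Subgroup (Equiv.Perm (Fin m)))
    (hβinj : Function.Injective β)
    (hconj : ∀ (σ : Equiv.Perm (Fin m)) (f : Fin m → Q), π σ * β f * (π σ)⁻¹ = β (f ∘ σ.symm))
    (j z : Q) (hjj : j * j ≠ 1) (hzz : z * z = 1) (hz1 : z ≠ 1) (hzc : ∀ g : Q, z * g = g * z)
    (hinv : ∀ g : Q, g * g = 1 → g = 1 ∨ g = z) :
    NormalRank2 ↥(β.range ⊔ Sy.map π) m := by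
  have key := wreath_normalRank m 0 (β.comp (MonoidHom.fst (Fin m → Q) Unit)) π Sy
    (by
      rintro ⟨f, u⟩ ⟨g, v⟩ h
      exact Prod.ext (hβinj h) rfl)
    (fun σ f u => hconj σ f) (fun u => rfl) (by simp) j z hjj hzz hz1 hzc
    (fun g hg _ => hinv g hg)
  have hr : (β.comp (MonoidHom.fst (Fin m → Q) Unit)).range = β.range := by
    ext x
    constructor
    · rintro ⟨⟨f, u⟩, rfl⟩
      exact ⟨f, rfl⟩
    · rintro ⟨f, rfl⟩
      exact ⟨(f, ()), rfl⟩
  rw [hr] at key
  exact key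

theorem v2_pow_sub_one_of_mod_four (q k : ℕ) (hq4 : q % 4 = 1) (hq3 : 3 ≤ q) (hk : k ≠ 0) :
    padicValNat 2 (q ^ k - 1) = padicValNat 2 (q - 1) + padicValNat 2 k := by
  rcases Nat.even_or_odd k with ⟨i, hi⟩ | hodd
  · have hk2 : k = 2 * i := by omega
    subst hk2
    rw [v2_pow_even q i (by omega) hq3 (by omega), v2_of_mod_four (q + 1) (by omega),
      v2_two_mul i (by omega)]
    ring
  · rw [v2_pow_sub_one_odd q k (by omega) hq3 (Nat.odd_iff.mp hodd),
      v2_odd k (Nat.odd_iff.mp hodd), add_zero]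

theorem v2_sum_mod_four (q : ℕ) (hq4 : q % 4 = 1) (hq3 : 3 ≤ q) (n : ℕ) :
    ∑ j ∈ Finset.range n, padicValNat 2 (q ^ (j + 1) - 1) =
      n * padicValNat 2 (q - 1) + padicValNat 2 n.factorial := by
  have : Fact (Nat.Prime 2) := ⟨Nat.prime_two⟩
  induction n with
  | zero => simp
  | succ n ih =>
    rw [Finset.sum_range_succ, ih, v2_pow_sub_one_of_mod_four q (n + 1) hq4 hq3 (by omega),
      Nat.factorial_succ, padicValNat.mul (by omega) (Nat.factorial_ne_zero n)]
    ring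

end generic

section one

variable {F : Type*} [Field F]

/-- Normal `2`-rank of `GL_n(q)`, `q ≡ 1 (mod 4)`. -/
theorem gl_normalRank_one [Fintype F] (hF : Odd (Fintype.card F))
    (hq4 : Fintype.card F % 4 = 1) (n : ℕ) (S : Sylow 2 (GL (Fin n) F)) :
    NormalRank2 ↥(S : Subgroup (GL (Fin n) F)) n := by
  classical
  have : Fact (Nat.Prime 2) := ⟨Nat.prime_two⟩
  have h2 := two_ne_zero_of_odd_card'' hF
  obtain ⟨hq, hq3⟩ := card_facts hF
  obtain ⟨Z, hZc, hZ4⟩ := exists_sylow_of_comm (A := Fˣ) mul_comm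
  have hZc' : Nat.card ↥Z = 2 ^ padicValNat 2 (Fintype.card F - 1) := by
    rw [hZc, Nat.card_eq_fintype_card, Fintype.card_units]
  have hneg : (-1 : Fˣ) ∈ Z := hZ4 _ (by
    have : (-1 : Fˣ) ^ 4 = ((-1 : Fˣ) ^ 2) ^ 2 := by rw [← pow_mul]
    rw [this, neg_one_sq, one_pow])
  obtain ⟨w, hw⟩ : IsSquare (-1 : F) := FiniteField.isSquare_neg_one_iff.mpr (by omega)
  have hw0 : w ≠ 0 := by
    rintro rfl
    simp at hw
  obtain ⟨ζ, hζ⟩ : ∃ ζ : Fˣ, ζ * ζ = -1 :=
    ⟨Units.mk0 w hw0, Units.ext (by simp [← hw])⟩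
  have hζZ : ζ ∈ Z := hZ4 ζ (by
    have : ζ ^ 4 = (ζ * ζ) ^ 2 := by rw [← pow_two, ← pow_mul]
    rw [this, hζ, neg_one_sq])
  have hneg1 : (-1 : Fˣ) ≠ 1 := by
    intro h
    have h3 := congrArg Units.val h
    apply h2
    have h4 : (-1 : F) = 1 := by simpa using h3
    linear_combination -h4
  obtain ⟨Sy, hSc, -⟩ := exists_sylow_perm n (Fin n) (by simp)
  obtain ⟨δ, hδdef⟩ : ∃ δ : (Fin n → ↥Z) →* GL (Fin n) F, δ = δG Z := ⟨_, rfl⟩
  obtain ⟨ρ, hρdef⟩ : ∃ ρ : Equiv.Perm (Fin n) →* GL (Fin n) F, ρ = pmatGL F := ⟨_, rfl⟩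
  have hconj : ∀ (σ : Equiv.Perm (Fin n)) (f : Fin n → ↥Z),
      ρ σ * δ f * (ρ σ)⁻¹ = δ (f ∘ σ.symm) := by
    rw [hδdef, hρdef]
    exact mono_conj Z
  have hnorm : ∀ k' ∈ Sy.map ρ, ∀ h ∈ δ.range, k' * h * k'⁻¹ ∈ δ.range := by
    rintro _ ⟨σ, -, rfl⟩ _ ⟨f, rfl⟩
    exact ⟨_, (hconj σ f).symm⟩
  have hdisj : δ.range ⊓ Sy.map ρ = ⊥ := by
    rw [hδdef, hρdef]
    exact mono_disjoint Z Sy
  have hδinj : Function.Injective δ := by
    rw [hδdef]
    exact δG_injective Z
  have hρinj : Function.Injective ρ := by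
    rw [hρdef]
    exact pmatGL_injective
  have hcard : padicValNat 2 (Nat.card (GL (Fin n) F)) =
      n * padicValNat 2 (Fintype.card F - 1) + padicValNat 2 n.factorial := by
    rw [Matrix.card_GL_field, v2_card_GL_aux _ hq hq3, v2_sum_mod_four _ hq4 hq3]
  have hcW : Nat.card ↥(δ.range ⊔ Sy.map ρ) = 2 ^ padicValNat 2 (Nat.card (GL (Fin n) F)) := by
    rw [card_sup_of_normalizes _ _ hnorm hdisj, card_range_of_inj _ hδinj,
      Subgroup.card_map_of_injective hρinj, hSc, Nat.card_fun, hZc', hcard]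
    simp only [Nat.card_eq_fintype_card, Fintype.card_fin]
    rw [← pow_mul, ← pow_add]
    congr 1
    ring
  apply normalRank2_sylow_of_model (MulEquiv.refl _) _ hcW
  refine wreath_normalRank' n δ ρ Sy hδinj hconj ⟨ζ, hζZ⟩ ⟨-1, hneg⟩ ?_ ?_ ?_ ?_ ?_
  · intro h
    have h3 : ζ * ζ = 1 := congrArg Subtype.val h
    rw [hζ] at h3
    exact hneg1 h3
  · apply Subtype.ext
    show (-1 : Fˣ) * (-1) = 1
    simp
  · intro h
    exact hneg1 (congrArg Subtype.val h)
  · intro g
    exact mul_comm _ _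
  · intro g hg
    have h3 : (g : Fˣ) * (g : Fˣ) = 1 := congrArg Subtype.val hg
    have h4 : ((g : Fˣ) : F) * ((g : Fˣ) : F) = 1 := by
      have := congrArg Units.val h3
      simpa using this
    rcases mul_self_eq_one_iff.mp h4 with h5 | h5
    · left
      exact Subtype.ext (Units.ext h5)
    · right
      apply Subtype.ext
      apply Units.ext
      rw [h5]
      simp

end one

section three

variable {F : Type*} [Field F]

theorem jGL_sq_val :
    ((jGL F * jGL F : GL (Fin 2) F) : Matrix (Fin 2) (Fin 2) F) = !![-1, 0; 0, -1] := by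
  show (!![0, -1; 1, 0] : Matrix (Fin 2) (Fin 2) F) * !![0, -1; 1, 0] = _
  rw [Matrix.mul_fin_two]
  ext i j
  fin_cases i <;> fin_cases j <;> simp

theorem jGL_sq_ne_one (h2 : (2 : F) ≠ 0) : jGL F * jGL F ≠ 1 := by
  intro h
  have h1 := congrArg (fun g : GL (Fin 2) F => g.1 0 0) h
  simp only [jGL_sq_val] at h1
  change (-1 : F) = 1 at h1
  apply h2
  linear_combination -h1

theorem jGL_sq_sq (F : Type*) [Field F] : (jGL F * jGL F) * (jGL F * jGL F) = 1 := by
  have := jGL_pow F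
  rw [show (4 : ℕ) = 2 + 2 from rfl, pow_add, pow_two] at this
  exact this

theorem jGL_sq_comm (g : GL (Fin 2) F) : (jGL F * jGL F) * g = g * (jGL F * jGL F) := by
  apply Units.ext
  show ((jGL F * jGL F : GL (Fin 2) F) : Matrix (Fin 2) (Fin 2) F) * g.1 =
    g.1 * ((jGL F * jGL F : GL (Fin 2) F) : Matrix (Fin 2) (Fin 2) F)
  rw [jGL_sq_val]
  ext i j
  fin_cases i <;> fin_cases j <;> simp [Matrix.mul_apply, Fin.sum_univ_two]

theorem two_ne_zero_of_not_sq (hns : ¬ IsSquare (-1 : F)) : (2 : F) ≠ 0 := by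
  intro h
  apply hns
  exact ⟨1, by linear_combination -h⟩

/-- Involutions of the nonsplit torus are `±1`. -/
theorem rotG_sq_eq_one (hns : ¬ IsSquare (-1 : F)) (g : GL (Fin 2) F)
    (hg : g ∈ rotG F) (h : g * g = 1) : g = 1 ∨ g = jGL F * jGL F := by
  have h2 := two_ne_zero_of_not_sq hns
  rw [mem_rotG] at hg
  obtain ⟨h1, h2'⟩ := hg
  have hm : g.1 * g.1 = 1 := congrArg Units.val h
  have E00 : g.1 0 0 * g.1 0 0 + g.1 0 1 * g.1 1 0 = 1 := by
    have := congrFun (congrFun hm 0) 0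
    simpa [Matrix.mul_apply, Fin.sum_univ_two] using this
  have E10 : g.1 1 0 * g.1 0 0 + g.1 1 1 * g.1 1 0 = 0 := by
    have := congrFun (congrFun hm 1) 0
    simpa [Matrix.mul_apply, Fin.sum_univ_two] using this
  rw [h1, h2'] at E00
  rw [h1] at E10
  have hac : g.1 1 0 * g.1 1 1 = 0 := by
    have h4 : (2 : F) * (g.1 1 0 * g.1 1 1) = 0 := by linear_combination E10
    exact (mul_eq_zero.mp h4).resolve_left h2
  rcases mul_eq_zero.mp hac with hc | ha
  · rw [hc] at E00 h2'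
    have ha2 : g.1 1 1 * g.1 1 1 = 1 := by linear_combination E00
    rcases mul_self_eq_one_iff.mp ha2 with ha | ha
    · left
      apply Units.ext
      rw [Matrix.eta_fin_two g.1, h1, h2', hc, ha]
      show _ = (1 : Matrix (Fin 2) (Fin 2) F)
      ext i j
      fin_cases i <;> fin_cases j <;> simp
    · right
      apply Units.ext
      rw [jGL_sq_val, Matrix.eta_fin_two g.1, h1, h2', hc, ha]
      simp
  · exfalso
    apply hns
    refine ⟨g.1 1 0, ?_⟩
    rw [ha] at E00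
    linear_combination E00

/-- Elements of order dividing four in the nonsplit torus are powers of `J`. -/
theorem rotG_pow_four (hns : ¬ IsSquare (-1 : F)) (g : GL (Fin 2) F)
    (hg : g ∈ rotG F) (h : g ^ 4 = 1) : g ∈ Subgroup.zpowers (jGL F) := by
  have h2 := two_ne_zero_of_not_sq hns
  have h4 : (g * g) * (g * g) = 1 := by
    rw [← h]
    simp only [pow_succ, pow_zero, one_mul, mul_assoc]
  have hj2 : jGL F * jGL F ∈ Subgroup.zpowers (jGL F) :=
    Subgroup.mul_mem _ (Subgroup.mem_zpowers _) (Subgroup.mem_zpowers _)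
  rcases rotG_sq_eq_one hns (g * g) (Subgroup.mul_mem _ hg hg) h4 with h5 | h5
  · rcases rotG_sq_eq_one hns g hg h5 with h6 | h6
    · rw [h6]
      exact Subgroup.one_mem _
    · rw [h6]
      exact hj2
  · -- `g * g = -1`
    rw [mem_rotG] at hg
    obtain ⟨h1, h2'⟩ := hg
    have hm : g.1 * g.1 = !![-1, 0; 0, -1] := by
      rw [← jGL_sq_val, ← h5]
      rfl
    have E00 : g.1 0 0 * g.1 0 0 + g.1 0 1 * g.1 1 0 = -1 := by
      have := congrFun (congrFun hm 0) 0
      simpa [Matrix.mul_apply, Fin.sum_univ_two] using this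
    have E10 : g.1 1 0 * g.1 0 0 + g.1 1 1 * g.1 1 0 = 0 := by
      have := congrFun (congrFun hm 1) 0
      simpa [Matrix.mul_apply, Fin.sum_univ_two] using this
    rw [h1, h2'] at E00
    rw [h1] at E10
    have hca : g.1 1 0 * g.1 1 1 = 0 := by
      have h4 : (2 : F) * (g.1 1 0 * g.1 1 1) = 0 := by linear_combination E10
      exact (mul_eq_zero.mp h4).resolve_left h2
    have hac : g.1 1 1 = 0 := by
      rcases mul_eq_zero.mp hca with hc | ha
      · exfalso
        apply hns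
        refine ⟨g.1 1 1, ?_⟩
        rw [hc] at E00
        linear_combination -E00
      · exact ha
    rw [hac] at E00 h1
    have hc2 : g.1 1 0 * g.1 1 0 = 1 := by linear_combination -E00
    rcases mul_self_eq_one_iff.mp hc2 with hc | hc
    · have : g = jGL F := by
        apply Units.ext
        rw [jGL_val, Matrix.eta_fin_two g.1, h1, h2', hac, hc]
      rw [this]
      exact Subgroup.mem_zpowers _
    · have : g = jGL F * jGL F * jGL F := by
        apply Units.ext
        show g.1 = ((jGL F * jGL F : GL (Fin 2) F) : Matrix (Fin 2) (Fin 2) F) *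
          ((jGL F : GL (Fin 2) F) : Matrix (Fin 2) (Fin 2) F)
        rw [jGL_sq_val, jGL_val, Matrix.eta_fin_two g.1, h1, h2', hac, hc, Matrix.mul_fin_two]
        simp
      rw [this]
      exact Subgroup.mul_mem _ hj2 (Subgroup.mem_zpowers _)

/-- The semidihedral-like Sylow `2`-subgroup of `GL₂(q)`, `q ≡ 3 (mod 4)`: it contains `J`, and
its only involution all of whose commutators have order at most two is `-1`. -/
theorem exists_sd' [Fintype F] (hF : Odd (Fintype.card F)) (hq4 : Fintype.card F % 4 = 3) :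
    ∃ A : Subgroup (GL (Fin 2) F),
      Nat.card ↥A =
        2 ^ (padicValNat 2 (Fintype.card F - 1) + padicValNat 2 (Fintype.card F + 1) + 1) ∧
      jGL F ∈ A ∧
      (∀ g ∈ A, g * g = 1 →
        (∀ y ∈ A, (y * g * y⁻¹ * g⁻¹) * (y * g * y⁻¹ * g⁻¹) = 1) →
          g = 1 ∨ g = jGL F * jGL F) := by
  classical
  have : Fact (Nat.Prime 2) := ⟨Nat.prime_two⟩
  have h2 := two_ne_zero_of_odd_card'' hF
  obtain ⟨hq, hq3⟩ := card_facts hF
  have hns : ¬ IsSquare (-1 : F) := by
    rw [FiniteField.isSquare_neg_one_iff]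
    omega
  have hfin : Finite (GL (Fin 2) F) := inferInstance
  obtain ⟨T₂, hT₂c, hT₂⟩ := exists_sylow_of_comm (A := ↥(rotG F))
    (fun a b => Subtype.ext (rotG_comm a.1 b.1 a.2 b.2))
  obtain ⟨C, hCdef⟩ : ∃ C : Subgroup (GL (Fin 2) F), C = T₂.map (rotG F).subtype := ⟨_, rfl⟩
  have hCle : C ≤ rotG F := by
    rw [hCdef]
    exact Subgroup.map_subtype_le T₂
  have hJC : jGL F ∈ C := by
    rw [hCdef]
    exact ⟨⟨jGL F, jGL_mem⟩, hT₂ _ (Subtype.ext (jGL_pow F)), rfl⟩
  have hCc : Nat.card ↥C =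
      2 ^ (padicValNat 2 (Fintype.card F - 1) + padicValNat 2 (Fintype.card F + 1)) := by
    rw [hCdef, Subgroup.card_map_of_injective (Subgroup.subtype_injective _), hT₂c,
      card_rotG hns]
    congr 1
    have e : Fintype.card F ^ 2 - 1 = (Fintype.card F - 1) * (Fintype.card F + 1) := by
      obtain ⟨k, hk⟩ : ∃ k, Fintype.card F = k + 1 := ⟨Fintype.card F - 1, by omega⟩
      rw [hk]
      simp only [Nat.add_sub_cancel]
      rw [Nat.sub_eq_iff_eq_add (Nat.one_le_pow _ _ (by omega))]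
      ring
    rw [e, padicValNat.mul (by omega) (by omega)]
  have hCdet : ∀ c ∈ C, Matrix.GeneralLinearGroup.det c = 1 ∨
      Matrix.GeneralLinearGroup.det c = -1 := by
    intro c hc
    apply two_elt_units hq4 _
      (padicValNat 2 (Fintype.card F - 1) + padicValNat 2 (Fintype.card F + 1))
    rw [← map_pow]
    have h3 : (⟨c, hc⟩ : ↥C) ^ Nat.card ↥C = 1 := pow_card_eq_one'
    rw [hCc] at h3
    have h4 : c ^ 2 ^ (padicValNat 2 (Fintype.card F - 1) + padicValNat 2 (Fintype.card F + 1))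
        = 1 := congrArg Subtype.val h3
    rw [h4, map_one]
  have hr2 : rGL F * rGL F ∈ C := by
    rw [rGL_mul_self]
    exact C.one_mem
  have hnorm : ∀ t ∈ C, rGL F * t * (rGL F)⁻¹ ∈ C := by
    intro t ht
    rcases hCdet t ht with hd | hd
    · rw [rGL_conj_of_det_one t (hCle ht) hd]
      exact C.inv_mem ht
    · rw [rGL_conj_of_det_neg_one t (hCle ht) hd]
      exact C.mul_mem (C.mul_mem hJC hJC) (C.inv_mem ht)
  have hrn : rGL F ∉ C := fun h => rGL_not_mem h2 (hCle h)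
  obtain ⟨A, hAdef⟩ : ∃ A : Subgroup (GL (Fin 2) F), A = normExt C (rGL F) hr2 hnorm :=
    ⟨_, rfl⟩
  have hmemA : ∀ g, g ∈ A ↔ g ∈ C ∨ g * rGL F ∈ C := by
    rw [hAdef]
    exact fun g => Iff.rfl
  have hAc : Nat.card ↥A =
      2 ^ (padicValNat 2 (Fintype.card F - 1) + padicValNat 2 (Fintype.card F + 1) + 1) := by
    rw [hAdef, card_normExt C _ hr2 hnorm hrn, hCc, pow_succ]
  -- an element of `C` of order greater than four
  obtain ⟨y, hyC, hy4⟩ : ∃ y ∈ C, y ^ 4 ≠ 1 := by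
    by_contra hcon
    push Not at hcon
    have hle : C ≤ Subgroup.zpowers (jGL F) :=
      fun y hy => rotG_pow_four hns y (hCle hy) (hcon y hy)
    have h3 := Subgroup.card_le_of_le hle
    rw [Nat.card_zpowers, hCc] at h3
    have h4 : orderOf (jGL F) ≤ 4 := orderOf_le_of_pow_eq_one (by norm_num) (jGL_pow F)
    have h5 : 2 ≤ padicValNat 2 (Fintype.card F + 1) := by
      have h6 : 2 ^ 2 ∣ Fintype.card F + 1 := by
        apply Nat.dvd_of_mod_eq_zero
        omega
      exact (padicValNat_dvd_iff_le (by omega)).mp h6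
    have h7 : 2 ^ 2 ≤ 2 ^ padicValNat 2 (Fintype.card F + 1) :=
      Nat.pow_le_pow_right (by norm_num) h5
    have h8 : padicValNat 2 (Fintype.card F - 1) = 1 := v2_of_mod_four _ (by omega)
    rw [h8, pow_add] at h3
    omega
  refine ⟨A, hAc, (hmemA _).mpr (Or.inl hJC), ?_⟩
  intro g hgA hgg hcomm
  rcases (hmemA g).mp hgA with hg | hg
  · exact rotG_sq_eq_one hns g (hCle hg) hgg
  · exfalso
    apply hy4
    obtain ⟨t, htdef⟩ : ∃ t, t = g * rGL F := ⟨_, rfl⟩
    rw [← htdef] at hg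
    have hgt : g = t * rGL F := by
      rw [htdef, mul_assoc, rGL_mul_self, mul_one]
    obtain ⟨c, hcdef⟩ : ∃ c, c = rGL F * y⁻¹ * (rGL F)⁻¹ := ⟨_, rfl⟩
    have hcC : c ∈ C := by
      rw [hcdef]
      exact hnorm _ (C.inv_mem hyC)
    have htc : t * c = c * t := rotG_comm _ _ (hCle hg) (hCle hcC)
    have h3 : y * g * y⁻¹ * g⁻¹ = y * c := by
      rw [hgt, hcdef]
      have : y * (t * rGL F) * y⁻¹ * (t * rGL F)⁻¹ =
          y * (t * (rGL F * y⁻¹ * (rGL F)⁻¹) * t⁻¹) := by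
        group
      rw [this, ← hcdef, htc]
      group
    have h4 := hcomm y ((hmemA y).mpr (Or.inl hyC))
    rw [h3] at h4
    have hyc : y * c = c * y := rotG_comm _ _ (hCle hyC) (hCle hcC)
    have hdetinv : ∀ d : Fˣ, d = 1 ∨ d = -1 → d⁻¹ = d := by
      rintro d (rfl | rfl) <;> simp
    rcases hCdet y hyC with hd | hd
    · have hc : c = y := by
        rw [hcdef, rGL_conj_of_det_one y⁻¹ (hCle (C.inv_mem hyC))
          (by rw [map_inv, hd, inv_one]), inv_inv]
      rw [hc] at h4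
      rw [← h4]
      simp only [pow_succ, pow_zero, one_mul, mul_assoc]
    · have hc : c = jGL F * jGL F * y := by
        rw [hcdef, rGL_conj_of_det_neg_one y⁻¹ (hCle (C.inv_mem hyC))
          (by rw [map_inv, hd]; simp), inv_inv]
      rw [hc] at h4
      have h5 : y * (jGL F * jGL F * y) * (y * (jGL F * jGL F * y)) =
          (jGL F * jGL F) * (jGL F * jGL F) * y ^ 4 := by
        have e1 : y * (jGL F * jGL F * y) = (jGL F * jGL F) * (y * y) := by
          rw [← mul_assoc, ← jGL_sq_comm y, mul_assoc]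
        rw [e1]
        have e2 : y * y * (jGL F * jGL F * (y * y)) = (jGL F * jGL F) * (y * y * (y * y)) := by
          rw [← mul_assoc (y * y), ← jGL_sq_comm (y * y), mul_assoc]
        rw [mul_assoc, e2, ← mul_assoc]
        congr 1
        simp only [pow_succ, pow_zero, one_mul, mul_assoc]
      rw [h5, jGL_sq_sq, one_mul] at h4
      exact h4

/-- Normal `2`-rank of `GL_n(q)`, `q ≡ 3 (mod 4)`, `n = 2m + l`. -/
theorem gl_normalRank_three [Fintype F] (hF : Odd (Fintype.card F))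
    (hq4 : Fintype.card F % 4 = 3) (n m l : ℕ) (hn : n = 2 * m + l)
    (hcard : padicValNat 2 (Nat.card (GL (Fin n) F)) =
      (padicValNat 2 (Fintype.card F - 1) + padicValNat 2 (Fintype.card F + 1) + 1) * m + l +
        padicValNat 2 m.factorial)
    (S : Sylow 2 (GL (Fin n) F)) : NormalRank2 ↥(S : Subgroup (GL (Fin n) F)) (m + l) := by
  classical
  have : Fact (Nat.Prime 2) := ⟨Nat.prime_two⟩
  have h2 := two_ne_zero_of_odd_card'' hF
  obtain ⟨A, hAc, hjA, hAinv⟩ := exists_sd' hF hq4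
  have hce : Fintype.card ((Fin 2 × Fin m) ⊕ Fin l) = Fintype.card (Fin n) := by
    simp
    omega
  obtain ⟨ε⟩ : Nonempty ((Fin 2 × Fin m) ⊕ Fin l ≃ Fin n) := ⟨Fintype.equivOfCardEq hce⟩
  obtain ⟨Sy, hSc, -⟩ := exists_sylow_perm m (Fin m) (by simp)
  obtain ⟨β, hβdef⟩ : ∃ β : (Fin m → ↥A) × (Fin l → ℤˣ) →* GL ((Fin 2 × Fin m) ⊕ Fin l) F,
    β = βA (Fin m) (Fin l) A := ⟨_, rfl⟩
  obtain ⟨π, hπdef⟩ : ∃ π : Equiv.Perm (Fin m) →* GL ((Fin 2 × Fin m) ⊕ Fin l) F,
    π = πG (Fin m) (Fin l) := ⟨_, rfl⟩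
  have hconj : ∀ (σ : Equiv.Perm (Fin m)) (f : Fin m → ↥A) (u : Fin l → ℤˣ),
      π σ * β (f, u) * (π σ)⁻¹ = β (f ∘ σ.symm, u) := by
    intro σ f u
    rw [hβdef, hπdef]
    exact glmodel_conj (Fin m) (Fin l) A σ f u
  have hnorm : ∀ k ∈ Sy.map π, ∀ h ∈ β.range, k * h * k⁻¹ ∈ β.range := by
    rintro _ ⟨σ, -, rfl⟩ _ ⟨⟨d, e⟩, rfl⟩
    exact ⟨(d ∘ σ.symm, e), (hconj σ d e).symm⟩
  have hdisj : β.range ⊓ Sy.map π = ⊥ := by
    rw [hβdef, hπdef]
    exact glmodel_disjoint (Fin m) (Fin l) A Sy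
  have hβinj : Function.Injective β := by
    rw [hβdef]
    exact βA_injective (Fin m) (Fin l) A h2
  have hπinj : Function.Injective π := by
    rw [hπdef]
    exact πG_injective (Fin m) (Fin l)
  have hcW : Nat.card ↥(β.range ⊔ Sy.map π) = 2 ^ padicValNat 2 (Nat.card (GL (Fin n) F)) := by
    rw [card_sup_of_normalizes _ _ hnorm hdisj, card_range_of_inj _ hβinj,
      Subgroup.card_map_of_injective hπinj, hSc, Nat.card_prod, Nat.card_fun,
      Nat.card_fun, hAc, hcard]
    simp only [Nat.card_eq_fintype_card, Fintype.card_units_int, Fintype.card_fin]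
    rw [← pow_mul, ← pow_add, ← pow_add]
  apply normalRank2_sylow_of_model
    (Units.mapEquiv (Matrix.reindexAlgEquiv F F ε).toMulEquiv) _ hcW
  obtain ⟨j, hjdef⟩ : ∃ j : ↥A, j = ⟨jGL F, hjA⟩ := ⟨_, rfl⟩
  have hjval : (j : GL (Fin 2) F) = jGL F := by rw [hjdef]
  refine wreath_normalRank m l β π Sy hβinj hconj ?_ ?_ j (j * j) ?_ ?_ ?_ ?_ ?_
  · intro u
    funext i
    show u i * u i = 1
    exact Int.units_mul_self (u i)
  · rw [Nat.card_fun]
    simp
  · intro h
    apply jGL_sq_ne_one h2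
    have := congrArg Subtype.val h
    rw [Subgroup.coe_mul, hjval] at this
    exact this
  · apply Subtype.ext
    rw [Subgroup.coe_mul, Subgroup.coe_mul, hjval]
    exact jGL_sq_sq F
  · intro h
    apply jGL_sq_ne_one h2
    have := congrArg Subtype.val h
    rw [Subgroup.coe_mul, hjval] at this
    exact this
  · intro g
    apply Subtype.ext
    show (j : GL (Fin 2) F) * (j : GL (Fin 2) F) * (g : GL (Fin 2) F) =
      (g : GL (Fin 2) F) * ((j : GL (Fin 2) F) * (j : GL (Fin 2) F))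
    rw [hjval]
    exact jGL_sq_comm _
  · intro g hg hcomm
    have h3 : g.1 * g.1 = 1 := by
      have := congrArg Subtype.val hg
      rw [Subgroup.coe_mul] at this
      exact this
    have h4 := hAinv g.1 g.2 h3 (by
      intro y hy
      have := congrArg Subtype.val (hcomm ⟨y, hy⟩)
      exact this)
    rcases h4 with h4 | h4
    · left
      exact Subtype.ext h4
    · right
      apply Subtype.ext
      rw [h4, Subgroup.coe_mul, hjval]

/-- Normal `2`-rank of `GL_n(q)`, `q` odd. -/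
theorem gl_normalRank [Fintype F] {q : ℕ} (hF : Fintype.card F = q) (hodd : Odd q) (n : ℕ)
    (S : Sylow 2 (GL (Fin n) F)) :
    (q % 4 = 1 → NormalRank2 ↥(S : Subgroup (GL (Fin n) F)) n) ∧
    (q % 4 = 3 → NormalRank2 ↥(S : Subgroup (GL (Fin n) F)) ((n + 1) / 2)) := by
  subst hF
  refine ⟨fun h => gl_normalRank_one hodd h n S, fun h => ?_⟩
  obtain ⟨hq, hq3⟩ := card_facts hodd
  have h1 : padicValNat 2 (Fintype.card F - 1) = 1 := v2_of_mod_four _ (by omega)
  obtain ⟨m, rfl | rfl⟩ : ∃ m, n = 2 * m ∨ n = 2 * m + 1 := ⟨n / 2, by omega⟩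
  · have e : (2 * m + 1) / 2 = m + 0 := by omega
    rw [e]
    apply gl_normalRank_three hodd h (2 * m) m 0 rfl
    rw [Matrix.card_GL_field, v2_card_GL_even _ hq hq3 m, h1]
    ring
  · have e : (2 * m + 1 + 1) / 2 = m + 1 := by omega
    rw [e]
    apply gl_normalRank_three hodd h (2 * m + 1) m 1 rfl
    rw [Matrix.card_GL_field, v2_card_GL_odd _ hq hq3 m, h1]
    ring

end three

end Cfsg.Agent.Lib.Helper44
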